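import Cfsg.Agent.Helper2.CharOrtho
import Cfsg.Agent.Helper2.CharComplete
import Cfsg.Agent.Helper2.CharLinear
import Cfsg.Agent.Helper2.CharConstituent
import Cfsg.Agent.Helper2.ConjClass
import Cfsg.Agent.Helper24.Schur
import Cfsg.Agent.Helper24.ClassSum

set_option autoImplicit false

namespace Cfsg.Agent.Helper13

open Cfsg
open scoped ComplexConjugate

section CentralOver

variable {G : Type*} [Group G] [Fintype G]

/-- The central character of an irreducible character on a central subgroup, as a hom. -/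
theorem exists_central_hom (N : Subgroup G) (hN : N ≤ Subgroup.center G) {χ : G → ℂ}
    (hχ : IsIrrCharacter G χ) :
    ∃ μ : N →* ℂˣ, ∀ (g : G) (n : N), χ (g * n) = ((μ n : ℂˣ) : ℂ) * χ g := by
  have h1 : χ 1 ≠ 0 := Helper24.irr_one_ne_zero hχ
  have key : ∀ (n : N) (g : G), χ (g * n) = χ n / χ 1 * χ g := by
    intro n g
    obtain ⟨c, hc, -⟩ := Helper24.char_central_mul hχ (n : G) (hN n.2)
    have e1 := hc 1
    rw [one_mul] at e1
    rw [hc g, e1]
    field_simp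
  let f : N →* ℂ :=
    { toFun := fun n => χ n / χ 1
      map_one' := by
        show χ ((1 : N) : G) / χ 1 = 1
        rw [Subgroup.coe_one]
        exact div_self h1
      map_mul' := by
        intro a b
        show χ ((a * b : N) : G) / χ 1 = χ a / χ 1 * (χ b / χ 1)
        rw [Subgroup.coe_mul, key b a]
        ring }
  refine ⟨f.toHomUnits, fun g n => ?_⟩
  rw [MonoidHom.coe_toHomUnits]
  exact key n g

theorem classInner_res_central (N : Subgroup G) [Fintype N] {χ : G → ℂ} (μ : N →* ℂˣ)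
    (hμ : ∀ (g : G) (n : N), χ (g * n) = ((μ n : ℂˣ) : ℂ) * χ g) {ψ : N → ℂ}
    (hψ : IsIrrCharacter N ψ) [Decidable ((fun n : N => ((μ n : ℂˣ) : ℂ)) = ψ)] :
    classInner (fun n : N => χ n) ψ
      = χ 1 * (if (fun n : N => ((μ n : ℂˣ) : ℂ)) = ψ then 1 else 0) := by
  have e : (fun n : N => χ n) = χ 1 • (fun n : N => ((μ n : ℂˣ) : ℂ)) := by
    funext n
    have := hμ 1 n
    rw [one_mul] at this
    rw [Pi.smul_apply, smul_eq_mul, this, mul_comm]
  rw [e, Helper2.classInner_smul_left,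
    Helper2.classInner_irr (Helper2.isIrrCharacter_of_hom μ) hψ]
  by_cases hA : (fun n : N => ((μ n : ℂˣ) : ℂ)) = ψ
  · rw [if_pos hA, if_pos hA]
  · rw [if_neg hA, if_neg hA]

/-- The "special" condition in terms of conjugacy of central translates. -/
theorem special_iff (N : Subgroup G) (hN : N ≤ Subgroup.center G) (g : G) :
    (∀ x : G, x⁻¹ * g⁻¹ * x * g ∈ N → x * g = g * x) ↔
      ∀ n : N, IsConj (g * n) g → n = 1 := by
  constructor
  · intro h n hn
    obtain ⟨c, hc⟩ := isConj_iff.1 hn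
    have e0 : c * g = g * c * (n : G)⁻¹ := by
      calc c * g = c * (g * n) * c⁻¹ * c * (n : G)⁻¹ := by group
        _ = g * c * (n : G)⁻¹ := by rw [hc]
    have e1 : c⁻¹ * g⁻¹ * c * g = (n : G)⁻¹ := by
      calc c⁻¹ * g⁻¹ * c * g = c⁻¹ * g⁻¹ * (c * g) := by group
        _ = c⁻¹ * g⁻¹ * (g * c * (n : G)⁻¹) := by rw [e0]
        _ = (n : G)⁻¹ := by group
    have e2 : c * g = g * c := h c (by rw [e1]; exact N.inv_mem n.2)
    have e3 : g * (c * (n : G) * c⁻¹) = g := by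
      calc g * (c * (n : G) * c⁻¹) = g * c * n * c⁻¹ := by group
        _ = c * g * n * c⁻¹ := by rw [e2]
        _ = c * (g * n) * c⁻¹ := by group
        _ = g := hc
    have e4 : c * (n : G) * c⁻¹ = 1 := mul_left_cancel (a := g) (by rw [e3, mul_one])
    have e5 : (n : G) = 1 := by
      calc (n : G) = c⁻¹ * (c * n * c⁻¹) * c := by group
        _ = 1 := by rw [e4]; group
    exact Subtype.ext e5
  · intro h x hx
    have e1 : IsConj (g * (((⟨_, hx⟩ : N)⁻¹ : N) : G)) g := by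
      rw [isConj_iff]
      refine ⟨x, ?_⟩
      show x * (g * (x⁻¹ * g⁻¹ * x * g)⁻¹) * x⁻¹ = g
      group
    have e2 := h _ e1
    have e3 : x⁻¹ * g⁻¹ * x * g = 1 := by
      have e4 := congrArg (fun n : N => (n : G)) e2
      have e5 : (x⁻¹ * g⁻¹ * x * g)⁻¹ = 1 := e4
      exact inv_eq_one.1 e5
    calc x * g = g * x * (x⁻¹ * g⁻¹ * x * g) := by group
      _ = g * x := by rw [e3, mul_one]

/-- The special condition is invariant under conjugation and central translation. -/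
theorem special_conj_mul (N : Subgroup G) (hN : N ≤ Subgroup.center G) (g x n : G) (hn : n ∈ N)
    (h : ∀ y : G, y⁻¹ * g⁻¹ * y * g ∈ N → y * g = g * y) :
    ∀ y : G, y⁻¹ * (x * g * x⁻¹ * n)⁻¹ * y * (x * g * x⁻¹ * n) ∈ N →
      y * (x * g * x⁻¹ * n) = (x * g * x⁻¹ * n) * y := by
  intro y hy
  have hc : ∀ a : G, a * n = n * a := Subgroup.mem_center_iff.1 (hN hn)
  have hz : ∀ a : G, a * (y⁻¹ * (x * g * x⁻¹ * n)⁻¹ * y * (x * g * x⁻¹ * n))
      = (y⁻¹ * (x * g * x⁻¹ * n)⁻¹ * y * (x * g * x⁻¹ * n)) * a :=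
    Subgroup.mem_center_iff.1 (hN hy)
  have e1 : y⁻¹ * (x * g * x⁻¹ * n)⁻¹ * y * (x * g * x⁻¹ * n)
      = y⁻¹ * (x * g⁻¹ * x⁻¹) * y * (x * g * x⁻¹) := by
    calc y⁻¹ * (x * g * x⁻¹ * n)⁻¹ * y * (x * g * x⁻¹ * n)
        = y⁻¹ * n⁻¹ * ((x * g⁻¹ * x⁻¹) * y * (x * g * x⁻¹) * n) := by group
      _ = y⁻¹ * n⁻¹ * (n * ((x * g⁻¹ * x⁻¹) * y * (x * g * x⁻¹))) := by rw [hc]
      _ = y⁻¹ * (x * g⁻¹ * x⁻¹) * y * (x * g * x⁻¹) := by group
  have e2 : (x⁻¹ * y * x)⁻¹ * g⁻¹ * (x⁻¹ * y * x) * g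
      = y⁻¹ * (x * g * x⁻¹ * n)⁻¹ * y * (x * g * x⁻¹ * n) := by
    calc (x⁻¹ * y * x)⁻¹ * g⁻¹ * (x⁻¹ * y * x) * g
        = x⁻¹ * (y⁻¹ * (x * g⁻¹ * x⁻¹) * y * (x * g * x⁻¹)) * x := by group
      _ = x⁻¹ * (y⁻¹ * (x * g * x⁻¹ * n)⁻¹ * y * (x * g * x⁻¹ * n)) * x := by rw [e1]
      _ = x⁻¹ * (x * (y⁻¹ * (x * g * x⁻¹ * n)⁻¹ * y * (x * g * x⁻¹ * n))) := by
          rw [mul_assoc, ← hz x]
      _ = y⁻¹ * (x * g * x⁻¹ * n)⁻¹ * y * (x * g * x⁻¹ * n) := by group
  have e3 : (x⁻¹ * y * x) * g = g * (x⁻¹ * y * x) := h _ (by rw [e2]; exact hy)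
  have e4 : y * (x * g * x⁻¹) = (x * g * x⁻¹) * y := by
    calc y * (x * g * x⁻¹) = x * ((x⁻¹ * y * x) * g) * x⁻¹ := by group
      _ = x * (g * (x⁻¹ * y * x)) * x⁻¹ := by rw [e3]
      _ = (x * g * x⁻¹) * y := by group
  calc y * (x * g * x⁻¹ * n) = y * (x * g * x⁻¹) * n := by group
    _ = (x * g * x⁻¹) * y * n := by rw [e4]
    _ = (x * g * x⁻¹) * (y * n) := by group
    _ = (x * g * x⁻¹) * (n * y) := by rw [hc]
    _ = (x * g * x⁻¹ * n) * y := by group

theorem isConj_shift (N : Subgroup G) (hN : N ≤ Subgroup.center G) (g : G) (n₀ i : N)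
    (h0 : IsConj (g * (n₀ : G)) g) :
    IsConj (g * (i : G)) g ↔ IsConj (g * ((i * n₀ : N) : G)) g := by
  have hz : ∀ y : G, y * (n₀ : G) = n₀ * y := Subgroup.mem_center_iff.1 (hN n₀.2)
  have hi : ∀ y : G, y * (i : G) = i * y := Subgroup.mem_center_iff.1 (hN i.2)
  constructor
  · intro hd
    obtain ⟨b, hb⟩ := isConj_iff.1 hd
    have e1 : IsConj (g * ((i * n₀ : N) : G)) (g * (n₀ : G)) := by
      rw [isConj_iff]
      refine ⟨b, ?_⟩
      rw [Subgroup.coe_mul]
      calc b * (g * ((i : G) * (n₀ : G))) * b⁻¹ = b * (g * i) * ((n₀ : G) * b⁻¹) := by group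
        _ = b * (g * i) * (b⁻¹ * (n₀ : G)) := by rw [hz]
        _ = b * (g * i) * b⁻¹ * (n₀ : G) := by group
        _ = g * (n₀ : G) := by rw [hb]
    exact e1.trans h0
  · intro hd
    obtain ⟨c, hc⟩ := isConj_iff.1 h0
    have e1 : IsConj (g * ((i * n₀ : N) : G)) (g * (i : G)) := by
      rw [isConj_iff]
      refine ⟨c, ?_⟩
      rw [Subgroup.coe_mul]
      calc c * (g * ((i : G) * (n₀ : G))) * c⁻¹ = c * g * ((i : G) * ((n₀ : G) * c⁻¹)) := by group
        _ = c * g * ((i : G) * (c⁻¹ * (n₀ : G))) := by rw [hz]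
        _ = c * g * ((i : G) * c⁻¹) * (n₀ : G) := by group
        _ = c * g * (c⁻¹ * (i : G)) * (n₀ : G) := by rw [hi]
        _ = c * g * c⁻¹ * ((i : G) * (n₀ : G)) := by group
        _ = c * g * c⁻¹ * ((n₀ : G) * (i : G)) := by rw [hi]
        _ = c * g * (c⁻¹ * (n₀ : G)) * (i : G) := by group
        _ = c * g * ((n₀ : G) * c⁻¹) * (i : G) := by rw [hz]
        _ = c * (g * (n₀ : G)) * c⁻¹ * (i : G) := by group
        _ = g * (i : G) := by rw [hc]
    exact e1.symm.trans hd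

/-- Irreducible characters of a central subgroup are multiplicative. -/
theorem irr_central_mul (N : Subgroup G) [Fintype N] (hN : N ≤ Subgroup.center G) {ψ : N → ℂ}
    (hψ : IsIrrCharacter N ψ) : ψ 1 = 1 ∧ ∀ a b : N, ψ (a * b) = ψ a * ψ b := by
  have hcomm : ∀ a b : N, a * b = b * a := by
    intro a b
    apply Subtype.ext
    rw [Subgroup.coe_mul, Subgroup.coe_mul]
    exact Subgroup.mem_center_iff.1 (hN b.2) a
  have h1 : ψ 1 = 1 := Helper2.irr_abelian_linear hcomm hψ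
  refine ⟨h1, fun a b => ?_⟩
  have hb : b ∈ Subgroup.center N := by
    rw [Subgroup.mem_center_iff]
    intro g
    exact hcomm g b
  obtain ⟨c, hc, -⟩ := Helper24.char_central_mul hψ b hb
  have e1 := hc 1
  rw [one_mul, h1, mul_one] at e1
  rw [hc a, e1, mul_comm]

/-- The sum of `conj ψ` over the central elements `n` with `g n ∼ g`. -/
theorem sum_conj_central (N : Subgroup G) [Fintype N] (hN : N ≤ Subgroup.center G) {ψ : N → ℂ}
    (hψ : IsIrrCharacter N ψ) (hfaith : ∀ n : N, ψ n = ψ 1 → n = 1) (g : G)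
    [DecidablePred fun n : N => IsConj (g * (n : G)) g]
    [Decidable (∀ x : G, x⁻¹ * g⁻¹ * x * g ∈ N → x * g = g * x)] :
    ∑ n : N, (if IsConj (g * (n : G)) g then conj (ψ n) else 0)
      = if (∀ x : G, x⁻¹ * g⁻¹ * x * g ∈ N → x * g = g * x) then 1 else 0 := by
  classical
  obtain ⟨h1, hmul⟩ := irr_central_mul N hN hψ
  by_cases hs : ∀ x : G, x⁻¹ * g⁻¹ * x * g ∈ N → x * g = g * x
  · rw [if_pos hs]
    have hs' := (special_iff N hN g).1 hs
    have e : ∀ n : N, (if IsConj (g * (n : G)) g then conj (ψ n) else 0)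
        = if n = 1 then (1 : ℂ) else 0 := by
      intro n
      by_cases hn : n = 1
      · rw [if_pos hn, if_pos, hn, h1, map_one]
        rw [hn, Subgroup.coe_one, mul_one]
      · rw [if_neg hn, if_neg]
        intro hc
        exact hn (hs' n hc)
    rw [Finset.sum_congr rfl (fun n _ => e n), Finset.sum_ite_eq' Finset.univ (1 : N)]
    simp
  · rw [if_neg hs]
    have hs' : ¬ ∀ n : N, IsConj (g * (n : G)) g → n = 1 := fun h => hs ((special_iff N hN g).2 h)
    obtain ⟨n₀, hn₀⟩ := not_forall.1 hs'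
    obtain ⟨hd₀, hne⟩ := Classical.not_imp.1 hn₀
    have hψ0 : ψ n₀ ≠ 1 := fun h => hne (hfaith n₀ (by rw [h, h1]))
    have e1 : ∑ n : N, (if IsConj (g * (n : G)) g then conj (ψ n) else 0)
        = ∑ n : N, (if IsConj (g * ((n * n₀ : N) : G)) g then conj (ψ (n * n₀)) else 0) :=
      (Equiv.sum_comp (Equiv.mulRight n₀)
        (fun n : N => if IsConj (g * (n : G)) g then conj (ψ n) else 0)).symm
    have e2 : ∑ n : N, (if IsConj (g * ((n * n₀ : N) : G)) g then conj (ψ (n * n₀)) else 0)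
        = conj (ψ n₀) * ∑ n : N, (if IsConj (g * (n : G)) g then conj (ψ n) else 0) := by
      rw [Finset.mul_sum]
      refine Finset.sum_congr rfl fun n _ => ?_
      by_cases hd : IsConj (g * (n : G)) g
      · rw [if_pos hd, if_pos ((isConj_shift N hN g n₀ n hd₀).1 hd), hmul, map_mul, mul_comm]
      · rw [if_neg hd, if_neg (fun h => hd ((isConj_shift N hN g n₀ n hd₀).2 h)), mul_zero]
    have e3 : conj (ψ n₀) ≠ 1 := by
      intro h
      apply hψ0
      have := congrArg conj h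
      rwa [Complex.conj_conj, map_one] at this
    have e4 : (1 - conj (ψ n₀)) * ∑ n : N, (if IsConj (g * (n : G)) g then conj (ψ n) else 0)
        = 0 := by
      rw [sub_mul, one_mul, ← e2, ← e1, sub_self]
    rcases mul_eq_zero.1 e4 with h | h
    · exact absurd (sub_eq_zero.1 h).symm e3
    · exact h

/-- Summing a function of the coset over the group. -/
theorem sum_comp_quotient_mk (N : Subgroup G) [N.Normal] [Fintype (G ⧸ N)] (F : G ⧸ N → ℂ) :
    ∑ g : G, F (g : G ⧸ N) = (Nat.card N : ℂ) * ∑ q : G ⧸ N, F q := by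
  classical
  rw [← Finset.sum_fiberwise (s := Finset.univ) (g := fun g : G => (g : G ⧸ N))
    (f := fun g => F (g : G ⧸ N)), Finset.mul_sum]
  refine Finset.sum_congr rfl fun q _ => ?_
  have h1 : ∀ g ∈ Finset.univ.filter (fun g : G => (g : G ⧸ N) = q), F (g : G ⧸ N) = F q := by
    intro g hg
    rw [(Finset.mem_filter.1 hg).2]
  rw [Finset.sum_congr rfl h1, Finset.sum_const, nsmul_eq_mul]
  congr 1
  have h2 := QuotientGroup.card_preimage_mk N ({q} : Set (G ⧸ N))
  have h3 : Nat.card ({q} : Set (G ⧸ N)) = 1 := by simp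
  rw [h3, mul_one] at h2
  rw [← h2]
  have h4 : Nat.card (QuotientGroup.mk ⁻¹' ({q} : Set (G ⧸ N)))
      = Nat.card {g : G // (g : G ⧸ N) = q} := rfl
  rw [h4, Nat.card_eq_fintype_card, Fintype.card_subtype]

/-- Counting the irreducible characters over a faithful character of a central subgroup. -/
theorem card_irr_over_central (N : Subgroup G) [Fintype N] (hN : N ≤ Subgroup.center G)
    (ψ : IrrCharacter N) (hfaith : ∀ n : N, (ψ : N → ℂ) n = (ψ : N → ℂ) 1 → n = 1)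
    [DecidablePred fun g : G => (∀ x : G, x⁻¹ * g⁻¹ * x * g ∈ N → x * g = g * x)] :
    (Nat.card {χ : IrrCharacter G //
        classInner (fun n : N => (χ : G → ℂ) n) (ψ : N → ℂ) ≠ 0} : ℂ)
        * ((Nat.card G : ℂ) * (Nat.card N : ℂ))
      = ∑ g : G, (if (∀ x : G, x⁻¹ * g⁻¹ * x * g ∈ N → x * g = g * x)
          then (Nat.card (Subgroup.centralizer ({g} : Set G)) : ℂ) else 0) := by
  classical
  haveI : Finite (IrrCharacter G) := Helper24.finite_irrCharacter
  haveI : Fintype (IrrCharacter G) := Fintype.ofFinite _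
  have hN0 : (Nat.card N : ℂ) ≠ 0 := by exact_mod_cast Nat.card_pos.ne'
  have hG0 : (Nat.card G : ℂ) ≠ 0 := by exact_mod_cast Nat.card_pos.ne'
  choose μ hμ using fun χ : IrrCharacter G => exists_central_hom N hN χ.2
  -- the weight
  have hw1 : ∀ χ : IrrCharacter G,
      classInner (fun n : N => (χ : G → ℂ) n) (ψ : N → ℂ)
        = (χ : G → ℂ) 1 * (if (fun n : N => ((μ χ n : ℂˣ) : ℂ)) = (ψ : N → ℂ) then 1 else 0) :=
    fun χ => classInner_res_central N (μ χ) (hμ χ) ψ.2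
  have hw2 : ∀ χ : IrrCharacter G,
      (if (fun n : N => ((μ χ n : ℂˣ) : ℂ)) = (ψ : N → ℂ) then (1 : ℂ) else 0)
        = (Nat.card N : ℂ)⁻¹ * ∑ n : N, ((μ χ n : ℂˣ) : ℂ) * conj ((ψ : N → ℂ) n) := by
    intro χ
    have h := Helper2.classInner_irr (Helper2.isIrrCharacter_of_hom (μ χ)) ψ.2
    unfold classInner at h
    rw [h]
  have hnorm : ∀ χ : IrrCharacter G,
      ∑ g : G, (χ : G → ℂ) g * conj ((χ : G → ℂ) g) = (Nat.card G : ℂ) := by
    intro χ
    have h := Helper2.classInner_irr χ.2 χ.2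
    rw [if_pos rfl] at h
    unfold classInner at h
    rw [inv_mul_eq_iff_eq_mul₀ hG0, mul_one] at h
    exact h
  -- the cardinality as a sum of weights
  have hcard : (Nat.card {χ : IrrCharacter G //
        classInner (fun n : N => (χ : G → ℂ) n) (ψ : N → ℂ) ≠ 0} : ℂ)
      = ∑ χ : IrrCharacter G,
          (if (fun n : N => ((μ χ n : ℂˣ) : ℂ)) = (ψ : N → ℂ) then (1 : ℂ) else 0) := by
    rw [Nat.card_eq_fintype_card, Fintype.card_subtype, Finset.card_filter]
    push_cast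
    refine Finset.sum_congr rfl fun χ _ => ?_
    have h1 : (χ : G → ℂ) 1 ≠ 0 := Helper24.irr_one_ne_zero χ.2
    by_cases hA : (fun n : N => ((μ χ n : ℂˣ) : ℂ)) = (ψ : N → ℂ)
    · rw [if_pos hA, if_pos]
      rw [hw1 χ, if_pos hA, mul_one]
      exact h1
    · rw [if_neg hA, if_neg]
      rw [hw1 χ, if_neg hA, mul_zero]
      exact fun h => h rfl
  -- the main computation
  have hg : ∀ g : G, ∑ χ : IrrCharacter G,
      (if (fun n : N => ((μ χ n : ℂˣ) : ℂ)) = (ψ : N → ℂ) then (1 : ℂ) else 0)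
        * ((χ : G → ℂ) g * conj ((χ : G → ℂ) g))
      = (Nat.card N : ℂ)⁻¹ * (if (∀ x : G, x⁻¹ * g⁻¹ * x * g ∈ N → x * g = g * x)
          then (Nat.card (Subgroup.centralizer ({g} : Set G)) : ℂ) else 0) := by
    intro g
    have e1 : ∀ χ : IrrCharacter G,
        (if (fun n : N => ((μ χ n : ℂˣ) : ℂ)) = (ψ : N → ℂ) then (1 : ℂ) else 0)
          * ((χ : G → ℂ) g * conj ((χ : G → ℂ) g))
        = (Nat.card N : ℂ)⁻¹ * ∑ n : N, conj ((ψ : N → ℂ) n)
            * ((χ : G → ℂ) (g * (n : G)) * conj ((χ : G → ℂ) g)) := by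
      intro χ
      rw [hw2 χ, mul_assoc, Finset.sum_mul]
      congr 1
      refine Finset.sum_congr rfl fun n _ => ?_
      rw [hμ χ g n]
      ring
    rw [Finset.sum_congr rfl (fun χ _ => e1 χ), ← Finset.mul_sum, Finset.sum_comm]
    congr 1
    have e2 : ∀ n : N, ∑ χ : IrrCharacter G, conj ((ψ : N → ℂ) n)
            * ((χ : G → ℂ) (g * (n : G)) * conj ((χ : G → ℂ) g))
        = (if IsConj (g * (n : G)) g then conj ((ψ : N → ℂ) n) else 0)
            * (Nat.card (Subgroup.centralizer ({g} : Set G)) : ℂ) := by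
      intro n
      rw [← Finset.mul_sum, Helper2.second_orthogonality (g * (n : G)) g]
      by_cases hc : IsConj (g * (n : G)) g
      · rw [if_pos hc, if_pos hc]
      · rw [if_neg hc, if_neg hc, mul_zero, zero_mul]
    rw [Finset.sum_congr rfl (fun n _ => e2 n), ← Finset.sum_mul,
      sum_conj_central N hN ψ.2 hfaith g]
    by_cases hs : ∀ x : G, x⁻¹ * g⁻¹ * x * g ∈ N → x * g = g * x
    · rw [if_pos hs, if_pos hs, one_mul]
    · rw [if_neg hs, if_neg hs, zero_mul]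
  have hR : ∑ g : G, (if (∀ x : G, x⁻¹ * g⁻¹ * x * g ∈ N → x * g = g * x)
          then (Nat.card (Subgroup.centralizer ({g} : Set G)) : ℂ) else 0)
      = (Nat.card N : ℂ) * ∑ g : G, ∑ χ : IrrCharacter G,
        (if (fun n : N => ((μ χ n : ℂˣ) : ℂ)) = (ψ : N → ℂ) then (1 : ℂ) else 0)
          * ((χ : G → ℂ) g * conj ((χ : G → ℂ) g)) := by
    rw [Finset.mul_sum]
    refine Finset.sum_congr rfl fun g _ => ?_
    rw [hg g, mul_inv_cancel_left₀ hN0]
  rw [hR, hcard, Finset.sum_comm, Finset.sum_mul, Finset.mul_sum]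
  refine Finset.sum_congr rfl fun χ _ => ?_
  rw [← Finset.mul_sum, hnorm χ]
  ring

end CentralOver

end Cfsg.Agent.Helper13
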