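import Cfsg.Agent.S4742
import Cfsg.Prelude.Def_Local

set_option autoImplicit false
open Cfsg

namespace Cfsg.Agent.Helper13

/-- In a finite group with a `p`-solvable chain, there are normal subgroups `M ≤ L` with
`p ∤ |M|`, `p ∣ |L|` and `|L : M|` a power of `p`. -/
theorem exists_p_section_of_psolvable {G : Type*} [Group G] [Finite G] (p : ℕ) [Fact p.Prime]
    (hpG : p ∣ Nat.card G) (hsolv : Cfsg.IsPSolvable p G) :
    ∃ M L : Subgroup G, M.Normal ∧ L.Normal ∧ M ≤ L ∧ ¬ p ∣ Nat.card M ∧ p ∣ Nat.card L ∧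
      ∃ m : ℕ, M.relIndex L = p ^ m := by
  classical
  have hp : p.Prime := Fact.out
  obtain ⟨n, H, h0, hlast, hmono, hnorm, hstep⟩ := hsolv
  have key : ∀ i : Fin (n + 1), p ∣ Nat.card (H i) →
      ∃ M L : Subgroup G, M.Normal ∧ L.Normal ∧ M ≤ L ∧ ¬ p ∣ Nat.card M ∧ p ∣ Nat.card L ∧
        ∃ m : ℕ, M.relIndex L = p ^ m := by
    intro i
    induction i using Fin.induction with
    | zero =>
      intro h
      exfalso
      rw [h0, Subgroup.card_bot] at h
      exact hp.one_lt.ne' (Nat.dvd_one.mp h)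
    | succ i ih =>
      intro h
      by_cases hM : p ∣ Nat.card (H i.castSucc)
      · exact ih hM
      · have hle : H i.castSucc ≤ H i.succ := hmono (Fin.castSucc_lt_succ).le
        have hcard : Nat.card (H i.castSucc) * (H i.castSucc).relIndex (H i.succ) =
            Nat.card (H i.succ) := by
          have h1 := Subgroup.relIndex_mul_index hle
          have h2 := Subgroup.card_mul_index (H i.castSucc)
          have h3 := Subgroup.card_mul_index (H i.succ)
          have hpos : 0 < (H i.succ).index := Nat.pos_of_ne_zero Subgroup.index_ne_zero_of_finite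
          apply Nat.eq_of_mul_eq_mul_right hpos
          rw [mul_assoc, h1, h2, h3]
        have hdvd : p ∣ (H i.castSucc).relIndex (H i.succ) := by
          rw [← hcard] at h
          rcases (hp.dvd_mul).mp h with h' | h'
          · exact absurd h' hM
          · exact h'
        refine ⟨H i.castSucc, H i.succ, hnorm _, hnorm _, hle, hM, h, ?_⟩
        rcases hstep i with h' | h'
        · exact h'
        · exfalso
          have : p ∣ Nat.gcd ((H i.castSucc).relIndex (H i.succ)) p := Nat.dvd_gcd hdvd dvd_rfl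
          rw [h'] at this
          exact hp.one_lt.ne' (Nat.dvd_one.mp this)
  apply key (Fin.last n)
  rw [hlast, Subgroup.card_top]
  exact hpG

/-- An element of `L` of order prime to `p` lies in `M` when `|L : M|` is a power of `p`. -/
theorem mem_of_relIndex_pow {G : Type*} [Group G] [Finite G] (p q : ℕ) [Fact p.Prime]
    [Fact q.Prime] (hppq : p ≠ q) (M L : Subgroup G) [hM : M.Normal] (m : ℕ)
    (hrel : M.relIndex L = p ^ m) (u : G) (hu : u ∈ L) (k : ℕ) (hk : orderOf u = q ^ k) :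
    u ∈ M := by
  have hp : p.Prime := Fact.out
  have hq : q.Prime := Fact.out
  have h1 : (⟨u, hu⟩ : L) ^ (M.subgroupOf L).index ∈ M.subgroupOf L :=
    Subgroup.pow_index_mem _ _
  have h2 : u ^ (p ^ m) ∈ M := by
    have : (M.subgroupOf L).index = p ^ m := hrel
    rw [this, Subgroup.mem_subgroupOf] at h1
    exact h1
  by_cases hk0 : k = 0
  · rw [hk0, pow_zero, orderOf_eq_one_iff] at hk
    rw [hk]
    exact M.one_mem
  have hcop : Nat.Coprime (p ^ m) (q ^ k) :=
    Nat.Coprime.pow _ _ ((Nat.coprime_primes hp hq).mpr hppq)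
  have hlt : 1 < q ^ k := Nat.one_lt_pow hk0 hq.one_lt
  obtain ⟨a, -, ha⟩ := Nat.exists_mul_mod_eq_one_of_coprime hcop hlt
  have h3 : u ^ (p ^ m * a) = u := by
    rw [← pow_mod_orderOf, hk, ha, pow_one]
  rw [← h3, pow_mul]
  exact M.pow_mem h2 a

/-- The contradiction at the heart of the `p`- or `q`-solvable defect-zero theorem. -/
theorem false_of_psolvable_conj_pairs {G : Type*} [Group G] [Finite G] (p q : ℕ) [Fact p.Prime]
    [Fact q.Prime] (hppq : p ≠ q) (hpG : p ∣ Nat.card G) (hsolv : Cfsg.IsPSolvable p G)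
    (hAp : ∀ z : G, z ≠ 1 → (∃ k : ℕ, orderOf z = q ^ k) → ∃ g h : G, IsConj z g ∧
      IsConj z h ∧ g * h⁻¹ ≠ 1 ∧ ∃ k : ℕ, orderOf (g * h⁻¹) = p ^ k)
    (hAq : ∀ z : G, z ≠ 1 → (∃ k : ℕ, orderOf z = p ^ k) → ∃ g h : G, IsConj z g ∧
      IsConj z h ∧ g * h⁻¹ ≠ 1 ∧ ∃ k : ℕ, orderOf (g * h⁻¹) = q ^ k) : False := by
  classical
  have hp : p.Prime := Fact.out
  have hq : q.Prime := Fact.out
  obtain ⟨M, L, hMn, hLn, hML, hpM, hpL, m, hm⟩ := exists_p_section_of_psolvable p hpG hsolv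
  obtain ⟨w, hw⟩ := exists_prime_orderOf_dvd_card' (G := L) p hpL
  have hw1 : (w : G) ≠ 1 := by
    intro h
    have h' : w = 1 := Subtype.ext h
    rw [h', orderOf_one] at hw
    exact hp.one_lt.ne hw
  have hwo : orderOf (w : G) = p := by rw [Subgroup.orderOf_coe]; exact hw
  obtain ⟨g', h', hg', hh', hu1, ku, hku⟩ := hAq (w : G) hw1 ⟨1, by rw [hwo, pow_one]⟩
  have hconjmem : ∀ (N : Subgroup G), N.Normal → ∀ x y : G, x ∈ N → IsConj x y → y ∈ N := by
    intro N hN x y hx hxy
    obtain ⟨s, hs⟩ := isConj_iff.mp hxy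
    rw [← hs]
    exact hN.conj_mem x hx s
  have hg'L : g' ∈ L := hconjmem L hLn _ _ w.2 hg'
  have hh'L : h' ∈ L := hconjmem L hLn _ _ w.2 hh'
  have huL : g' * h'⁻¹ ∈ L := L.mul_mem hg'L (L.inv_mem hh'L)
  have huM : g' * h'⁻¹ ∈ M := mem_of_relIndex_pow p q hppq M L m hm _ huL ku hku
  obtain ⟨g, h, hg, hh, hv1, kv, hkv⟩ := hAp (g' * h'⁻¹) hu1 ⟨ku, hku⟩
  have hgM : g ∈ M := hconjmem M hMn _ _ huM hg
  have hhM : h ∈ M := hconjmem M hMn _ _ huM hh
  have hvM : g * h⁻¹ ∈ M := M.mul_mem hgM (M.inv_mem hhM)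
  apply hpM
  have h1 := Subgroup.orderOf_dvd_natCard _ hvM
  rw [hkv] at h1
  have hkv0 : kv ≠ 0 := by
    rintro rfl
    rw [pow_zero, orderOf_eq_one_iff] at hkv
    exact hv1 hkv
  exact (dvd_pow_self p hkv0).trans h1

/-- Symmetry of the centralizer hypothesis: if nontrivial `p`-elements have `q'`-centralizers,
then nontrivial `q`-elements have `p'`-centralizers. -/
theorem centralizer_hyp_symm {G : Type*} [Group G] [Finite G] (p q : ℕ) [Fact p.Prime]
    [Fact q.Prime]
    (hC : ∀ g : G, g ≠ 1 → (∃ k : ℕ, orderOf g = p ^ k) →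
      ¬ q ∣ Nat.card ↥(Subgroup.centralizer ({g} : Set G))) :
    ∀ z : G, z ≠ 1 → (∃ k : ℕ, orderOf z = q ^ k) →
      ¬ p ∣ Nat.card ↥(Subgroup.centralizer ({z} : Set G)) := by
  have hp : p.Prime := Fact.out
  have hq : q.Prime := Fact.out
  intro z hz1 ⟨kz, hkz⟩ hdvd
  obtain ⟨y, hy⟩ := exists_prime_orderOf_dvd_card'
    (G := Subgroup.centralizer ({z} : Set G)) p hdvd
  have hy1 : (y : G) ≠ 1 := by
    intro h
    have h' : y = 1 := Subtype.ext h
    rw [h', orderOf_one] at hy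
    exact hp.one_lt.ne hy
  have hyo : orderOf (y : G) = p := by rw [Subgroup.orderOf_coe]; exact hy
  apply hC (y : G) hy1 ⟨1, by rw [hyo, pow_one]⟩
  have hzmem : z ∈ Subgroup.centralizer ({(y : G)} : Set G) := by
    rw [Subgroup.mem_centralizer_iff]
    intro w hw
    rw [Set.mem_singleton_iff] at hw
    rw [hw]
    exact ((Subgroup.mem_centralizer_iff.mp y.2) z rfl).symm
  have h1 := Subgroup.orderOf_dvd_natCard _ hzmem
  rw [hkz] at h1
  have hkz0 : kz ≠ 0 := by
    rintro rfl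
    rw [pow_zero, orderOf_eq_one_iff] at hkz
    exact hz1 hkz
  exact (dvd_pow_self q hkz0).trans h1

end Cfsg.Agent.Helper13
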