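import Mathlib
import Cfsg.Agent.Helper13.ExcG
import Cfsg.Agent.Helper23.SmallSimple
import Cfsg.Agent.Helper24.OneNonlinear

set_option autoImplicit false

namespace Cfsg.Agent.Helper13

open Cfsg

/-- Exceptional character data for a simple group whose Sylow `p`-subgroup has order `p` and
normalizer of order `p q` with `q` prime and `(q + 2) q ≤ p - 1`. -/
theorem exc_simple {G : Type*} [Group G] [Finite G] [IsSimpleGroup G]
    [Fintype (IrrCharacter G)] (p : ℕ) [hp : Fact p.Prime] (m q : ℕ)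
    (hG : Nat.card G = p * m) (hm : ¬ p ∣ m) (hq : q.Prime)
    (hn : Nat.card (Sylow p G) * q = m) (he2 : (q + 2) * q ≤ p - 1) :
    ∃ (a : IrrCharacter G → ℤ) (d : ℕ), d ∣ Nat.card G ∧
      (∀ θ : IrrCharacter G, (θ : G → ℂ) = (fun _ => 1) → a θ = 1) ∧
      ∑ θ : IrrCharacter G, (a θ) ^ 2 = (q : ℤ) ∧
      (∀ θ : IrrCharacter G, a θ ≠ 0 → (p : ℤ) ∣ (charDegree (θ : G → ℂ) : ℤ) - a θ) ∧
      (∑ θ : IrrCharacter G, (charDegree (θ : G → ℂ) : ℤ) * a θ = d ∨
       ∑ θ : IrrCharacter G, (charDegree (θ : G → ℂ) : ℤ) * a θ = -d) ∧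
      (∀ θ : IrrCharacter G, charDegree (θ : G → ℂ) = 1 → (θ : G → ℂ) = fun _ => 1) := by
  classical
  haveI : Fintype G := Fintype.ofFinite G
  obtain ⟨P⟩ : Nonempty (Sylow p G) := inferInstance
  have hG' : Nat.card G = p ^ 1 * m := by rw [hG, pow_one]
  have hPc : Nat.card (P : Subgroup G) = p := by
    have h := Cfsg.Agent.Helper23.card_sylow_of_card p 1 m hG' hm P
    rw [pow_one] at h
    exact h
  have hp1 : 1 < p := hp.out.one_lt
  have hq1 : 1 < q := hq.one_lt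
  have hm0 : m ≠ 0 := by
    intro h
    apply hm
    rw [h]
    exact dvd_zero p
  have hn0 : Nat.card (Sylow p G) ≠ 0 := by
    intro h
    rw [h, zero_mul] at hn
    exact hm0 hn.symm
  have hP1 : Nat.card (P : Subgroup G) ≠ 1 := by
    rw [hPc]
    omega
  have hP2 : Nat.card (P : Subgroup G) ≠ Nat.card G := by
    rw [hPc, hG, ← hn]
    intro h
    have h1 : p * 1 = p * (Nat.card (Sylow p G) * q) := by rw [mul_one]; exact h
    have h2 := Nat.eq_of_mul_eq_mul_left (by omega : 0 < p) h1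
    have h3 : 1 * 1 < Nat.card (Sylow p G) * q :=
      Nat.mul_lt_mul_of_le_of_lt (Nat.pos_of_ne_zero hn0) hq1 (by omega)
    omega
  have hN : Nat.card (Subgroup.normalizer ((P : Subgroup G) : Set G)) = p * q := by
    have h := Cfsg.Agent.Helper23.card_normalizer_sylow P
    rw [hG, ← hn] at h
    have h1 : Nat.card (Sylow p G) *
        Nat.card (Subgroup.normalizer ((P : Subgroup G) : Set G))
        = Nat.card (Sylow p G) * (p * q) := by
      rw [h]
      ring
    exact Nat.eq_of_mul_eq_mul_left (Nat.pos_of_ne_zero hn0) h1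
  have hPN := Cfsg.Agent.S4342.relIndex_mul_card_inf (P : Subgroup G)
    (Subgroup.normalizer ((P : Subgroup G) : Set G))
  rw [inf_of_le_left Subgroup.le_normalizer, hPc, hN] at hPN
  have hrelP : (P : Subgroup G).relIndex (Subgroup.normalizer ((P : Subgroup G) : Set G)) = q := by
    have h1 : (P : Subgroup G).relIndex (Subgroup.normalizer ((P : Subgroup G) : Set G)) * p
        = q * p := by
      rw [hPN]
      ring
    exact Nat.eq_of_mul_eq_mul_right (by omega : 0 < p) h1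
  obtain ⟨-, hd1⟩ := Cfsg.Agent.Helper23.relIndex_centralizer_dvd_prime p P hPc
  rw [hrelP] at hd1
  have hCP : Nat.card (Subgroup.centralizer ((P : Subgroup G) : Set G)) = p := by
    rcases (Nat.dvd_prime hq).mp hd1 with h | h
    · exact absurd (Subgroup.relIndex_eq_one.1 h)
        (Cfsg.Agent.Helper23.not_normalizer_le_centralizer_of_simple p P hP1 hP2)
    · have hCN := Cfsg.Agent.S4342.relIndex_mul_card_inf
        (Subgroup.centralizer ((P : Subgroup G) : Set G))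
        (Subgroup.normalizer ((P : Subgroup G) : Set G))
      rw [inf_of_le_left (Subgroup.centralizer_le_normalizer _), h, hN] at hCN
      have h1 : q * Nat.card (Subgroup.centralizer ((P : Subgroup G) : Set G)) = q * p := by
        rw [hCN]
        ring
      exact Nat.eq_of_mul_eq_mul_left (by omega : 0 < q) h1
  obtain ⟨a, d, hd, htriv, hsq, hcong, hsum⟩ := exc_sylow_prime p P hPc q hN hCP he2
  refine ⟨a, d, hd, htriv, hsq, hcong, hsum, ?_⟩
  have hperf : commutator G = ⊤ := by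
    rcases (inferInstance : (commutator G).Normal).eq_bot_or_eq_top with h | h
    · exfalso
      rw [commutator_eq_bot_iff_center_eq_top] at h
      have h1 : Subgroup.centralizer ((P : Subgroup G) : Set G) = ⊤ := by
        rw [eq_top_iff, ← h]
        exact Subgroup.center_le_centralizer _
      rw [h1, Subgroup.card_top] at hCP
      rw [hPc] at hP2
      exact hP2 hCP.symm
    · exact h
  intro θ hθ
  have h1 : (θ : G → ℂ) 1 = 1 := by
    rw [Helper24.charDegree_spec (Helper24.isCharacter_of_irr θ.2), hθ, Nat.cast_one]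
  funext w
  exact Helper24.linear_char_commutator (Helper24.isCharacter_of_irr θ.2) h1 w
    (by rw [hperf]; exact Subgroup.mem_top w)

theorem exc_deg_sq_sum {G : Type*} [Group G] [Fintype G] [Fintype (IrrCharacter G)] :
    ∑ θ : IrrCharacter G, charDegree (θ : G → ℂ) ^ 2 = Nat.card G := by
  have h := Helper2.sum_degree_sq (G := G)
  have h1 : ∀ θ : IrrCharacter G, (θ : G → ℂ) 1 * (θ : G → ℂ) 1
      = ((charDegree (θ : G → ℂ) ^ 2 : ℕ) : ℂ) := by
    intro θ
    rw [Helper24.charDegree_spec (Helper24.isCharacter_of_irr θ.2)]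
    push_cast
    ring
  rw [Finset.sum_congr rfl (fun θ _ => h1 θ), ← Nat.cast_sum] at h
  exact_mod_cast h

theorem exc_sq_split {I : Type*} [Fintype I] [DecidableEq I] (a : I → ℤ) (t : I)
    (ht : a t = 1) (e : ℤ) (h : ∑ i : I, (a i) ^ 2 = e) :
    ∑ i : I, (if i = t then 0 else a i) ^ 2 = e - 1 := by
  have h1 : ∀ i : I, (a i) ^ 2 = (if i = t then 1 else 0) + (if i = t then 0 else a i) ^ 2 := by
    intro i
    by_cases hi : i = t
    · rw [if_pos hi, if_pos hi, hi, ht]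
      norm_num
    · rw [if_neg hi, if_neg hi, zero_add]
  rw [Finset.sum_congr rfl (fun i _ => h1 i), Finset.sum_add_distrib, Finset.sum_ite_eq'] at h
  simp only [Finset.mem_univ, if_true] at h
  linarith

/-- The case `q = 2`. -/
theorem exc_simple_two {G : Type*} [Group G] [Finite G] [IsSimpleGroup G]
    (p : ℕ) [hp : Fact p.Prime] (m : ℕ)
    (hG : Nat.card G = p * m) (hm : ¬ p ∣ m)
    (hn : Nat.card (Sylow p G) * 2 = m) (he2 : 8 ≤ p - 1) :
    ∃ (d₂ : ℕ) (a₂ : ℤ) (d : ℕ), d ∣ Nat.card G ∧ (a₂ = 1 ∨ a₂ = -1) ∧ d₂ ≠ 1 ∧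
      (p : ℤ) ∣ (d₂ : ℤ) - a₂ ∧ d₂ ∣ Nat.card G ∧ 1 + d₂ ^ 2 ≤ Nat.card G ∧
      (1 + (d₂ : ℤ) * a₂ = d ∨ 1 + (d₂ : ℤ) * a₂ = -d) := by
  classical
  haveI : Fintype G := Fintype.ofFinite G
  haveI := Helper24.finite_irrCharacter (G := G)
  haveI : Fintype (IrrCharacter G) := Fintype.ofFinite _
  obtain ⟨a, d, hd, htriv, hsq, hcong, hsum, hperf⟩ :=
    exc_simple (G := G) p m 2 hG hm Nat.prime_two hn (by omega)
  obtain ⟨triv, htrivdef⟩ : ∃ o : IrrCharacter G, (o : G → ℂ) = fun _ => 1 :=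
    ⟨⟨_, Helper2.isIrrCharacter_one_fun⟩, rfl⟩
  have hat := htriv triv htrivdef
  have hdt : charDegree (triv : G → ℂ) = 1 := by
    have h1 := Helper24.charDegree_spec (Helper24.isCharacter_of_irr triv.2)
    have h2 : ((charDegree (triv : G → ℂ) : ℕ) : ℂ) = 1 := by
      rw [← h1, htrivdef]
    exact_mod_cast h2
  have hsq' := exc_sq_split a triv hat _ hsq
  have hsq'' : ∑ i : IrrCharacter G, (if i = triv then 0 else a i) ^ 2 = 1 := by
    rw [hsq']
    norm_num
  obtain ⟨i₀, hi₀, hothers⟩ := Helper10.int_sq_sum_one _ hsq''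
  have hi₀t : i₀ ≠ triv := by
    intro h
    rw [if_pos h] at hi₀
    rcases hi₀ with h' | h' <;> omega
  rw [if_neg hi₀t] at hi₀
  have hzero : ∀ j : IrrCharacter G, j ≠ triv → j ≠ i₀ → a j = 0 := by
    intro j hj hj0
    have h := hothers j hj0
    rw [if_neg hj] at h
    exact h
  have hsumeq : ∑ θ : IrrCharacter G, (charDegree (θ : G → ℂ) : ℤ) * a θ
      = 1 + (charDegree (i₀ : G → ℂ) : ℤ) * a i₀ := by
    rw [Finset.sum_eq_add triv i₀ (Ne.symm hi₀t)
      (fun c _ hc => by rw [hzero c hc.1 hc.2, mul_zero])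
      (fun h => absurd (Finset.mem_univ _) h) (fun h => absurd (Finset.mem_univ _) h),
      hat, hdt]
    norm_num
  have hne0 : a i₀ ≠ 0 := by
    rcases hi₀ with h | h <;> rw [h] <;> norm_num
  refine ⟨charDegree (i₀ : G → ℂ), a i₀, d, hd, hi₀, ?_, hcong i₀ hne0,
    Helper2.irr_degree_dvd_card i₀.2, ?_, ?_⟩
  · intro h
    exact hi₀t (Subtype.ext ((hperf i₀ h).trans htrivdef.symm))
  · rw [← exc_deg_sq_sum (G := G)]
    have h1 : ∑ θ ∈ ({triv, i₀} : Finset (IrrCharacter G)), charDegree (θ : G → ℂ) ^ 2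
        ≤ ∑ θ : IrrCharacter G, charDegree (θ : G → ℂ) ^ 2 :=
      Finset.sum_le_sum_of_subset (Finset.subset_univ _)
    rw [Finset.sum_pair (Ne.symm hi₀t), hdt] at h1
    simpa using h1
  · rw [← hsumeq]
    exact hsum

/-- The case `q = 3`. -/
theorem exc_simple_three {G : Type*} [Group G] [Finite G] [IsSimpleGroup G]
    (p : ℕ) [hp : Fact p.Prime] (m : ℕ)
    (hG : Nat.card G = p * m) (hm : ¬ p ∣ m)
    (hn : Nat.card (Sylow p G) * 3 = m) (he2 : 15 ≤ p - 1) :
    ∃ (d₂ d₃ : ℕ) (a₂ a₃ : ℤ) (d : ℕ), d ∣ Nat.card G ∧ (a₂ = 1 ∨ a₂ = -1) ∧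
      (a₃ = 1 ∨ a₃ = -1) ∧ d₂ ≠ 1 ∧ d₃ ≠ 1 ∧
      (p : ℤ) ∣ (d₂ : ℤ) - a₂ ∧ (p : ℤ) ∣ (d₃ : ℤ) - a₃ ∧ d₂ ∣ Nat.card G ∧ d₃ ∣ Nat.card G ∧
      1 + d₂ ^ 2 + d₃ ^ 2 ≤ Nat.card G ∧
      (1 + (d₂ : ℤ) * a₂ + (d₃ : ℤ) * a₃ = d ∨ 1 + (d₂ : ℤ) * a₂ + (d₃ : ℤ) * a₃ = -d) := by
  classical
  haveI : Fintype G := Fintype.ofFinite G
  haveI := Helper24.finite_irrCharacter (G := G)
  haveI : Fintype (IrrCharacter G) := Fintype.ofFinite _
  obtain ⟨a, d, hd, htriv, hsq, hcong, hsum, hperf⟩ :=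
    exc_simple (G := G) p m 3 hG hm Nat.prime_three hn (by omega)
  obtain ⟨triv, htrivdef⟩ : ∃ o : IrrCharacter G, (o : G → ℂ) = fun _ => 1 :=
    ⟨⟨_, Helper2.isIrrCharacter_one_fun⟩, rfl⟩
  have hat := htriv triv htrivdef
  have hdt : charDegree (triv : G → ℂ) = 1 := by
    have h1 := Helper24.charDegree_spec (Helper24.isCharacter_of_irr triv.2)
    have h2 : ((charDegree (triv : G → ℂ) : ℕ) : ℂ) = 1 := by
      rw [← h1, htrivdef]
    exact_mod_cast h2
  have hsq' := exc_sq_split a triv hat _ hsq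
  have hsq'' : ∑ i : IrrCharacter G, (if i = triv then 0 else a i) ^ 2 = 2 := by
    rw [hsq']
    norm_num
  obtain ⟨i₂, i₃, h23, hi₂, hi₃, hothers⟩ := Helper10.int_sq_sum_two _ hsq''
  have hi₂t : i₂ ≠ triv := by
    intro h
    rw [if_pos h] at hi₂
    rcases hi₂ with h' | h' <;> omega
  have hi₃t : i₃ ≠ triv := by
    intro h
    rw [if_pos h] at hi₃
    rcases hi₃ with h' | h' <;> omega
  rw [if_neg hi₂t] at hi₂
  rw [if_neg hi₃t] at hi₃
  have hzero : ∀ j : IrrCharacter G, j ≠ triv → j ≠ i₂ → j ≠ i₃ → a j = 0 := by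
    intro j hj hj2 hj3
    have h := hothers j hj2 hj3
    rw [if_neg hj] at h
    exact h
  have hnotmem : triv ∉ ({i₂, i₃} : Finset (IrrCharacter G)) := by
    intro h
    rw [Finset.mem_insert, Finset.mem_singleton] at h
    rcases h with h | h
    · exact hi₂t h.symm
    · exact hi₃t h.symm
  have hsumeq : ∑ θ : IrrCharacter G, (charDegree (θ : G → ℂ) : ℤ) * a θ
      = 1 + (charDegree (i₂ : G → ℂ) : ℤ) * a i₂ + (charDegree (i₃ : G → ℂ) : ℤ) * a i₃ := by
    have h1 : ∑ θ ∈ (insert triv ({i₂, i₃} : Finset (IrrCharacter G))),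
        (charDegree (θ : G → ℂ) : ℤ) * a θ
        = ∑ θ : IrrCharacter G, (charDegree (θ : G → ℂ) : ℤ) * a θ := by
      apply Finset.sum_subset (Finset.subset_univ _)
      intro x _ hx
      rw [Finset.mem_insert, Finset.mem_insert, Finset.mem_singleton] at hx
      rw [hzero x (fun h => hx (Or.inl h)) (fun h => hx (Or.inr (Or.inl h)))
        (fun h => hx (Or.inr (Or.inr h))), mul_zero]
    rw [← h1, Finset.sum_insert hnotmem, Finset.sum_pair h23, hat, hdt]
    push_cast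
    ring
  have hne2 : a i₂ ≠ 0 := by
    rcases hi₂ with h | h <;> rw [h] <;> norm_num
  have hne3 : a i₃ ≠ 0 := by
    rcases hi₃ with h | h <;> rw [h] <;> norm_num
  refine ⟨charDegree (i₂ : G → ℂ), charDegree (i₃ : G → ℂ), a i₂, a i₃, d, hd, hi₂, hi₃,
    ?_, ?_, hcong i₂ hne2, hcong i₃ hne3, Helper2.irr_degree_dvd_card i₂.2,
    Helper2.irr_degree_dvd_card i₃.2, ?_, ?_⟩
  · intro h
    exact hi₂t (Subtype.ext ((hperf i₂ h).trans htrivdef.symm))
  · intro h
    exact hi₃t (Subtype.ext ((hperf i₃ h).trans htrivdef.symm))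
  · rw [← exc_deg_sq_sum (G := G)]
    have h1 : ∑ θ ∈ (insert triv ({i₂, i₃} : Finset (IrrCharacter G))),
        charDegree (θ : G → ℂ) ^ 2
        ≤ ∑ θ : IrrCharacter G, charDegree (θ : G → ℂ) ^ 2 :=
      Finset.sum_le_sum_of_subset (Finset.subset_univ _)
    rw [Finset.sum_insert hnotmem, Finset.sum_pair h23, hdt] at h1
    simpa [add_assoc] using h1
  · rw [← hsumeq]
    exact hsum

end Cfsg.Agent.Helper13
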