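import Mathlib
import Cfsg.Prelude.Def_Characters
import Cfsg.Agent.Helper2.IndFun
import Cfsg.Agent.Helper2.CharInner

/-!
Inner product of two induced functions from a subgroup `B` with `G = B ⊔ B w B`
(a rank-one Mackey formula).
-/

set_option autoImplicit false

namespace Cfsg.Agent.Helper13

open Cfsg

open scoped ComplexConjugate

universe u

section

variable {G : Type u} [Group G]

/-- The extension by zero of a class function on `B` is invariant under conjugation by `B`. -/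
theorem extendByZero_conj_mem (B : Subgroup G) (θ : B → ℂ)
    (hθ : ∀ b c : B, θ (c * b * c⁻¹) = θ b) {c : G} (hc : c ∈ B) (y : G) :
    extendByZero B θ (c * y * c⁻¹) = extendByZero B θ y := by
  by_cases hy : y ∈ B
  · have h1 : c * y * c⁻¹ ∈ B := B.mul_mem (B.mul_mem hc hy) (B.inv_mem hc)
    rw [Helper2.extendByZero_apply_mem B θ h1, Helper2.extendByZero_apply_mem B θ hy]
    exact hθ ⟨y, hy⟩ ⟨c, hc⟩
  · have h1 : c * y * c⁻¹ ∉ B := by
      intro h
      apply hy
      have : y = c⁻¹ * (c * y * c⁻¹) * c := by group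
      rw [this]
      exact B.mul_mem (B.mul_mem (B.inv_mem hc) h) hc
    rw [Helper2.extendByZero_apply_not_mem B θ h1, Helper2.extendByZero_apply_not_mem B θ hy]

/-- The inner sum in the Mackey computation. -/
noncomputable def mackeySum (B : Subgroup G) [Fintype B] (θ θ' : B → ℂ) (x : G) : ℂ :=
  ∑ b : B, θ b * conj (extendByZero B θ' (x⁻¹ * b * x))

theorem mackeySum_mem (B : Subgroup G) [Fintype B] (θ θ' : B → ℂ)
    (hθ' : ∀ b c : B, θ' (c * b * c⁻¹) = θ' b) {x : G} (hx : x ∈ B) :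
    mackeySum B θ θ' x = ∑ b : B, θ b * conj (θ' b) := by
  unfold mackeySum
  refine Finset.sum_congr rfl fun b _ => ?_
  have h := extendByZero_conj_mem B θ' hθ' (B.inv_mem hx) (b : G)
  rw [inv_inv] at h
  rw [h, Helper2.extendByZero_apply_coe]

theorem mackeySum_mul_right (B : Subgroup G) [Fintype B] (θ θ' : B → ℂ)
    (hθ' : ∀ b c : B, θ' (c * b * c⁻¹) = θ' b) (x : G) {c : G} (hc : c ∈ B) :
    mackeySum B θ θ' (x * c) = mackeySum B θ θ' x := by
  unfold mackeySum
  refine Finset.sum_congr rfl fun b _ => ?_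
  have h := extendByZero_conj_mem B θ' hθ' (B.inv_mem hc) (x⁻¹ * (b : G) * x)
  rw [inv_inv] at h
  rw [← h]
  congr 3
  group

theorem mackeySum_mul_left (B : Subgroup G) [Fintype B] (θ θ' : B → ℂ)
    (hθ : ∀ b c : B, θ (c * b * c⁻¹) = θ b) (x : G) {c : G} (hc : c ∈ B) :
    mackeySum B θ θ' (c * x) = mackeySum B θ θ' x := by
  unfold mackeySum
  rw [← Equiv.sum_comp (MulAut.conj (⟨c, hc⟩ : B)).toEquiv]
  refine Finset.sum_congr rfl fun b _ => ?_
  simp only [MulEquiv.toEquiv_eq_coe, EquivLike.coe_coe, MulAut.conj_apply]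
  rw [hθ b ⟨c, hc⟩]
  congr 3
  simp only [Subgroup.coe_mul, Subgroup.coe_inv]
  group

/-- **Rank-one Mackey formula**: if `G = B ⊔ B w B` and `θ`, `θ'` are class functions on `B`, then
`⟨Ind θ, Ind θ'⟩ = ⟨θ, θ'⟩ + (|G| - |B|)/|B|² * ∑_b θ(b) conj(θ'°(w⁻¹ b w))`. -/
theorem classInner_indFun_of_bruhat [Fintype G] (B : Subgroup G) [Fintype B] (w : G)
    (hw : ∀ x : G, x ∉ B → ∃ b₁ ∈ B, ∃ b₂ ∈ B, x = b₁ * w * b₂)
    (θ θ' : B → ℂ) (hθ : ∀ b c : B, θ (c * b * c⁻¹) = θ b)
    (hθ' : ∀ b c : B, θ' (c * b * c⁻¹) = θ' b) :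
    classInner (indFun B θ) (indFun B θ') = classInner θ θ' +
      ((Nat.card G : ℂ) - Nat.card B) / (Nat.card B : ℂ) ^ 2 * mackeySum B θ θ' w := by
  classical
  have hB0 : (Nat.card B : ℂ) ≠ 0 := by exact_mod_cast Nat.card_pos.ne'
  rw [Helper2.frobenius_reciprocity B θ (indFun B θ') (Helper2.isClassFunction_indFun B θ')]
  unfold classInner
  have h1 : ∑ b : B, θ b * conj (indFun B θ' (b : G)) =
      (Nat.card B : ℂ)⁻¹ * ∑ x : G, mackeySum B θ θ' x := by
    unfold mackeySum
    rw [Finset.sum_comm, Finset.mul_sum]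
    refine Finset.sum_congr rfl fun b _ => ?_
    rw [Helper2.indFun_apply, map_mul, map_inv₀, map_natCast, map_sum, Finset.mul_sum,
      Finset.mul_sum, Finset.mul_sum]
    refine Finset.sum_congr rfl fun x _ => ?_
    ring
  have h2 : ∀ x : G, mackeySum B θ θ' x =
      if x ∈ B then ∑ b : B, θ b * conj (θ' b) else mackeySum B θ θ' w := by
    intro x
    split_ifs with hx
    · exact mackeySum_mem B θ θ' hθ' hx
    · obtain ⟨b₁, hb₁, b₂, hb₂, rfl⟩ := hw x hx
      rw [mackeySum_mul_right B θ θ' hθ' _ hb₂, mackeySum_mul_left B θ θ' hθ _ hb₁]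
  have hcardB : ((Finset.univ : Finset G).filter (fun x => x ∈ B)).card = Nat.card B := by
    rw [Nat.card_eq_fintype_card, Fintype.card_subtype]
  have hcardnB : (((Finset.univ : Finset G).filter (fun x => ¬ x ∈ B)).card : ℂ) =
      (Nat.card G : ℂ) - Nat.card B := by
    have := Finset.card_filter_add_card_filter_not (s := (Finset.univ : Finset G)) (fun x => x ∈ B)
    rw [hcardB, Finset.card_univ, ← Nat.card_eq_fintype_card] at this
    rw [← this]
    push_cast
    ring
  rw [h1, Finset.sum_congr rfl (fun x _ => h2 x), Finset.sum_ite, Finset.sum_const,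
    Finset.sum_const, hcardB, nsmul_eq_mul, nsmul_eq_mul, hcardnB]
  field_simp
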