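import Mathlib
import Cfsg.Agent.Helper13.IndInner
import Cfsg.Agent.Helper2.CharLinear
import Cfsg.Agent.S2308

/-!
Principal series of `GL₂(q)`: the inner product of two characters induced from the Borel subgroup.
-/

set_option autoImplicit false

namespace Cfsg.Agent.Helper13

open Cfsg

open scoped ComplexConjugate

section MulCharSums

variable {F : Type*} [Field F] [Fintype F]

/-- Sum over units of a multiplicative character equals the sum over the field. -/
theorem sum_units_mulChar [Fintype Fˣ] (χ : MulChar F ℂ) : ∑ a : Fˣ, χ (a : F) = ∑ a : F, χ a := by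
  classical
  refine Fintype.sum_of_injective (fun a : Fˣ => (a : F)) Units.val_injective _ _ ?_ (fun _ => rfl)
  intro i hi
  apply MulChar.map_nonunit
  intro hu
  exact hi ⟨hu.unit, rfl⟩

/-- Orthogonality of multiplicative characters, summed over units. -/
theorem sum_units_mul_conj [Fintype Fˣ] (α β : MulChar F ℂ) [Decidable (α = β)] :
    ∑ a : Fˣ, α (a : F) * conj (β (a : F)) = if α = β then (Fintype.card F : ℂ) - 1 else 0 := by
  classical
  have h1 : ∀ a : Fˣ, α (a : F) * conj (β (a : F)) = (α * β⁻¹) (a : F) := by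
    intro a
    rw [MulChar.mul_apply]
    congr 1
    exact MulChar.star_apply' β (a : F)
  rw [Finset.sum_congr rfl (fun a _ => h1 a), sum_units_mulChar]
  split_ifs with h
  · rw [h, mul_inv_cancel, MulChar.sum_one_eq_card_units, Fintype.card_units,
      Nat.cast_sub Fintype.card_pos, Nat.cast_one]
  · apply MulChar.sum_eq_zero_of_ne_one
    intro h1
    exact h (mul_inv_eq_one.mp h1)

end MulCharSums

section Borel

variable {F : Type*} [Field F]

theorem borel_entry_ne_zero (b : upperTriangularGL 2 F) :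
    ((b : Matrix.GeneralLinearGroup (Fin 2) F) : Matrix (Fin 2) (Fin 2) F) 0 0 ≠ 0 ∧
    ((b : Matrix.GeneralLinearGroup (Fin 2) F) : Matrix (Fin 2) (Fin 2) F) 1 1 ≠ 0 := by
  have h10 := (S2308.mem_B (b : Matrix.GeneralLinearGroup (Fin 2) F)).mp b.2
  have hdet : ((b : Matrix.GeneralLinearGroup (Fin 2) F) : Matrix (Fin 2) (Fin 2) F).det ≠ 0 :=
    ((Matrix.isUnit_iff_isUnit_det _).mp (Units.isUnit _)).ne_zero
  rw [Matrix.det_fin_two, h10, mul_zero, sub_zero] at hdet
  exact ⟨left_ne_zero_of_mul hdet, right_ne_zero_of_mul hdet⟩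

/-- The element `[[a, c], [0, d]]` of `GL₂`. -/
noncomputable def borelMat (a d : Fˣ) (c : F) : Matrix.GeneralLinearGroup (Fin 2) F :=
  Matrix.GeneralLinearGroup.mkOfDetNeZero !![(a : F), c; 0, (d : F)] (by simp [Matrix.det_fin_two])

theorem borelMat_coe (a d : Fˣ) (c : F) :
    ((borelMat a d c : Matrix.GeneralLinearGroup (Fin 2) F) : Matrix (Fin 2) (Fin 2) F) =
      !![(a : F), c; 0, (d : F)] := rfl

theorem borelMat_mem (a d : Fˣ) (c : F) : borelMat a d c ∈ upperTriangularGL 2 F := by
  rw [S2308.mem_B, borelMat_coe]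
  rfl

/-- Parametrisation of the Borel subgroup of `GL₂`. -/
noncomputable def borelEquiv : Fˣ × Fˣ × F ≃ upperTriangularGL 2 F where
  toFun p := ⟨borelMat p.1 p.2.1 p.2.2, borelMat_mem _ _ _⟩
  invFun b := (Units.mk0 _ (borel_entry_ne_zero b).1, Units.mk0 _ (borel_entry_ne_zero b).2,
    ((b : Matrix.GeneralLinearGroup (Fin 2) F) : Matrix (Fin 2) (Fin 2) F) 0 1)
  left_inv p := by
    obtain ⟨a, d, c⟩ := p
    refine Prod.ext ?_ (Prod.ext ?_ ?_)
    · apply Units.ext; rfl
    · apply Units.ext; rfl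
    · rfl
  right_inv b := by
    apply Subtype.ext
    apply Matrix.GeneralLinearGroup.ext
    intro i j
    have h10 := (S2308.mem_B (b : Matrix.GeneralLinearGroup (Fin 2) F)).mp b.2
    fin_cases i <;> fin_cases j
    · rfl
    · rfl
    · exact h10.symm
    · rfl

theorem borelEquiv_coe (p : Fˣ × Fˣ × F) :
    (((borelEquiv p : upperTriangularGL 2 F) : Matrix.GeneralLinearGroup (Fin 2) F) :
      Matrix (Fin 2) (Fin 2) F) = !![(p.1 : F), p.2.2; 0, (p.2.1 : F)] := rfl

/-- The linear character `b ↦ α(b₁₁) β(b₂₂)` of the Borel subgroup, as a function. -/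
noncomputable def borelFun (α β : MulChar F ℂ) : upperTriangularGL 2 F → ℂ :=
  fun b => α (((b : Matrix.GeneralLinearGroup (Fin 2) F) : Matrix (Fin 2) (Fin 2) F) 0 0) *
    β (((b : Matrix.GeneralLinearGroup (Fin 2) F) : Matrix (Fin 2) (Fin 2) F) 1 1)

theorem borelFun_mul (α β : MulChar F ℂ) (b c : upperTriangularGL 2 F) :
    borelFun α β (b * c) = borelFun α β b * borelFun α β c := by
  have hb := (S2308.mem_B (b : Matrix.GeneralLinearGroup (Fin 2) F)).mp b.2
  have hc := (S2308.mem_B (c : Matrix.GeneralLinearGroup (Fin 2) F)).mp c.2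
  unfold borelFun
  rw [Subgroup.coe_mul, Matrix.GeneralLinearGroup.coe_mul, Matrix.mul_apply, Matrix.mul_apply,
    Fin.sum_univ_two, Fin.sum_univ_two, hb, hc, mul_zero, zero_mul, add_zero, zero_add, map_mul,
    map_mul]
  ring

theorem borelFun_one (α β : MulChar F ℂ) : borelFun α β 1 = 1 := by
  unfold borelFun
  simp

/-- The linear character of the Borel subgroup as a homomorphism into `ℂˣ`. -/
noncomputable def borelHom (α β : MulChar F ℂ) : upperTriangularGL 2 F →* ℂˣ :=
  MonoidHom.toHomUnits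
    { toFun := borelFun α β
      map_one' := borelFun_one α β
      map_mul' := borelFun_mul α β }

theorem borelHom_apply (α β : MulChar F ℂ) (b : upperTriangularGL 2 F) :
    ((borelHom α β b : ℂˣ) : ℂ) = borelFun α β b := rfl

theorem isCharacter_borelFun (α β : MulChar F ℂ) :
    IsCharacter (upperTriangularGL 2 F) (borelFun α β) :=
  Helper2.isCharacter_of_hom (borelHom α β)

theorem borelFun_conj (α β : MulChar F ℂ) (b c : upperTriangularGL 2 F) :
    borelFun α β (c * b * c⁻¹) = borelFun α β b := by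
  have h : borelFun α β c * borelFun α β c⁻¹ = 1 := by
    rw [← borelFun_mul, mul_inv_cancel, borelFun_one]
  rw [borelFun_mul, borelFun_mul, mul_comm (borelFun α β c), mul_assoc, h, mul_one]

/-- Bruhat decomposition of `GL₂`. -/
theorem bruhat_GL2 (x : Matrix.GeneralLinearGroup (Fin 2) F) (hx : x ∉ upperTriangularGL 2 F) :
    ∃ b₁ ∈ upperTriangularGL 2 F, ∃ b₂ ∈ upperTriangularGL 2 F, x = b₁ * S2308.wRep F * b₂ := by
  rw [S2308.mem_B] at hx
  have hdet : (x : Matrix (Fin 2) (Fin 2) F).det ≠ 0 :=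
    ((Matrix.isUnit_iff_isUnit_det _).mp (Units.isUnit _)).ne_zero
  rw [Matrix.det_fin_two] at hdet
  obtain ⟨p, hp⟩ : ∃ p, p = (x : Matrix (Fin 2) (Fin 2) F) 0 0 := ⟨_, rfl⟩
  obtain ⟨q, hq⟩ : ∃ q, q = (x : Matrix (Fin 2) (Fin 2) F) 0 1 := ⟨_, rfl⟩
  obtain ⟨r, hr⟩ : ∃ r, r = (x : Matrix (Fin 2) (Fin 2) F) 1 0 := ⟨_, rfl⟩
  obtain ⟨s, hs⟩ : ∃ s, s = (x : Matrix (Fin 2) (Fin 2) F) 1 1 := ⟨_, rfl⟩
  rw [← hp, ← hq, ← hr, ← hs] at hdet
  rw [← hr] at hx
  have he : q - p * s / r ≠ 0 := by
    intro h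
    apply hdet
    field_simp at h
    linear_combination -h
  refine ⟨borelMat 1 1 (p / r), borelMat_mem _ _ _,
    borelMat (Units.mk0 r hx) (Units.mk0 _ he) s, borelMat_mem _ _ _, ?_⟩
  apply Matrix.GeneralLinearGroup.ext
  intro i j
  rw [Matrix.GeneralLinearGroup.coe_mul, Matrix.GeneralLinearGroup.coe_mul, borelMat_coe,
    borelMat_coe, S2308.wRep_coe]
  fin_cases i <;> fin_cases j
  · simp [Matrix.mul_apply, Fin.sum_univ_two, ← hp]; field_simp
  · simp [Matrix.mul_apply, Fin.sum_univ_two, ← hq]; field_simp; ring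
  · simp [Matrix.mul_apply, Fin.sum_univ_two, ← hr]
  · simp [Matrix.mul_apply, Fin.sum_univ_two, ← hs]

end Borel

section Fin

variable {F : Type*} [Field F] [Fintype F] [DecidableEq F]

theorem card_borel_cast :
    (Nat.card (upperTriangularGL 2 F) : ℂ) = ((Fintype.card F : ℂ) - 1) ^ 2 * Fintype.card F := by
  rw [Nat.card_congr (borelEquiv (F := F)).symm, Nat.card_prod, Nat.card_prod,
    Nat.card_eq_fintype_card, Nat.card_eq_fintype_card, Fintype.card_units]
  push_cast [Nat.cast_sub (Fintype.card_pos (α := F))]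
  ring

theorem card_GL2_cast :
    (Nat.card (Matrix.GeneralLinearGroup (Fin 2) F) : ℂ) =
      ((Fintype.card F : ℂ) + 1) * Nat.card (upperTriangularGL 2 F) := by
  have h := (upperTriangularGL 2 F).card_mul_index
  have hidx : (upperTriangularGL 2 F).index = Fintype.card F + 1 := by
    unfold Subgroup.index
    rw [← Nat.card_congr (Equiv.ofBijective _ (S2308.phi_bij (F := F))), Nat.card_eq_fintype_card,
      Fintype.card_option]
  rw [hidx] at h
  rw [← h]
  push_cast
  ring

theorem extendByZero_w_conj (α' β' : MulChar F ℂ) (a d : Fˣ) (c : F) :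
    extendByZero (upperTriangularGL 2 F) (borelFun α' β')
      ((S2308.wRep F)⁻¹ * borelMat a d c * S2308.wRep F) =
      if c = 0 then α' (d : F) * β' (a : F) else 0 := by
  have hcoe : (((S2308.wRep F)⁻¹ * borelMat a d c * S2308.wRep F :
      Matrix.GeneralLinearGroup (Fin 2) F) : Matrix (Fin 2) (Fin 2) F) = !![(d : F), 0; c, (a : F)] := by
    rw [S2308.wRep_inv, Matrix.GeneralLinearGroup.coe_mul, Matrix.GeneralLinearGroup.coe_mul,
      borelMat_coe, S2308.wRep_coe]
    ext i j
    fin_cases i <;> fin_cases j <;> simp [Matrix.mul_apply, Fin.sum_univ_two]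
  split_ifs with hc
  · have hmem : (S2308.wRep F)⁻¹ * borelMat a d c * S2308.wRep F ∈ upperTriangularGL 2 F := by
      rw [S2308.mem_B, hcoe, hc]
      rfl
    rw [Helper2.extendByZero_apply_mem _ _ hmem]
    unfold borelFun
    simp only [hcoe]
    rfl
  · have hmem : (S2308.wRep F)⁻¹ * borelMat a d c * S2308.wRep F ∉ upperTriangularGL 2 F := by
      rw [S2308.mem_B, hcoe]
      exact hc
    rw [Helper2.extendByZero_apply_not_mem _ _ hmem]

theorem mackeySum_borel [Fintype (upperTriangularGL 2 F)] (α β α' β' : MulChar F ℂ) :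
    mackeySum (upperTriangularGL 2 F) (borelFun α β) (borelFun α' β') (S2308.wRep F) =
      (∑ a : Fˣ, α (a : F) * conj (β' (a : F))) * (∑ d : Fˣ, β (d : F) * conj (α' (d : F))) := by
  unfold mackeySum
  rw [← Equiv.sum_comp (borelEquiv (F := F)), Fintype.sum_prod_type, Finset.sum_mul_sum]
  refine Finset.sum_congr rfl fun a _ => ?_
  rw [Fintype.sum_prod_type]
  refine Finset.sum_congr rfl fun d _ => ?_
  rw [Finset.sum_eq_single (0 : F)]
  · have h := extendByZero_w_conj α' β' a d (0 : F)
    rw [if_pos rfl] at h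
    change borelFun α β (borelEquiv (a, d, 0)) *
      conj (extendByZero (upperTriangularGL 2 F) (borelFun α' β')
        ((S2308.wRep F)⁻¹ * borelMat a d 0 * S2308.wRep F)) = _
    rw [h, map_mul]
    have h2 : borelFun α β (borelEquiv (a, d, 0)) = α (a : F) * β (d : F) := rfl
    rw [h2]
    ring
  · intro c _ hc
    have h := extendByZero_w_conj α' β' a d c
    rw [if_neg hc] at h
    change borelFun α β (borelEquiv (a, d, c)) *
      conj (extendByZero (upperTriangularGL 2 F) (borelFun α' β')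
        ((S2308.wRep F)⁻¹ * borelMat a d c * S2308.wRep F)) = _
    rw [h, map_zero, mul_zero]
  · intro h
    exact absurd (Finset.mem_univ _) h

theorem sum_borel_mul_conj [Fintype (upperTriangularGL 2 F)] (α β α' β' : MulChar F ℂ) :
    ∑ b : upperTriangularGL 2 F, borelFun α β b * conj (borelFun α' β' b) =
      (Fintype.card F : ℂ) * ((∑ a : Fˣ, α (a : F) * conj (α' (a : F))) *
        (∑ d : Fˣ, β (d : F) * conj (β' (d : F)))) := by
  rw [← Equiv.sum_comp (borelEquiv (F := F)), Fintype.sum_prod_type, Finset.sum_mul_sum,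
    Finset.mul_sum]
  refine Finset.sum_congr rfl fun a _ => ?_
  rw [Fintype.sum_prod_type, Finset.mul_sum]
  refine Finset.sum_congr rfl fun d _ => ?_
  have h : ∀ c : F, borelFun α β (borelEquiv (a, d, c)) * conj (borelFun α' β' (borelEquiv (a, d, c))) =
      α (a : F) * conj (α' (a : F)) * (β (d : F) * conj (β' (d : F))) := by
    intro c
    have h1 : borelFun α β (borelEquiv (a, d, c)) = α (a : F) * β (d : F) := rfl
    have h2 : borelFun α' β' (borelEquiv (a, d, c)) = α' (a : F) * β' (d : F) := rfl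
    rw [h1, h2, map_mul]
    ring
  rw [Finset.sum_congr rfl (fun c _ => h c), Finset.sum_const, Finset.card_univ, nsmul_eq_mul]

open Classical in
/-- Inner products of principal series characters of `GL₂(q)`. -/
theorem classInner_indFun_borel (α β α' β' : MulChar F ℂ) :
    classInner (indFun (upperTriangularGL 2 F) (borelFun α β))
      (indFun (upperTriangularGL 2 F) (borelFun α' β')) =
      (if α = α' ∧ β = β' then 1 else 0) + (if α = β' ∧ β = α' then 1 else 0) := by
  have hq0 : (Fintype.card F : ℂ) ≠ 0 := by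
    exact_mod_cast Fintype.card_pos.ne'
  have hm0 : (Fintype.card F : ℂ) - 1 ≠ 0 := by
    have h : 1 < Fintype.card F := Fintype.one_lt_card
    have h2 : (Fintype.card F : ℂ) ≠ 1 := by exact_mod_cast h.ne'
    exact sub_ne_zero.mpr h2
  rw [classInner_indFun_of_bruhat (upperTriangularGL 2 F) (S2308.wRep F) bruhat_GL2
    (borelFun α β) (borelFun α' β') (borelFun_conj α β) (borelFun_conj α' β'), mackeySum_borel]
  unfold classInner
  rw [sum_borel_mul_conj, card_GL2_cast, card_borel_cast, sum_units_mul_conj, sum_units_mul_conj,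
    sum_units_mul_conj, sum_units_mul_conj]
  split_ifs <;> first | (exfalso; tauto) | (field_simp; ring)

end Fin

end Cfsg.Agent.Helper13
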