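import Mathlib
import Cfsg.Agent.Helper13.GL2Borel
import Cfsg.Agent.Helper2.CharBound
import Cfsg.Agent.Helper2.CharGalois
import Cfsg.Agent.Helper24.CharValues

/-!
Cuspidality for characters of `GL₂(q)`: sums over the unipotent radical.
-/

set_option autoImplicit false

namespace Cfsg.Agent.Helper13

open Cfsg

open scoped ComplexConjugate

section MulCharDual

variable {F : Type*} [Field F] [Fintype F]

theorem card_mulChar : Nat.card (MulChar F ℂ) = Fintype.card F - 1 := by
  classical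
  haveI : NeZero ((Monoid.exponent Fˣ : ℕ) : ℂ) :=
    ⟨by exact_mod_cast Monoid.exponent_ne_zero_of_finite⟩
  rw [MulChar.card_eq_card_units_of_hasEnoughRootsOfUnity F ℂ, Nat.card_eq_fintype_card,
    Fintype.card_units]

/-- Column orthogonality for multiplicative characters. -/
theorem sum_mulChar_apply [Fintype (MulChar F ℂ)] (a : Fˣ) [Decidable (a = 1)] :
    ∑ α : MulChar F ℂ, α (a : F) = if a = 1 then ((Fintype.card F : ℂ) - 1) else 0 := by
  classical
  haveI : NeZero ((Monoid.exponent Fˣ : ℕ) : ℂ) :=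
    ⟨by exact_mod_cast Monoid.exponent_ne_zero_of_finite⟩
  split_ifs with ha
  · rw [ha]
    simp only [Units.val_one, map_one, Finset.sum_const, Finset.card_univ, nsmul_eq_mul, mul_one]
    rw [← Nat.card_eq_fintype_card, card_mulChar, Nat.cast_sub Fintype.card_pos, Nat.cast_one]
  · have ha' : (a : F) ≠ 1 := fun h => ha (Units.ext h)
    obtain ⟨χ, hχ⟩ := MulChar.exists_apply_ne_one_of_hasEnoughRootsOfUnity F ℂ ha'
    refine eq_zero_of_mul_eq_self_left hχ ?_
    simp only [Finset.mul_sum, ← MulChar.mul_apply]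
    exact Fintype.sum_bijective _ (Group.mulLeft_bijective χ) _ _ fun χ' => rfl

end MulCharDual

section Unipotent

variable {F : Type*} [Field F]

/-- The unipotent element `[[1, c], [0, 1]]` of `GL₂`. -/
noncomputable def uMat (c : F) : Matrix.GeneralLinearGroup (Fin 2) F := borelMat 1 1 c

theorem uMat_coe (c : F) :
    ((uMat c : Matrix.GeneralLinearGroup (Fin 2) F) : Matrix (Fin 2) (Fin 2) F) = !![1, c; 0, 1] := by
  unfold uMat
  rw [borelMat_coe]
  simp

theorem uMat_zero : uMat (0 : F) = 1 := by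
  apply Matrix.GeneralLinearGroup.ext
  intro i j
  rw [uMat_coe]
  fin_cases i <;> fin_cases j <;> simp

theorem uMat_mem (c : F) : uMat c ∈ upperTriangularGL 2 F := borelMat_mem _ _ _

theorem uMat_conj (c : Fˣ) :
    borelMat c 1 0 * uMat 1 * (borelMat c 1 0)⁻¹ = uMat (c : F) := by
  rw [mul_inv_eq_iff_eq_mul]
  apply Matrix.GeneralLinearGroup.ext
  intro i j
  rw [Matrix.GeneralLinearGroup.coe_mul, Matrix.GeneralLinearGroup.coe_mul, uMat_coe, uMat_coe,
    borelMat_coe]
  fin_cases i <;> fin_cases j <;> simp [Matrix.mul_apply, Fin.sum_univ_two]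

theorem uMat_isConj (c : F) (hc : c ≠ 0) : IsConj (uMat (1 : F)) (uMat c) := by
  rw [isConj_iff]
  exact ⟨borelMat (Units.mk0 c hc) 1 0, uMat_conj (Units.mk0 c hc)⟩

end Unipotent

section Frob

variable {F : Type*} [Field F] [Fintype F] [DecidableEq F]

/-- The sum over all pairs of multiplicative characters of the multiplicity of a class function in
the principal series is the average of the class function over the unipotent radical. -/
theorem sum_classInner_borel [Fintype (MulChar F ℂ)]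
    {χ : Matrix.GeneralLinearGroup (Fin 2) F → ℂ}
    (hχ : IsClassFunction (Matrix.GeneralLinearGroup (Fin 2) F) χ) :
    ∑ p : MulChar F ℂ × MulChar F ℂ,
      classInner (indFun (upperTriangularGL 2 F) (borelFun p.1 p.2)) χ =
      (Fintype.card F : ℂ)⁻¹ * ∑ c : F, conj (χ (uMat c)) := by
  classical
  haveI : Fintype (upperTriangularGL 2 F) := Fintype.ofFinite _
  have hq0 : (Fintype.card F : ℂ) ≠ 0 := by
    exact_mod_cast Fintype.card_pos.ne'
  have hm0 : (Fintype.card F : ℂ) - 1 ≠ 0 := by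
    have h : 1 < Fintype.card F := Fintype.one_lt_card
    have h2 : (Fintype.card F : ℂ) ≠ 1 := by exact_mod_cast h.ne'
    exact sub_ne_zero.mpr h2
  have h1 : ∀ p : MulChar F ℂ × MulChar F ℂ,
      classInner (indFun (upperTriangularGL 2 F) (borelFun p.1 p.2)) χ =
      (Nat.card (upperTriangularGL 2 F) : ℂ)⁻¹ *
        ∑ b : upperTriangularGL 2 F, borelFun p.1 p.2 b * conj (χ b) := by
    intro p
    rw [Helper2.frobenius_reciprocity _ _ _ hχ]
    rfl
  rw [Finset.sum_congr rfl (fun p _ => h1 p), ← Finset.mul_sum, Finset.sum_comm]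
  have h2 : ∀ b : upperTriangularGL 2 F,
      ∑ p : MulChar F ℂ × MulChar F ℂ, borelFun p.1 p.2 b * conj (χ b) =
      (∑ α : MulChar F ℂ, α (((b : Matrix.GeneralLinearGroup (Fin 2) F) : Matrix (Fin 2) (Fin 2) F) 0 0)) *
      (∑ β : MulChar F ℂ, β (((b : Matrix.GeneralLinearGroup (Fin 2) F) : Matrix (Fin 2) (Fin 2) F) 1 1)) *
        conj (χ b) := by
    intro b
    rw [← Finset.sum_mul, Fintype.sum_prod_type, Finset.sum_mul_sum]
    rfl
  rw [Finset.sum_congr rfl (fun b _ => h2 b), ← Equiv.sum_comp (borelEquiv (F := F)),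
    Fintype.sum_prod_type]
  have h3 : ∀ (a d : Fˣ) (c : F),
      (∑ α : MulChar F ℂ, α ((((borelEquiv (a, d, c) : upperTriangularGL 2 F) :
        Matrix.GeneralLinearGroup (Fin 2) F) : Matrix (Fin 2) (Fin 2) F) 0 0)) *
      (∑ β : MulChar F ℂ, β ((((borelEquiv (a, d, c) : upperTriangularGL 2 F) :
        Matrix.GeneralLinearGroup (Fin 2) F) : Matrix (Fin 2) (Fin 2) F) 1 1)) *
        conj (χ (borelEquiv (a, d, c) : upperTriangularGL 2 F)) =
      (if a = 1 then ((Fintype.card F : ℂ) - 1) else 0) *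
        (if d = 1 then ((Fintype.card F : ℂ) - 1) else 0) * conj (χ (borelMat a d c)) := by
    intro a d c
    rw [← sum_mulChar_apply a, ← sum_mulChar_apply d]
    rfl
  rw [Finset.sum_eq_single (1 : Fˣ)]
  · rw [Fintype.sum_prod_type, Finset.sum_eq_single (1 : Fˣ)]
    · rw [Finset.sum_congr rfl (fun c _ => h3 1 1 c)]
      simp only [if_true]
      rw [← Finset.mul_sum, card_borel_cast]
      unfold uMat
      field_simp
    · intro d _ hd
      refine Finset.sum_eq_zero fun c _ => ?_
      rw [h3 1 d c, if_neg hd, mul_zero, zero_mul]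
    · intro h
      exact absurd (Finset.mem_univ _) h
  · intro a _ ha
    rw [Fintype.sum_prod_type]
    refine Finset.sum_eq_zero fun d _ => Finset.sum_eq_zero fun c _ => ?_
    rw [h3 a d c, if_neg ha, zero_mul, zero_mul]
  · intro h
    exact absurd (Finset.mem_univ _) h

end Frob

section Degree

/-- A character whose values on a family of conjugate elements `u c` (`c ≠ 0`, with `u 0 = 1`)
sum to zero has degree a multiple `m (q - 1)` of `q - 1`, and takes the value `-m` at `u 1`. -/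
theorem cusp_degree {H : Type*} [Group H] [Finite H] {F : Type*} [Field F] [Fintype F]
    [DecidableEq F] (u : F → H)
    (hu0 : u 0 = 1) (hconj : ∀ c : F, c ≠ 0 → IsConj (u 1) (u c)) {σ : H → ℂ}
    (hσ : IsCharacter H σ) (h1 : σ 1 ≠ 0) (hsum : ∑ c : F, σ (u c) = 0) :
    ∃ m : ℕ, 1 ≤ m ∧ σ 1 = (m : ℂ) * ((Fintype.card F : ℂ) - 1) ∧ σ (u 1) = -(m : ℂ) := by
  have hq1 : 1 < Fintype.card F := Fintype.one_lt_card
  have hcf : ∀ c : F, c ≠ 0 → σ (u c) = σ (u 1) := by
    intro c hc
    obtain ⟨x, hx⟩ := isConj_iff.mp (hconj c hc)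
    rw [← hx]
    exact Helper24.char_conj_invariant hσ _ _
  have hsplit : ∑ c : F, σ (u c) = σ 1 + ((Fintype.card F : ℂ) - 1) * σ (u 1) := by
    rw [← Finset.add_sum_erase Finset.univ _ (Finset.mem_univ (0 : F)), hu0]
    congr 1
    rw [Finset.sum_congr rfl (fun c hc => hcf c (Finset.ne_of_mem_erase hc)), Finset.sum_const,
      Finset.card_erase_of_mem (Finset.mem_univ _), Finset.card_univ, nsmul_eq_mul,
      Nat.cast_sub Fintype.card_pos, Nat.cast_one]
  rw [hsplit] at hsum
  have hdeg := Helper24.charDegree_spec hσ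
  obtain ⟨d, hd⟩ : ∃ d : ℕ, d = charDegree σ := ⟨_, rfl⟩
  rw [← hd] at hdeg
  have hd0 : d ≠ 0 := by
    intro h
    rw [h] at hdeg
    exact h1 (by simpa using hdeg)
  have hm0 : (Fintype.card F : ℂ) - 1 ≠ 0 := by
    have h2 : (Fintype.card F : ℂ) ≠ 1 := by exact_mod_cast hq1.ne'
    exact sub_ne_zero.mpr h2
  have hval : σ (u 1) = ((-(d : ℚ) / ((Fintype.card F : ℚ) - 1) : ℚ) : ℂ) := by
    push_cast
    rw [hdeg] at hsum
    field_simp
    linear_combination hsum
  have hint := Helper2.IsCharacter.isIntegral hσ (u 1)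
  rw [hval] at hint
  obtain ⟨z, hz⟩ := Helper2.int_of_isIntegral_rat hint
  have hq1' : (0 : ℚ) < (Fintype.card F : ℚ) - 1 := by
    have : (1 : ℚ) < (Fintype.card F : ℚ) := by exact_mod_cast hq1
    linarith
  have hdz : (d : ℚ) = -(z : ℚ) * ((Fintype.card F : ℚ) - 1) := by
    field_simp at hz
    linarith
  have hzneg : z < 0 := by
    by_contra hcon
    have hz0 : (0 : ℚ) ≤ (z : ℚ) := by exact_mod_cast not_lt.mp hcon
    have hdpos : (0 : ℚ) < (d : ℚ) := by exact_mod_cast Nat.pos_of_ne_zero hd0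
    nlinarith
  obtain ⟨m, hm⟩ : ∃ m : ℕ, (m : ℤ) = -z := ⟨(-z).toNat, Int.toNat_of_nonneg (by omega)⟩
  have hzm : (z : ℚ) = -(m : ℚ) := by
    have : ((m : ℤ) : ℚ) = ((-z : ℤ) : ℚ) := by rw [hm]
    push_cast at this
    linarith
  refine ⟨m, by omega, ?_, ?_⟩
  · rw [hdeg]
    have : (d : ℚ) = (m : ℚ) * ((Fintype.card F : ℚ) - 1) := by rw [hdz, hzm]; ring
    exact_mod_cast this
  · rw [hval, hz, hzm]
    push_cast
    ring

end Degree

end Cfsg.Agent.Helper13
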