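import Mathlib
import Cfsg.Agent.Helper13.GL2Cusp
import Cfsg.Agent.Helper10.CharConj
import Cfsg.Agent.Helper10.LinCharInner
import Cfsg.Agent.Helper10.VirtualChar
import Cfsg.Agent.Helper2.CharNat
import Cfsg.Agent.Helper2.CharComplete
import Cfsg.Agent.Helper2.CharCount
import Cfsg.Agent.Helper2.CharReg
import Cfsg.Agent.Helper6.ConjChar

/-!
The irreducible characters of `GL₂(q)`: non-cuspidal characters and degrees.
-/

set_option autoImplicit false

namespace Cfsg.Agent.Helper13

open Cfsg

open scoped ComplexConjugate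

section General

variable {G : Type*} [Group G] [Fintype G]

/-- A character of norm two is the sum of two distinct irreducible characters. -/
theorem char_norm_two {Θ : G → ℂ} (hΘ : IsCharacter G Θ) (h2 : classInner Θ Θ = 2) :
    ∃ χ₁ χ₂ : G → ℂ, IsIrrCharacter G χ₁ ∧ IsIrrCharacter G χ₂ ∧ χ₁ ≠ χ₂ ∧ Θ = χ₁ + χ₂ := by
  obtain ⟨χ₁, χ₂, e₁, e₂, h1, h2', hne, he₁, he₂, hsum⟩ :=
    Helper10.gen_norm_two (Helper10.isGeneralizedCharacter_of_char hΘ) h2
  have hi1 : classInner Θ χ₁ = (e₁ : ℂ) := by
    rw [hsum, Helper2.classInner_add_left, Helper2.classInner_smul_left,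
      Helper2.classInner_smul_left, Helper2.classInner_irr h1 h1, if_pos rfl,
      Helper2.classInner_irr h2' h1, if_neg (Ne.symm hne)]
    ring
  have hi2 : classInner Θ χ₂ = (e₂ : ℂ) := by
    rw [hsum, Helper2.classInner_add_left, Helper2.classInner_smul_left,
      Helper2.classInner_smul_left, Helper2.classInner_irr h2' h2', if_pos rfl,
      Helper2.classInner_irr h1 h2', if_neg hne]
    ring
  obtain ⟨n₁, hn₁⟩ := Helper10.classInner_char_irr hΘ h1
  obtain ⟨n₂, hn₂⟩ := Helper10.classInner_char_irr hΘ h2'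
  have he₁' : e₁ = 1 := by
    rcases he₁ with h | h
    · exact h
    · exfalso
      rw [hi1, h] at hn₁
      have : ((-1 : ℝ) : ℂ) = ((n₁ : ℝ) : ℂ) := by rw [hn₁]; simp
      have h3 : (-1 : ℝ) = (n₁ : ℝ) := by exact_mod_cast this
      have h4 : (0 : ℝ) ≤ (n₁ : ℝ) := Nat.cast_nonneg _
      linarith
  have he₂' : e₂ = 1 := by
    rcases he₂ with h | h
    · exact h
    · exfalso
      rw [hi2, h] at hn₂
      have : ((-1 : ℝ) : ℂ) = ((n₂ : ℝ) : ℂ) := by rw [hn₂]; simp
      have h3 : (-1 : ℝ) = (n₂ : ℝ) := by exact_mod_cast this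
      have h4 : (0 : ℝ) ≤ (n₂ : ℝ) := Nat.cast_nonneg _
      linarith
  refine ⟨χ₁, χ₂, h1, h2', hne, ?_⟩
  rw [hsum, he₁', he₂']
  simp

end General

section Det

variable {F : Type*} [Field F]

/-- The linear character `g ↦ α (det g)` of `GL₂`, as a function. -/
noncomputable def detFun (α : MulChar F ℂ) : Matrix.GeneralLinearGroup (Fin 2) F → ℂ :=
  fun g => α ((Matrix.GeneralLinearGroup.det g : Fˣ) : F)

theorem detFun_mul (α : MulChar F ℂ) (g h : Matrix.GeneralLinearGroup (Fin 2) F) :
    detFun α (g * h) = detFun α g * detFun α h := by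
  unfold detFun
  rw [map_mul, Units.val_mul, map_mul]

theorem detFun_one (α : MulChar F ℂ) : detFun α 1 = 1 := by
  unfold detFun
  simp

/-- The linear character `g ↦ α (det g)` as a homomorphism into `ℂˣ`. -/
noncomputable def detHom (α : MulChar F ℂ) : Matrix.GeneralLinearGroup (Fin 2) F →* ℂˣ :=
  MonoidHom.toHomUnits
    { toFun := detFun α
      map_one' := detFun_one α
      map_mul' := detFun_mul α }

theorem detHom_apply (α : MulChar F ℂ) (g : Matrix.GeneralLinearGroup (Fin 2) F) :
    ((detHom α g : ℂˣ) : ℂ) = detFun α g := rfl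

theorem isIrrCharacter_detFun (α : MulChar F ℂ) :
    IsIrrCharacter (Matrix.GeneralLinearGroup (Fin 2) F) (detFun α) :=
  Helper2.isIrrCharacter_of_hom (detHom α)

theorem det_borelMat_eq (a d : Fˣ) (c : F) :
    Matrix.GeneralLinearGroup.det (borelMat a d c) = a * d := by
  apply Units.ext
  simp [borelMat, Matrix.GeneralLinearGroup.mkOfDetNeZero, Matrix.det_fin_two]

theorem detFun_borelMat (α : MulChar F ℂ) (a d : Fˣ) (c : F) :
    detFun α (borelMat a d c) = α (a : F) * α (d : F) := by
  unfold detFun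
  rw [det_borelMat_eq, Units.val_mul, map_mul]

theorem detFun_res (α : MulChar F ℂ) :
    (fun b : upperTriangularGL 2 F => detFun α (b : Matrix.GeneralLinearGroup (Fin 2) F)) =
      borelFun α α := by
  funext b
  obtain ⟨p, rfl⟩ := (borelEquiv (F := F)).surjective b
  exact detFun_borelMat α p.1 p.2.1 p.2.2

theorem detFun_injective : Function.Injective (detFun (F := F)) := by
  intro α β h
  ext a
  have := congrFun h (borelMat a 1 0)
  rw [detFun_borelMat, detFun_borelMat] at this
  simpa using this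

end Det

section PS

variable {F : Type*} [Field F] [Fintype F] [DecidableEq F]

/-- The principal series function attached to a pair of multiplicative characters. -/
noncomputable abbrev psFun (α β : MulChar F ℂ) : Matrix.GeneralLinearGroup (Fin 2) F → ℂ :=
  indFun (upperTriangularGL 2 F) (borelFun α β)

theorem isCharacter_psFun (α β : MulChar F ℂ) :
    IsCharacter (Matrix.GeneralLinearGroup (Fin 2) F) (psFun α β) :=
  Helper2.isCharacter_indFun _ (isCharacter_borelFun α β)

theorem card_ne_zero_aux : (Fintype.card F : ℂ) ≠ 0 ∧ (Fintype.card F : ℂ) - 1 ≠ 0 := by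
  refine ⟨by exact_mod_cast Fintype.card_pos.ne', ?_⟩
  have h : 1 < Fintype.card F := Fintype.one_lt_card
  have h2 : (Fintype.card F : ℂ) ≠ 1 := by exact_mod_cast h.ne'
  exact sub_ne_zero.mpr h2

theorem psFun_one (α β : MulChar F ℂ) : psFun α β 1 = (Fintype.card F : ℂ) + 1 := by
  have hB0 : (Nat.card (upperTriangularGL 2 F) : ℂ) ≠ 0 := by exact_mod_cast Nat.card_pos.ne'
  unfold psFun
  rw [Helper6.indFun_one, borelFun_one, card_GL2_cast, mul_one]
  field_simp

theorem isIrrCharacter_psFun {α β : MulChar F ℂ} (hαβ : α ≠ β) :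
    IsIrrCharacter (Matrix.GeneralLinearGroup (Fin 2) F) (psFun α β) := by
  apply Helper10.isIrr_of_char_norm_one (isCharacter_psFun α β)
  have h := classInner_indFun_borel α β α β
  rw [if_pos ⟨rfl, rfl⟩, if_neg (fun h => hαβ h.1), add_zero] at h
  exact h

theorem psFun_swap (α β : MulChar F ℂ) : psFun α β = psFun β α := by
  by_cases hαβ : α = β
  · rw [hαβ]
  · have h := classInner_indFun_borel α β β α
    rw [if_neg (fun h => hαβ h.1), if_pos ⟨rfl, rfl⟩, zero_add] at h
    rw [Helper2.classInner_irr (isIrrCharacter_psFun hαβ) (isIrrCharacter_psFun (Ne.symm hαβ))] at h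
    by_contra hne
    rw [if_neg hne] at h
    exact zero_ne_one h

theorem psFun_eq_iff (α β α' β' : MulChar F ℂ) :
    psFun α β = psFun α' β' ↔ (α = α' ∧ β = β') ∨ (α = β' ∧ β = α') := by
  constructor
  · intro heq
    by_contra hcon
    rw [not_or] at hcon
    have h1 := classInner_indFun_borel α β α' β'
    rw [if_neg hcon.1, if_neg hcon.2, add_zero] at h1
    have h2 := classInner_indFun_borel α β α β
    rw [if_pos ⟨rfl, rfl⟩] at h2
    have heq' : indFun (upperTriangularGL 2 F) (borelFun α β) =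
        indFun (upperTriangularGL 2 F) (borelFun α' β') := heq
    rw [← heq', h2] at h1
    split_ifs at h1
    · norm_num at h1
    · norm_num at h1
  · rintro (⟨rfl, rfl⟩ | ⟨rfl, rfl⟩)
    · rfl
    · exact psFun_swap α β

theorem classInner_ps_det (α : MulChar F ℂ) : classInner (psFun α α) (detFun α) = 1 := by
  classical
  haveI : Fintype (upperTriangularGL 2 F) := Fintype.ofFinite _
  rw [Helper2.frobenius_reciprocity _ _ _
    (Helper2.IsIrrCharacter.isClassFunction (isIrrCharacter_detFun α)), detFun_res]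
  exact Helper10.classInner_hom_self (borelHom α α)

/-- The Steinberg-type character attached to a multiplicative character. -/
noncomputable def stFun (α : MulChar F ℂ) : Matrix.GeneralLinearGroup (Fin 2) F → ℂ :=
  psFun α α - detFun α

theorem psFun_diag (α : MulChar F ℂ) : psFun α α = detFun α + stFun α := by
  unfold stFun
  abel

theorem stFun_spec (α : MulChar F ℂ) :
    IsIrrCharacter (Matrix.GeneralLinearGroup (Fin 2) F) (stFun α) ∧ stFun α ≠ detFun α := by
  have hnorm := classInner_indFun_borel α α α α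
  rw [if_pos ⟨rfl, rfl⟩] at hnorm
  have hnorm2 : classInner (psFun α α) (psFun α α) = 2 := by
    rw [hnorm]; norm_num
  obtain ⟨χ₁, χ₂, h1, h2, hne, hsum⟩ := char_norm_two (isCharacter_psFun α α) hnorm2
  have h := classInner_ps_det α
  rw [hsum, Helper2.classInner_add_left, Helper2.classInner_irr h1 (isIrrCharacter_detFun α),
    Helper2.classInner_irr h2 (isIrrCharacter_detFun α)] at h
  by_cases e1 : χ₁ = detFun α
  · have hst : stFun α = χ₂ := by
      unfold stFun
      rw [hsum, e1]
      abel
    rw [hst]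
    exact ⟨h2, fun h' => hne (e1.trans h'.symm)⟩
  · by_cases e2 : χ₂ = detFun α
    · have hst : stFun α = χ₁ := by
        unfold stFun
        rw [hsum, e2]
        abel
      rw [hst]
      exact ⟨h1, fun h' => hne (h'.trans e2.symm)⟩
    · rw [if_neg e1, if_neg e2] at h
      norm_num at h

theorem stFun_one (α : MulChar F ℂ) : stFun α 1 = (Fintype.card F : ℂ) := by
  unfold stFun
  rw [Pi.sub_apply, psFun_one, detFun_one]
  ring

/-- Cuspidality: the sum over the unipotent radical vanishes. -/
def IsCusp (χ : Matrix.GeneralLinearGroup (Fin 2) F → ℂ) : Prop :=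
  ∑ c : F, χ (uMat c) = 0

theorem sum_uMat {χ : Matrix.GeneralLinearGroup (Fin 2) F → ℂ}
    (hχ : IsClassFunction (Matrix.GeneralLinearGroup (Fin 2) F) χ) :
    ∑ c : F, χ (uMat c) = χ 1 + ((Fintype.card F : ℂ) - 1) * χ (uMat 1) := by
  have hcf : ∀ c : F, c ≠ 0 → χ (uMat c) = χ (uMat 1) := by
    intro c hc
    obtain ⟨x, hx⟩ := isConj_iff.mp (uMat_isConj c hc)
    rw [← hx]
    exact hχ _ _
  rw [← Finset.add_sum_erase Finset.univ _ (Finset.mem_univ (0 : F)), uMat_zero]
  congr 1
  rw [Finset.sum_congr rfl (fun c hc => hcf c (Finset.ne_of_mem_erase hc)), Finset.sum_const,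
    Finset.card_erase_of_mem (Finset.mem_univ _), Finset.card_univ, nsmul_eq_mul,
    Nat.cast_sub Fintype.card_pos, Nat.cast_one]

/-- A non-cuspidal irreducible character is a constituent of a principal series. -/
theorem noncusp_classify {χ : Matrix.GeneralLinearGroup (Fin 2) F → ℂ}
    (hχ : IsIrrCharacter (Matrix.GeneralLinearGroup (Fin 2) F) χ) (hnc : ¬ IsCusp χ) :
    (∃ α : MulChar F ℂ, χ = detFun α) ∨ (∃ α : MulChar F ℂ, χ = stFun α) ∨
      (∃ α β : MulChar F ℂ, α ≠ β ∧ χ = psFun α β) := by
  classical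
  haveI : Fintype (MulChar F ℂ) := Fintype.ofFinite _
  have h := sum_classInner_borel (Helper2.IsIrrCharacter.isClassFunction hχ)
  have hne : ∑ p : MulChar F ℂ × MulChar F ℂ,
      classInner (indFun (upperTriangularGL 2 F) (borelFun p.1 p.2)) χ ≠ 0 := by
    rw [h, ← map_sum]
    refine mul_ne_zero (inv_ne_zero card_ne_zero_aux.1) ?_
    intro h0
    apply hnc
    have h00 := congrArg conj h0
    rw [Complex.conj_conj, map_zero] at h00
    exact h00
  obtain ⟨p, _, hp⟩ := Finset.exists_ne_zero_of_sum_ne_zero hne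
  by_cases hpp : p.1 = p.2
  · have hp' : classInner (psFun p.1 p.1) χ ≠ 0 := by
      have : psFun p.1 p.1 = indFun (upperTriangularGL 2 F) (borelFun p.1 p.2) := by rw [← hpp]
      rw [this]; exact hp
    rw [psFun_diag, Helper2.classInner_add_left,
      Helper2.classInner_irr (isIrrCharacter_detFun p.1) hχ,
      Helper2.classInner_irr (stFun_spec p.1).1 hχ] at hp'
    by_cases e1 : detFun p.1 = χ
    · exact Or.inl ⟨p.1, e1.symm⟩
    · by_cases e2 : stFun p.1 = χ
      · exact Or.inr (Or.inl ⟨p.1, e2.symm⟩)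
      · rw [if_neg e1, if_neg e2] at hp'
        norm_num at hp'
  · have hp' : classInner (psFun p.1 p.2) χ ≠ 0 := hp
    rw [Helper2.classInner_irr (isIrrCharacter_psFun hpp) hχ] at hp'
    by_cases e : psFun p.1 p.2 = χ
    · exact Or.inr (Or.inr ⟨p.1, p.2, hpp, e.symm⟩)
    · rw [if_neg e] at hp'
      exact absurd rfl hp'

/-- An irreducible constituent of a principal series is not cuspidal. -/
theorem noncusp_of_inner {χ : Matrix.GeneralLinearGroup (Fin 2) F → ℂ}
    (hχ : IsIrrCharacter (Matrix.GeneralLinearGroup (Fin 2) F) χ) (α β : MulChar F ℂ)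
    (hne : classInner (psFun α β) χ ≠ 0) : ¬ IsCusp χ := by
  classical
  haveI : Fintype (MulChar F ℂ) := Fintype.ofFinite _
  intro hc
  have h := sum_classInner_borel (Helper2.IsIrrCharacter.isClassFunction hχ)
  rw [← map_sum] at h
  unfold IsCusp at hc
  rw [hc, map_zero, mul_zero] at h
  have hnat : ∀ p : MulChar F ℂ × MulChar F ℂ, ∃ n : ℕ,
      classInner (indFun (upperTriangularGL 2 F) (borelFun p.1 p.2)) χ = n :=
    fun p => Helper10.classInner_char_irr (isCharacter_psFun p.1 p.2) hχ
  choose n hn using hnat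
  rw [Finset.sum_congr rfl (fun p _ => hn p), ← Nat.cast_sum] at h
  have h0 : ∑ p : MulChar F ℂ × MulChar F ℂ, n p = 0 := by exact_mod_cast h
  have h1 : n (α, β) = 0 :=
    (Finset.sum_eq_zero_iff.mp h0) (α, β) (Finset.mem_univ _)
  apply hne
  have := hn (α, β)
  rw [h1] at this
  simpa using this

theorem noncusp_psFun {α β : MulChar F ℂ} (hαβ : α ≠ β) : ¬ IsCusp (psFun α β) := by
  apply noncusp_of_inner (isIrrCharacter_psFun hαβ) α β
  rw [Helper2.classInner_irr (isIrrCharacter_psFun hαβ) (isIrrCharacter_psFun hαβ), if_pos rfl]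
  exact one_ne_zero

theorem noncusp_detFun (α : MulChar F ℂ) : ¬ IsCusp (detFun α) := by
  apply noncusp_of_inner (isIrrCharacter_detFun α) α α
  rw [classInner_ps_det]
  exact one_ne_zero

theorem noncusp_stFun (α : MulChar F ℂ) : ¬ IsCusp (stFun α) := by
  apply noncusp_of_inner (stFun_spec α).1 α α
  rw [psFun_diag, Helper2.classInner_add_left,
    Helper2.classInner_irr (isIrrCharacter_detFun α) (stFun_spec α).1,
    Helper2.classInner_irr (stFun_spec α).1 (stFun_spec α).1, if_pos rfl,
    if_neg (Ne.symm (stFun_spec α).2)]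
  norm_num

/-- The value of a principal series function at a transvection. -/
theorem psFun_uMat (α β : MulChar F ℂ) : psFun α β (uMat 1) = 1 := by
  classical
  haveI : Fintype (MulChar F ℂ) := Fintype.ofFinite _
  have hcf := Helper2.isClassFunction_indFun (upperTriangularGL 2 F) (borelFun α β)
  have h := sum_classInner_borel hcf
  have h1 : ∀ p : MulChar F ℂ × MulChar F ℂ,
      classInner (indFun (upperTriangularGL 2 F) (borelFun p.1 p.2))
        (indFun (upperTriangularGL 2 F) (borelFun α β)) =
      (if p = (α, β) then 1 else 0) + (if p = (β, α) then 1 else 0) := by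
    intro p
    rw [classInner_indFun_borel]
    congr 1
    · refine if_congr ?_ rfl rfl
      rw [Prod.ext_iff]
    · refine if_congr ?_ rfl rfl
      rw [Prod.ext_iff]
  rw [Finset.sum_congr rfl (fun p _ => h1 p), Finset.sum_add_distrib, Finset.sum_ite_eq',
    Finset.sum_ite_eq', if_pos (Finset.mem_univ _), if_pos (Finset.mem_univ _), ← map_sum,
    sum_uMat hcf] at h
  have h2 := congrArg conj h
  rw [map_mul, Complex.conj_conj, map_inv₀, map_natCast] at h2
  have h3 : psFun α β 1 = (Fintype.card F : ℂ) + 1 := psFun_one α β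
  have h4 : indFun (upperTriangularGL 2 F) (borelFun α β) 1 = (Fintype.card F : ℂ) + 1 := h3
  rw [h4] at h2
  have hq := card_ne_zero_aux (F := F)
  have h5 : (Fintype.card F : ℂ) - 1 ≠ 0 := hq.2
  have h6 : (Fintype.card F : ℂ) ≠ 0 := hq.1
  have h7 : conj (1 + 1 : ℂ) = 2 := by
    rw [map_add, map_one]; norm_num
  rw [h7] at h2
  field_simp at h2
  have h8 : ((Fintype.card F : ℂ) - 1) * (psFun α β (uMat 1) - 1) = 0 := by
    linear_combination -h2
  rcases mul_eq_zero.mp h8 with h9 | h9
  · exact absurd h9 h5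
  · exact sub_eq_zero.mp h9

theorem detFun_uMat (α : MulChar F ℂ) (c : F) : detFun α (uMat c) = 1 := by
  unfold uMat
  rw [detFun_borelMat]
  simp

theorem stFun_uMat (α : MulChar F ℂ) : stFun α (uMat 1) = 0 := by
  unfold stFun
  rw [Pi.sub_apply, psFun_uMat, detFun_uMat]
  ring

end PS

end Cfsg.Agent.Helper13
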