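import Mathlib
import Cfsg.Agent.Helper13.GL2Irr

/-!
Counting the irreducible characters of `GL₂(q)`: cuspidal characters have degree `q - 1`.
-/

set_option autoImplicit false

namespace Cfsg.Agent.Helper13

open Cfsg

open scoped ComplexConjugate

section Classes

variable {F : Type*} [Field F]

/-- The companion matrix `[[0, -d], [1, t]]`. -/
noncomputable def compMat (t : F) (d : Fˣ) : Matrix.GeneralLinearGroup (Fin 2) F :=
  Matrix.GeneralLinearGroup.mkOfDetNeZero !![0, -(d : F); 1, t] (by simp [Matrix.det_fin_two])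

theorem compMat_coe (t : F) (d : Fˣ) :
    ((compMat t d : Matrix.GeneralLinearGroup (Fin 2) F) : Matrix (Fin 2) (Fin 2) F) =
      !![0, -(d : F); 1, t] := rfl

/-- Representatives of `q² - 1` distinct conjugacy classes. -/
noncomputable def classRep : (F × Fˣ) ⊕ Fˣ → Matrix.GeneralLinearGroup (Fin 2) F
  | Sum.inl p => compMat p.1 p.2
  | Sum.inr a => borelMat a a 0

theorem scalar_comm (a : Fˣ) (x : Matrix.GeneralLinearGroup (Fin 2) F) :
    x * borelMat a a 0 = borelMat a a 0 * x := by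
  apply Matrix.GeneralLinearGroup.ext
  intro i j
  rw [Matrix.GeneralLinearGroup.coe_mul, Matrix.GeneralLinearGroup.coe_mul, borelMat_coe]
  fin_cases i <;> fin_cases j <;> simp [Matrix.mul_apply, Fin.sum_univ_two, mul_comm]

theorem scalar_conj (a : Fˣ) (x : Matrix.GeneralLinearGroup (Fin 2) F) :
    x * borelMat a a 0 * x⁻¹ = borelMat a a 0 := by
  rw [scalar_comm, mul_assoc, mul_inv_cancel, mul_one]

theorem trace_conj (x g : Matrix.GeneralLinearGroup (Fin 2) F) :
    ((x * g * x⁻¹ : Matrix.GeneralLinearGroup (Fin 2) F) : Matrix (Fin 2) (Fin 2) F).trace =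
      (g : Matrix (Fin 2) (Fin 2) F).trace := by
  rw [Matrix.GeneralLinearGroup.coe_mul, Matrix.GeneralLinearGroup.coe_mul, Matrix.trace_mul_comm,
    ← Matrix.mul_assoc, ← Matrix.GeneralLinearGroup.coe_mul, inv_mul_cancel]
  simp

theorem det_conj (x g : Matrix.GeneralLinearGroup (Fin 2) F) :
    Matrix.GeneralLinearGroup.det (x * g * x⁻¹) = Matrix.GeneralLinearGroup.det g := by
  rw [map_mul, map_mul, map_inv, mul_comm, ← mul_assoc, inv_mul_cancel, one_mul]

theorem det_compMat (t : F) (d : Fˣ) : Matrix.GeneralLinearGroup.det (compMat t d) = d := by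
  apply Units.ext
  simp [compMat, Matrix.GeneralLinearGroup.mkOfDetNeZero, Matrix.det_fin_two]

theorem trace_compMat (t : F) (d : Fˣ) :
    ((compMat t d : Matrix.GeneralLinearGroup (Fin 2) F) : Matrix (Fin 2) (Fin 2) F).trace = t := by
  rw [compMat_coe, Matrix.trace_fin_two]
  simp

theorem classRep_injective :
    Function.Injective (fun s : (F × Fˣ) ⊕ Fˣ => ConjClasses.mk (classRep s)) := by
  intro s s' h
  rw [ConjClasses.mk_eq_mk_iff_isConj, isConj_iff] at h
  obtain ⟨x, hx⟩ := h
  rcases s with ⟨t, d⟩ | a <;> rcases s' with ⟨t', d'⟩ | a'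
  · have h1 := trace_conj x (compMat t d)
    have h2 := det_conj x (compMat t d)
    change x * compMat t d * x⁻¹ = compMat t' d' at hx
    rw [hx, trace_compMat, trace_compMat] at h1
    rw [hx, det_compMat, det_compMat] at h2
    rw [h1, h2]
  · exfalso
    change x * compMat t d * x⁻¹ = borelMat a' a' 0 at hx
    have h1 : compMat t d = x⁻¹ * borelMat a' a' 0 * x⁻¹⁻¹ := by
      rw [← hx]; group
    rw [scalar_conj] at h1
    have h2 := congrArg (fun M : Matrix.GeneralLinearGroup (Fin 2) F =>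
      (M : Matrix (Fin 2) (Fin 2) F) 1 0) h1
    simp [compMat_coe, borelMat_coe] at h2
  · exfalso
    change x * borelMat a a 0 * x⁻¹ = compMat t' d' at hx
    rw [scalar_conj] at hx
    have h2 := congrArg (fun M : Matrix.GeneralLinearGroup (Fin 2) F =>
      (M : Matrix (Fin 2) (Fin 2) F) 1 0) hx
    simp [compMat_coe, borelMat_coe] at h2
  · change x * borelMat a a 0 * x⁻¹ = borelMat a' a' 0 at hx
    rw [scalar_conj] at hx
    have h2 := congrArg (fun M : Matrix.GeneralLinearGroup (Fin 2) F =>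
      (M : Matrix (Fin 2) (Fin 2) F) 0 0) hx
    simp only [borelMat_coe] at h2
    congr 1
    apply Units.ext
    simpa using h2

theorem card_conjClasses_GL2_ge [Fintype F] :
    Fintype.card F * (Fintype.card F - 1) + (Fintype.card F - 1) ≤
      Nat.card (ConjClasses (Matrix.GeneralLinearGroup (Fin 2) F)) := by
  classical
  have h := Nat.card_le_card_of_injective _ (classRep_injective (F := F))
  rw [Nat.card_sum, Nat.card_prod, Nat.card_eq_fintype_card, Nat.card_eq_fintype_card,
    Fintype.card_units] at h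
  exact h

end Classes

section Count

variable {F : Type*} [Field F] [Fintype F] [DecidableEq F]

theorem cusp_facts {χ : Matrix.GeneralLinearGroup (Fin 2) F → ℂ}
    (hχ : IsIrrCharacter (Matrix.GeneralLinearGroup (Fin 2) F) χ) (hc : IsCusp χ) :
    ∃ m : ℕ, 1 ≤ m ∧ χ 1 = (m : ℂ) * ((Fintype.card F : ℂ) - 1) ∧ χ (uMat 1) = -(m : ℂ) := by
  obtain ⟨d, hd, h1⟩ := Helper10.irr_one_eq hχ
  have h1' : χ 1 ≠ 0 := by
    rw [h1]
    exact_mod_cast hd.ne'
  exact cusp_degree uMat uMat_zero uMat_isConj (Helper24.isCharacter_of_irr hχ) h1' hc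

/-- The principal series attached to an unordered pair of multiplicative characters. -/
noncomputable def psSym : Sym2 (MulChar F ℂ) → (Matrix.GeneralLinearGroup (Fin 2) F → ℂ) :=
  Sym2.lift ⟨fun α β => psFun α β, fun α β => psFun_swap α β⟩

theorem psSym_mk (α β : MulChar F ℂ) : psSym s(α, β) = psFun α β := rfl

theorem psSym_irr (z : Sym2 (MulChar F ℂ)) (hz : ¬ z.IsDiag) :
    IsIrrCharacter (Matrix.GeneralLinearGroup (Fin 2) F) (psSym z) := by
  induction z using Sym2.ind with
  | _ α β =>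
    rw [Sym2.mk_isDiag_iff] at hz
    exact isIrrCharacter_psFun hz

theorem psSym_noncusp (z : Sym2 (MulChar F ℂ)) (hz : ¬ z.IsDiag) : ¬ IsCusp (psSym z) := by
  induction z using Sym2.ind with
  | _ α β =>
    rw [Sym2.mk_isDiag_iff] at hz
    exact noncusp_psFun hz

theorem psSym_one (z : Sym2 (MulChar F ℂ)) : psSym z 1 = (Fintype.card F : ℂ) + 1 := by
  induction z using Sym2.ind with
  | _ α β => exact psFun_one α β

theorem psSym_injective : Function.Injective (psSym (F := F)) := by
  intro z z' h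
  induction z using Sym2.ind with
  | _ α β =>
    induction z' using Sym2.ind with
    | _ α' β' =>
      rw [psSym_mk, psSym_mk, psFun_eq_iff] at h
      rw [Sym2.eq_iff]
      exact h

theorem stFun_injective : Function.Injective (stFun (F := F)) := by
  intro α β h
  by_contra hne
  have h0 := classInner_indFun_borel α α β β
  rw [if_neg (fun h => hne h.1), add_zero] at h0
  have h0' : classInner (psFun α α) (psFun β β) = 0 := h0
  rw [psFun_diag, psFun_diag, ← h, Helper2.classInner_add_left, Helper2.classInner_add_right,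
    Helper2.classInner_add_right,
    Helper2.classInner_irr (isIrrCharacter_detFun α) (isIrrCharacter_detFun β),
    Helper2.classInner_irr (isIrrCharacter_detFun α) (stFun_spec α).1,
    Helper2.classInner_irr (stFun_spec α).1 (isIrrCharacter_detFun β),
    Helper2.classInner_irr (stFun_spec α).1 (stFun_spec α).1, if_pos rfl] at h0'
  split_ifs at h0' <;> norm_num at h0'

/-- The index type for the irreducible characters of `GL₂(q)`. -/
abbrev IrrIdx (F : Type*) [Field F] [Fintype F] [DecidableEq F] :=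
  (MulChar F ℂ ⊕ MulChar F ℂ) ⊕ ({z : Sym2 (MulChar F ℂ) // ¬ z.IsDiag} ⊕
    {χ : IrrCharacter (Matrix.GeneralLinearGroup (Fin 2) F) //
      IsCusp (χ : Matrix.GeneralLinearGroup (Fin 2) F → ℂ)})

/-- The parametrisation of the irreducible characters of `GL₂(q)`. -/
noncomputable def irrMap : IrrIdx F → IrrCharacter (Matrix.GeneralLinearGroup (Fin 2) F)
  | Sum.inl (Sum.inl α) => ⟨detFun α, isIrrCharacter_detFun α⟩
  | Sum.inl (Sum.inr α) => ⟨stFun α, (stFun_spec α).1⟩
  | Sum.inr (Sum.inl z) => ⟨psSym z.1, psSym_irr z.1 z.2⟩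
  | Sum.inr (Sum.inr χ) => χ.1

open Classical in
/-- The kind of an irreducible character: `3` if cuspidal, otherwise according to the degree. -/
noncomputable def irrKind (χ : IrrCharacter (Matrix.GeneralLinearGroup (Fin 2) F)) : ℕ :=
  if IsCusp (χ : Matrix.GeneralLinearGroup (Fin 2) F → ℂ) then 3
  else if (χ : Matrix.GeneralLinearGroup (Fin 2) F → ℂ) 1 = 1 then 0
  else if (χ : Matrix.GeneralLinearGroup (Fin 2) F → ℂ) 1 = (Fintype.card F : ℂ) then 1 else 2

theorem card_cast_ne_one : (Fintype.card F : ℂ) ≠ 1 := by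
  have h : 1 < Fintype.card F := Fintype.one_lt_card
  exact_mod_cast h.ne'

theorem irrMap_det (α : MulChar F ℂ) :
    ((irrMap (Sum.inl (Sum.inl α)) : IrrCharacter (Matrix.GeneralLinearGroup (Fin 2) F)) :
      Matrix.GeneralLinearGroup (Fin 2) F → ℂ) = detFun α := rfl

theorem irrMap_st (α : MulChar F ℂ) :
    ((irrMap (Sum.inl (Sum.inr α)) : IrrCharacter (Matrix.GeneralLinearGroup (Fin 2) F)) :
      Matrix.GeneralLinearGroup (Fin 2) F → ℂ) = stFun α := rfl

theorem irrMap_ps (z : {z : Sym2 (MulChar F ℂ) // ¬ z.IsDiag}) :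
    ((irrMap (Sum.inr (Sum.inl z)) : IrrCharacter (Matrix.GeneralLinearGroup (Fin 2) F)) :
      Matrix.GeneralLinearGroup (Fin 2) F → ℂ) = psSym z.1 := rfl

theorem irrMap_cusp (χ : {χ : IrrCharacter (Matrix.GeneralLinearGroup (Fin 2) F) //
    IsCusp (χ : Matrix.GeneralLinearGroup (Fin 2) F → ℂ)}) :
    (irrMap (Sum.inr (Sum.inr χ)) : IrrCharacter (Matrix.GeneralLinearGroup (Fin 2) F)) = χ.1 := rfl

theorem irrKind_det (α : MulChar F ℂ) : irrKind (irrMap (Sum.inl (Sum.inl α)) : IrrCharacter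
    (Matrix.GeneralLinearGroup (Fin 2) F)) = 0 := by
  unfold irrKind
  rw [irrMap_det, if_neg (noncusp_detFun α), if_pos (detFun_one α)]

theorem irrKind_st (α : MulChar F ℂ) : irrKind (irrMap (Sum.inl (Sum.inr α)) : IrrCharacter
    (Matrix.GeneralLinearGroup (Fin 2) F)) = 1 := by
  unfold irrKind
  rw [irrMap_st, if_neg (noncusp_stFun α), if_neg (by rw [stFun_one]; exact card_cast_ne_one),
    if_pos (stFun_one α)]

theorem irrKind_ps (z : {z : Sym2 (MulChar F ℂ) // ¬ z.IsDiag}) :
    irrKind (irrMap (Sum.inr (Sum.inl z)) : IrrCharacter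
      (Matrix.GeneralLinearGroup (Fin 2) F)) = 2 := by
  unfold irrKind
  rw [irrMap_ps, if_neg (psSym_noncusp z.1 z.2), if_neg, if_neg]
  · rw [psSym_one]
    intro h
    have : (1 : ℂ) = 0 := by linear_combination h
    exact one_ne_zero this
  · rw [psSym_one]
    intro h
    have : (Fintype.card F : ℂ) = 0 := by linear_combination h
    exact card_ne_zero_aux.1 this

theorem irrKind_cusp (χ : {χ : IrrCharacter (Matrix.GeneralLinearGroup (Fin 2) F) //
    IsCusp (χ : Matrix.GeneralLinearGroup (Fin 2) F → ℂ)}) :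
    irrKind (irrMap (Sum.inr (Sum.inr χ)) : IrrCharacter
      (Matrix.GeneralLinearGroup (Fin 2) F)) = 3 := by
  unfold irrKind
  rw [irrMap_cusp, if_pos χ.2]

theorem irrMap_bijective : Function.Bijective (irrMap (F := F)) := by
  constructor
  · intro x y h
    have hk := congrArg irrKind h
    rcases x with (α | α) | (z | χ) <;> rcases y with (β | β) | (w | ψ) <;>
      simp only [irrKind_det, irrKind_st, irrKind_ps, irrKind_cusp] at hk <;>
      first
        | (exfalso; omega)
        | skip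
    · have h1 := congrArg Subtype.val h
      rw [detFun_injective h1]
    · have h1 := congrArg Subtype.val h
      rw [stFun_injective h1]
    · have h1 := congrArg Subtype.val h
      have h2 : z = w := Subtype.ext (psSym_injective h1)
      rw [h2]
    · have h1 : χ = ψ := Subtype.ext h
      rw [h1]
  · intro χ
    by_cases hc : IsCusp (χ : Matrix.GeneralLinearGroup (Fin 2) F → ℂ)
    · exact ⟨Sum.inr (Sum.inr ⟨χ, hc⟩), rfl⟩
    · rcases noncusp_classify χ.2 hc with ⟨α, hα⟩ | ⟨α, hα⟩ | ⟨α, β, hαβ, h⟩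
      · exact ⟨Sum.inl (Sum.inl α), Subtype.ext hα.symm⟩
      · exact ⟨Sum.inl (Sum.inr α), Subtype.ext hα.symm⟩
      · refine ⟨Sum.inr (Sum.inl ⟨s(α, β), ?_⟩), Subtype.ext h.symm⟩
        rw [Sym2.mk_isDiag_iff]
        exact hαβ

/-- **Cuspidal characters of `GL₂(q)`** have degree `q - 1` and take the value `-1` at
transvections; there are `q (q - 1) / 2` of them. -/
theorem cusp_main :
    (∀ χ : Matrix.GeneralLinearGroup (Fin 2) F → ℂ,
      IsIrrCharacter (Matrix.GeneralLinearGroup (Fin 2) F) χ → IsCusp χ →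
        χ 1 = (Fintype.card F : ℂ) - 1 ∧ χ (uMat 1) = -1) ∧
    2 * Nat.card {χ : IrrCharacter (Matrix.GeneralLinearGroup (Fin 2) F) //
      IsCusp (χ : Matrix.GeneralLinearGroup (Fin 2) F → ℂ)} =
        Fintype.card F * (Fintype.card F - 1) := by
  classical
  haveI := Helper24.finite_irrCharacter (G := Matrix.GeneralLinearGroup (Fin 2) F)
  haveI : Fintype (IrrCharacter (Matrix.GeneralLinearGroup (Fin 2) F)) := Fintype.ofFinite _
  haveI : Fintype (MulChar F ℂ) := Fintype.ofFinite _
  obtain ⟨n, hn⟩ : ∃ n, Fintype.card F = n + 1 :=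
    ⟨Fintype.card F - 1, by have := Fintype.card_pos (α := F); omega⟩
  have hn0 : 0 < n := by have := Fintype.one_lt_card (α := F); omega
  have hqC : (Fintype.card F : ℂ) = (n : ℂ) + 1 := by rw [hn]; push_cast; ring
  have hM : Fintype.card (MulChar F ℂ) = n := by
    rw [← Nat.card_eq_fintype_card, card_mulChar, hn]
    rfl
  obtain ⟨k, hk⟩ : ∃ k, k = Fintype.card {z : Sym2 (MulChar F ℂ) // ¬ z.IsDiag} := ⟨_, rfl⟩
  have hk2 : 2 * k + n = n * n := by
    have h1 : k = n.choose 2 := by
      rw [hk, ← hM]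
      convert Sym2.card_subtype_not_diag (α := MulChar F ℂ)
    rw [h1, Nat.choose_two_right]
    have h2 := Nat.mul_div_cancel' (Nat.even_mul_pred_self n).two_dvd
    rw [h2]
    cases n with
    | zero => omega
    | succ j => simp; ring
  obtain ⟨a, ha⟩ : ∃ a, a = Fintype.card {χ : IrrCharacter (Matrix.GeneralLinearGroup (Fin 2) F) //
      IsCusp (χ : Matrix.GeneralLinearGroup (Fin 2) F → ℂ)} := ⟨_, rfl⟩
  choose m hm using fun χ : {χ : IrrCharacter (Matrix.GeneralLinearGroup (Fin 2) F) //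
      IsCusp (χ : Matrix.GeneralLinearGroup (Fin 2) F → ℂ)} => cusp_facts χ.1.2 χ.2
  obtain ⟨S, hS⟩ : ∃ S, S = ∑ χ, (m χ) ^ 2 := ⟨_, rfl⟩
  have hcard : Fintype.card (IrrCharacter (Matrix.GeneralLinearGroup (Fin 2) F)) =
      n + n + (k + a) := by
    rw [← Fintype.card_congr (Equiv.ofBijective _ (irrMap_bijective (F := F)))]
    simp only [Fintype.card_sum]
    rw [hM, ← hk, ← ha]
  have hclass : (n + 1) * n + n ≤
      Fintype.card (IrrCharacter (Matrix.GeneralLinearGroup (Fin 2) F)) := by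
    have h1 := card_conjClasses_GL2_ge (F := F)
    rw [← Helper2.card_irrCharacter, Nat.card_eq_fintype_card, hn] at h1
    simpa using h1
  have hsq := Helper2.sum_degree_sq (G := Matrix.GeneralLinearGroup (Fin 2) F)
  rw [← Equiv.sum_comp (Equiv.ofBijective _ (irrMap_bijective (F := F)))] at hsq
  simp only [Fintype.sum_sum_type, Equiv.ofBijective_apply, irrMap_det, irrMap_st, irrMap_ps,
    irrMap_cusp, detFun_one, stFun_one, psSym_one, Finset.sum_const, Finset.card_univ,
    nsmul_eq_mul, mul_one] at hsq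
  have hcs : ∑ χ : {χ : IrrCharacter (Matrix.GeneralLinearGroup (Fin 2) F) //
      IsCusp (χ : Matrix.GeneralLinearGroup (Fin 2) F → ℂ)},
      ((χ : IrrCharacter (Matrix.GeneralLinearGroup (Fin 2) F)) :
        Matrix.GeneralLinearGroup (Fin 2) F → ℂ) 1 *
      ((χ : IrrCharacter (Matrix.GeneralLinearGroup (Fin 2) F)) :
        Matrix.GeneralLinearGroup (Fin 2) F → ℂ) 1 = (S : ℂ) * (n : ℂ) ^ 2 := by
    rw [hS, Nat.cast_sum, Finset.sum_mul]
    refine Finset.sum_congr rfl fun χ _ => ?_
    rw [(hm χ).2.1, hqC]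
    push_cast
    ring
  rw [hcs, hM, ← hk, card_GL2_cast, card_borel_cast, hqC] at hsq
  have h3C : ((n : ℂ) + n * (n + 1) ^ 2 + k * (n + 2) ^ 2 + S * n ^ 2) =
      (n + 2) * (n ^ 2 * (n + 1)) := by
    linear_combination hsq
  have h3 : ((n : ℤ) + n * (n + 1) ^ 2 + k * (n + 2) ^ 2 + S * n ^ 2) =
      (n + 2) * (n ^ 2 * (n + 1)) := by
    exact_mod_cast h3C
  have haS : a ≤ S := by
    rw [ha, hS, ← Finset.card_univ, Finset.card_eq_sum_ones]
    exact Finset.sum_le_sum (fun χ _ => Nat.one_le_pow _ _ (hm χ).1)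
  have hk2Z : (2 : ℤ) * k = n ^ 2 - n := by
    have : ((2 * k + n : ℕ) : ℤ) = ((n * n : ℕ) : ℤ) := by rw [hk2]
    push_cast at this
    linear_combination this
  have h5 : (n : ℤ) ^ 2 * (2 * S - n * (n + 1)) = 0 := by
    linear_combination 2 * h3 - ((n : ℤ) + 2) ^ 2 * hk2Z
  have hnZ : (n : ℤ) ^ 2 ≠ 0 := by
    have : (0 : ℤ) < n := by exact_mod_cast hn0
    positivity
  have h6 : (2 : ℤ) * S = n ^ 2 + n := by
    rcases mul_eq_zero.mp h5 with h | h
    · exact absurd h hnZ
    · linear_combination h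
  have hclassZ : (n : ℤ) ^ 2 ≤ k + a := by
    rw [hcard] at hclass
    have : (((n + 1) * n + n : ℕ) : ℤ) ≤ ((n + n + (k + a) : ℕ) : ℤ) := by exact_mod_cast hclass
    push_cast at this
    nlinarith
  have haSZ : (a : ℤ) ≤ S := by exact_mod_cast haS
  have hSa : S = a := by
    have : (S : ℤ) = a := by linarith
    exact_mod_cast this
  have hall : ∀ χ, (m χ) ^ 2 = 1 := by
    have hle : ∀ χ ∈ (Finset.univ : Finset {χ : IrrCharacter (Matrix.GeneralLinearGroup (Fin 2) F) //
        IsCusp (χ : Matrix.GeneralLinearGroup (Fin 2) F → ℂ)}), 1 ≤ (m χ) ^ 2 :=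
      fun χ _ => Nat.one_le_pow _ _ (hm χ).1
    have heq : ∑ χ : {χ : IrrCharacter (Matrix.GeneralLinearGroup (Fin 2) F) //
        IsCusp (χ : Matrix.GeneralLinearGroup (Fin 2) F → ℂ)}, 1 = ∑ χ, (m χ) ^ 2 := by
      rw [← hS, hSa, ha, ← Finset.card_univ, Finset.card_eq_sum_ones]
    intro χ
    exact ((Finset.sum_eq_sum_iff_of_le hle).mp heq χ (Finset.mem_univ _)).symm
  have hm1 : ∀ χ, m χ = 1 := by
    intro χ
    have h := hall χ
    have h1 := (hm χ).1
    nlinarith
  refine ⟨?_, ?_⟩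
  · intro χ hχ hc
    have h := hm ⟨⟨χ, hχ⟩, hc⟩
    rw [hm1] at h
    have h1 : χ 1 = ((1 : ℕ) : ℂ) * ((Fintype.card F : ℂ) - 1) := h.2.1
    have h2 : χ (uMat 1) = -((1 : ℕ) : ℂ) := h.2.2
    refine ⟨?_, ?_⟩
    · rw [h1]; push_cast; ring
    · rw [h2]; push_cast; ring
  · rw [Nat.card_eq_fintype_card, ← ha, ← hSa, hn]
    have : ((2 * S : ℕ) : ℤ) = (((n + 1) * (n + 1 - 1) : ℕ) : ℤ) := by
      rw [Nat.add_sub_cancel]
      push_cast
      linear_combination h6
    exact_mod_cast this

/-- The four kinds of irreducible characters of `GL₂(q)`. -/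
theorem irr_cases {χ : Matrix.GeneralLinearGroup (Fin 2) F → ℂ}
    (hχ : IsIrrCharacter (Matrix.GeneralLinearGroup (Fin 2) F) χ) :
    (∃ α : MulChar F ℂ, χ = detFun α) ∨ (∃ α : MulChar F ℂ, χ = stFun α) ∨
      (∃ α β : MulChar F ℂ, α ≠ β ∧ χ = psFun α β) ∨
      (IsCusp χ ∧ χ 1 = (Fintype.card F : ℂ) - 1 ∧ χ (uMat 1) = -1) := by
  by_cases hc : IsCusp χ
  · exact Or.inr (Or.inr (Or.inr ⟨hc, cusp_main.1 χ hχ hc⟩))
  · rcases noncusp_classify hχ hc with h | h | h
    · exact Or.inl h
    · exact Or.inr (Or.inl h)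
    · exact Or.inr (Or.inr (Or.inl h))

open Classical in
/-- The number of irreducible characters of `GL₂(q)` of a given degree. -/
theorem card_irr_degree (d : ℂ) :
    Nat.card {χ : IrrCharacter (Matrix.GeneralLinearGroup (Fin 2) F) //
      (χ : Matrix.GeneralLinearGroup (Fin 2) F → ℂ) 1 = d} =
      (if (1 : ℂ) = d then Fintype.card F - 1 else 0) +
      (if (Fintype.card F : ℂ) = d then Fintype.card F - 1 else 0) +
      ((if (Fintype.card F : ℂ) + 1 = d then (Fintype.card F - 1).choose 2 else 0) +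
       (if (Fintype.card F : ℂ) - 1 = d then Fintype.card F * (Fintype.card F - 1) / 2 else 0)) := by
  haveI := Helper24.finite_irrCharacter (G := Matrix.GeneralLinearGroup (Fin 2) F)
  haveI : Fintype (IrrCharacter (Matrix.GeneralLinearGroup (Fin 2) F)) := Fintype.ofFinite _
  haveI : Fintype (MulChar F ℂ) := Fintype.ofFinite _
  have hM : Fintype.card (MulChar F ℂ) = Fintype.card F - 1 := by
    rw [← Nat.card_eq_fintype_card, card_mulChar]
  have hk : Fintype.card {z : Sym2 (MulChar F ℂ) // ¬ z.IsDiag} = (Fintype.card F - 1).choose 2 := by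
    rw [← hM]
    convert Sym2.card_subtype_not_diag (α := MulChar F ℂ)
  have ha : Fintype.card {χ : IrrCharacter (Matrix.GeneralLinearGroup (Fin 2) F) //
      IsCusp (χ : Matrix.GeneralLinearGroup (Fin 2) F → ℂ)} =
      Fintype.card F * (Fintype.card F - 1) / 2 := by
    have h := (cusp_main (F := F)).2
    rw [Nat.card_eq_fintype_card] at h
    omega
  rw [Nat.card_eq_fintype_card, Fintype.card_subtype, Finset.card_filter,
    ← Equiv.sum_comp (Equiv.ofBijective _ (irrMap_bijective (F := F)))]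
  simp only [Fintype.sum_sum_type, Equiv.ofBijective_apply, irrMap_det, irrMap_st, irrMap_ps,
    irrMap_cusp, detFun_one, stFun_one, psSym_one]
  have hc : ∀ χ : {χ : IrrCharacter (Matrix.GeneralLinearGroup (Fin 2) F) //
      IsCusp (χ : Matrix.GeneralLinearGroup (Fin 2) F → ℂ)},
      ((χ : IrrCharacter (Matrix.GeneralLinearGroup (Fin 2) F)) :
        Matrix.GeneralLinearGroup (Fin 2) F → ℂ) 1 = (Fintype.card F : ℂ) - 1 :=
    fun χ => ((cusp_main (F := F)).1 _ χ.1.2 χ.2).1
  simp only [hc, Finset.sum_const, Finset.card_univ, smul_eq_mul, mul_ite, mul_one, mul_zero,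
    hM, hk, ha]

end Count

end Cfsg.Agent.Helper13
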