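import Mathlib
import Cfsg.Agent.Helper13.GL2Count

/-!
Zeros of the irreducible characters of `GL₂(q)`.
-/

set_option autoImplicit false

namespace Cfsg.Agent.Helper13

open Cfsg

open scoped ComplexConjugate

section Twist

variable {F : Type*} [Field F] [Fintype F] [DecidableEq F]

theorem sum_mulChar_mul_conj [Fintype (MulChar F ℂ)] (a a₀ : Fˣ) :
    ∑ α : MulChar F ℂ, α (a : F) * conj (α (a₀ : F)) =
      if a = a₀ then ((Fintype.card F : ℂ) - 1) else 0 := by
  have h1 : ∀ α : MulChar F ℂ, α (a : F) * conj (α (a₀ : F)) = α ((a * a₀⁻¹ : Fˣ) : F) := by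
    intro α
    have h2 : conj (α (a₀ : F)) = α⁻¹ (a₀ : F) := MulChar.star_apply' α (a₀ : F)
    rw [h2, MulChar.inv_apply', Units.val_mul, map_mul, Units.val_inv_eq_inv_val]
  rw [Finset.sum_congr rfl (fun α _ => h1 α), sum_mulChar_apply]
  refine if_congr ?_ rfl rfl
  rw [mul_inv_eq_one]

/-- Twisted version of `sum_classInner_borel`. -/
theorem sum_classInner_borel_twist [Fintype (MulChar F ℂ)]
    {χ : Matrix.GeneralLinearGroup (Fin 2) F → ℂ}
    (hχ : IsClassFunction (Matrix.GeneralLinearGroup (Fin 2) F) χ) (a₀ d₀ : Fˣ) :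
    ∑ p : MulChar F ℂ × MulChar F ℂ, conj (p.1 (a₀ : F)) * conj (p.2 (d₀ : F)) *
      classInner (indFun (upperTriangularGL 2 F) (borelFun p.1 p.2)) χ =
      (Fintype.card F : ℂ)⁻¹ * ∑ c : F, conj (χ (borelMat a₀ d₀ c)) := by
  classical
  haveI : Fintype (upperTriangularGL 2 F) := Fintype.ofFinite _
  have hq := card_ne_zero_aux (F := F)
  have hq0 : (Fintype.card F : ℂ) ≠ 0 := hq.1
  have hm0 : (Fintype.card F : ℂ) - 1 ≠ 0 := hq.2
  have h1 : ∀ p : MulChar F ℂ × MulChar F ℂ,
      conj (p.1 (a₀ : F)) * conj (p.2 (d₀ : F)) *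
        classInner (indFun (upperTriangularGL 2 F) (borelFun p.1 p.2)) χ =
      (Nat.card (upperTriangularGL 2 F) : ℂ)⁻¹ *
        ∑ b : upperTriangularGL 2 F, conj (p.1 (a₀ : F)) * conj (p.2 (d₀ : F)) *
          (borelFun p.1 p.2 b * conj (χ b)) := by
    intro p
    rw [Helper2.frobenius_reciprocity _ _ _ hχ]
    unfold classInner
    rw [Finset.mul_sum, Finset.mul_sum, Finset.mul_sum]
    refine Finset.sum_congr rfl fun b _ => ?_
    ring
  rw [Finset.sum_congr rfl (fun p _ => h1 p), ← Finset.mul_sum, Finset.sum_comm]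
  have h2 : ∀ b : upperTriangularGL 2 F,
      ∑ p : MulChar F ℂ × MulChar F ℂ, conj (p.1 (a₀ : F)) * conj (p.2 (d₀ : F)) *
          (borelFun p.1 p.2 b * conj (χ b)) =
      (∑ α : MulChar F ℂ, α (((b : Matrix.GeneralLinearGroup (Fin 2) F) :
        Matrix (Fin 2) (Fin 2) F) 0 0) * conj (α (a₀ : F))) *
      (∑ β : MulChar F ℂ, β (((b : Matrix.GeneralLinearGroup (Fin 2) F) :
        Matrix (Fin 2) (Fin 2) F) 1 1) * conj (β (d₀ : F))) * conj (χ b) := by
    intro b
    rw [Finset.sum_mul_sum, Finset.sum_mul, Fintype.sum_prod_type]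
    refine Finset.sum_congr rfl fun α _ => ?_
    rw [Finset.sum_mul]
    refine Finset.sum_congr rfl fun β _ => ?_
    unfold borelFun
    ring
  rw [Finset.sum_congr rfl (fun b _ => h2 b), ← Equiv.sum_comp (borelEquiv (F := F)),
    Fintype.sum_prod_type]
  have h3 : ∀ (a d : Fˣ) (c : F),
      (∑ α : MulChar F ℂ, α ((((borelEquiv (a, d, c) : upperTriangularGL 2 F) :
        Matrix.GeneralLinearGroup (Fin 2) F) : Matrix (Fin 2) (Fin 2) F) 0 0) * conj (α (a₀ : F))) *
      (∑ β : MulChar F ℂ, β ((((borelEquiv (a, d, c) : upperTriangularGL 2 F) :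
        Matrix.GeneralLinearGroup (Fin 2) F) : Matrix (Fin 2) (Fin 2) F) 1 1) * conj (β (d₀ : F))) *
        conj (χ (borelEquiv (a, d, c) : upperTriangularGL 2 F)) =
      (if a = a₀ then ((Fintype.card F : ℂ) - 1) else 0) *
        (if d = d₀ then ((Fintype.card F : ℂ) - 1) else 0) * conj (χ (borelMat a d c)) := by
    intro a d c
    rw [← sum_mulChar_mul_conj a a₀, ← sum_mulChar_mul_conj d d₀]
    rfl
  rw [Finset.sum_eq_single a₀]
  · rw [Fintype.sum_prod_type, Finset.sum_eq_single d₀]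
    · rw [Finset.sum_congr rfl (fun c _ => h3 a₀ d₀ c)]
      simp only [if_true]
      rw [← Finset.mul_sum, card_borel_cast]
      field_simp
    · intro d _ hd
      refine Finset.sum_eq_zero fun c _ => ?_
      rw [h3 a₀ d c, if_neg hd, mul_zero, zero_mul]
    · intro h
      exact absurd (Finset.mem_univ _) h
  · intro a _ ha
    rw [Fintype.sum_prod_type]
    refine Finset.sum_eq_zero fun d _ => Finset.sum_eq_zero fun c _ => ?_
    rw [h3 a d c, if_neg ha, zero_mul, zero_mul]
  · intro h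
    exact absurd (Finset.mem_univ _) h

/-- A cuspidal irreducible character sums to zero over each coset of the unipotent radical in
the Borel subgroup. -/
theorem cusp_sum_zero {χ : Matrix.GeneralLinearGroup (Fin 2) F → ℂ}
    (hχ : IsIrrCharacter (Matrix.GeneralLinearGroup (Fin 2) F) χ) (hc : IsCusp χ) (a₀ d₀ : Fˣ) :
    ∑ c : F, χ (borelMat a₀ d₀ c) = 0 := by
  classical
  haveI : Fintype (MulChar F ℂ) := Fintype.ofFinite _
  have h := sum_classInner_borel_twist (Helper2.IsIrrCharacter.isClassFunction hχ) a₀ d₀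
  have h0 : ∀ p : MulChar F ℂ × MulChar F ℂ,
      classInner (indFun (upperTriangularGL 2 F) (borelFun p.1 p.2)) χ = 0 := by
    intro p
    by_contra hne
    exact noncusp_of_inner hχ p.1 p.2 hne hc
  rw [Finset.sum_congr rfl (fun p _ => by rw [h0 p, mul_zero]), Finset.sum_const_zero,
    ← map_sum] at h
  have h1 : conj (∑ c : F, χ (borelMat a₀ d₀ c)) = 0 := by
    rcases mul_eq_zero.mp h.symm with h2 | h2
    · exact absurd (inv_eq_zero.mp h2) card_ne_zero_aux.1
    · exact h2
  have h2 := congrArg conj h1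
  rw [Complex.conj_conj, map_zero] at h2
  exact h2

omit [Fintype F] [DecidableEq F] in
theorem borelMat_isConj (a d : Fˣ) (had : (a : F) ≠ (d : F)) (c : F) :
    IsConj (borelMat a d 0) (borelMat a d c) := by
  rw [isConj_iff]
  refine ⟨uMat (c / ((d : F) - (a : F))), ?_⟩
  have hne : (d : F) - (a : F) ≠ 0 := sub_ne_zero.mpr (Ne.symm had)
  rw [mul_inv_eq_iff_eq_mul]
  apply Matrix.GeneralLinearGroup.ext
  intro i j
  rw [Matrix.GeneralLinearGroup.coe_mul, Matrix.GeneralLinearGroup.coe_mul, uMat_coe,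
    borelMat_coe, borelMat_coe]
  fin_cases i <;> fin_cases j <;> simp [Matrix.mul_apply, Fin.sum_univ_two]
  field_simp
  ring

/-- A cuspidal irreducible character vanishes at diagonal matrices with distinct entries. -/
theorem cusp_vanish_split {χ : Matrix.GeneralLinearGroup (Fin 2) F → ℂ}
    (hχ : IsIrrCharacter (Matrix.GeneralLinearGroup (Fin 2) F) χ) (hc : IsCusp χ) (a d : Fˣ)
    (had : (a : F) ≠ (d : F)) : χ (borelMat a d 0) = 0 := by
  have h := cusp_sum_zero hχ hc a d
  have hcf : ∀ c : F, χ (borelMat a d c) = χ (borelMat a d 0) := by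
    intro c
    obtain ⟨x, hx⟩ := isConj_iff.mp (borelMat_isConj a d had c)
    rw [← hx]
    exact Helper2.IsIrrCharacter.isClassFunction hχ _ _
  rw [Finset.sum_congr rfl (fun c _ => hcf c), Finset.sum_const, Finset.card_univ,
    nsmul_eq_mul] at h
  rcases mul_eq_zero.mp h with h2 | h2
  · exact absurd h2 card_ne_zero_aux.1
  · exact h2

/-- An induced function from the Borel subgroup vanishes at elements without eigenvectors. -/
theorem indFun_borel_no_eigen (θ : upperTriangularGL 2 F → ℂ)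
    (g : Matrix.GeneralLinearGroup (Fin 2) F)
    (hg : ∀ (c : F) (v : Fin 2 → F), v ≠ 0 → (g : Matrix (Fin 2) (Fin 2) F).mulVec v ≠ c • v) :
    indFun (upperTriangularGL 2 F) θ g = 0 := by
  rw [Helper2.indFun_apply]
  have h : ∀ x : Matrix.GeneralLinearGroup (Fin 2) F,
      extendByZero (upperTriangularGL 2 F) θ (x⁻¹ * g * x) = 0 := by
    intro x
    apply Helper2.extendByZero_apply_not_mem
    intro hmem
    rw [S2308.mem_B] at hmem
    obtain ⟨y, hy⟩ : ∃ y, y = x⁻¹ * g * x := ⟨_, rfl⟩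
    rw [← hy] at hmem
    have hgx : g * x = x * y := by rw [hy]; group
    have hgx' : (g : Matrix (Fin 2) (Fin 2) F) * (x : Matrix (Fin 2) (Fin 2) F) =
        (x : Matrix (Fin 2) (Fin 2) F) * (y : Matrix (Fin 2) (Fin 2) F) := by
      rw [← Matrix.GeneralLinearGroup.coe_mul, ← Matrix.GeneralLinearGroup.coe_mul, hgx]
    have hv : (fun i => (x : Matrix (Fin 2) (Fin 2) F) i 0) ≠ 0 := by
      intro h0
      have hdet : (x : Matrix (Fin 2) (Fin 2) F).det ≠ 0 :=
        ((Matrix.isUnit_iff_isUnit_det _).mp (Units.isUnit _)).ne_zero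
      rw [Matrix.det_fin_two] at hdet
      have h00 := congrFun h0 0
      have h10 := congrFun h0 1
      simp only [Pi.zero_apply] at h00 h10
      rw [h00, h10] at hdet
      simp at hdet
    apply hg ((y : Matrix (Fin 2) (Fin 2) F) 0 0) _ hv
    funext i
    have h1 := congrFun (congrFun hgx' i) 0
    rw [Matrix.mul_apply, Matrix.mul_apply, Fin.sum_univ_two, Fin.sum_univ_two, hmem, mul_zero,
      add_zero] at h1
    rw [Matrix.mulVec, dotProduct, Fin.sum_univ_two, Pi.smul_apply, smul_eq_mul, h1]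
    ring
  rw [Finset.sum_congr rfl (fun x _ => h x), Finset.sum_const_zero, mul_zero]

end Twist

end Cfsg.Agent.Helper13
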