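import Mathlib
import Cfsg.Agent.Helper13.GL2Zeros

/-!
Values of the principal series characters of `GL₂(q)` on the Borel subgroup.
-/

set_option autoImplicit false

namespace Cfsg.Agent.Helper13

open Cfsg

open scoped ComplexConjugate

section Values

variable {F : Type*} [Field F]

theorem borelMat_conj_diag (a : Fˣ) (c : Fˣ) :
    borelMat c 1 0 * borelMat a a 1 * (borelMat c 1 0)⁻¹ = borelMat a a (c : F) := by
  rw [mul_inv_eq_iff_eq_mul]
  apply Matrix.GeneralLinearGroup.ext
  intro i j
  rw [Matrix.GeneralLinearGroup.coe_mul, Matrix.GeneralLinearGroup.coe_mul, borelMat_coe,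
    borelMat_coe, borelMat_coe]
  fin_cases i <;> fin_cases j <;> simp [Matrix.mul_apply, Fin.sum_univ_two, mul_comm]

/-- An upper triangular element of `GL₂` in the form `borelMat`. -/
theorem exists_eq_borelMat (g : Matrix.GeneralLinearGroup (Fin 2) F)
    (h10 : (g : Matrix (Fin 2) (Fin 2) F) 1 0 = 0) :
    ∃ a d : Fˣ, (a : F) = (g : Matrix (Fin 2) (Fin 2) F) 0 0 ∧
      (d : F) = (g : Matrix (Fin 2) (Fin 2) F) 1 1 ∧
      g = borelMat a d ((g : Matrix (Fin 2) (Fin 2) F) 0 1) := by
  have hdet : (g : Matrix (Fin 2) (Fin 2) F).det ≠ 0 :=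
    ((Matrix.isUnit_iff_isUnit_det _).mp (Units.isUnit _)).ne_zero
  rw [Matrix.det_fin_two, h10, mul_zero, sub_zero] at hdet
  refine ⟨Units.mk0 _ (left_ne_zero_of_mul hdet), Units.mk0 _ (right_ne_zero_of_mul hdet),
    rfl, rfl, ?_⟩
  apply Matrix.GeneralLinearGroup.ext
  intro i j
  rw [borelMat_coe]
  fin_cases i <;> fin_cases j
  · rfl
  · rfl
  · exact h10
  · rfl

variable [Fintype F] [DecidableEq F]

open Classical in
theorem classInner_ps_ps (p : MulChar F ℂ × MulChar F ℂ) (α β : MulChar F ℂ) :
    classInner (indFun (upperTriangularGL 2 F) (borelFun p.1 p.2))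
      (indFun (upperTriangularGL 2 F) (borelFun α β)) =
    (if p = (α, β) then 1 else 0) + (if p = (β, α) then 1 else 0) := by
  rw [classInner_indFun_borel]
  congr 1
  · refine if_congr ?_ rfl rfl
    rw [Prod.ext_iff]
  · refine if_congr ?_ rfl rfl
    rw [Prod.ext_iff]

/-- The twisted sum for a principal series character. -/
theorem sum_psFun_borel (α β : MulChar F ℂ) (a d : Fˣ) :
    ∑ c : F, psFun α β (borelMat a d c) =
      (Fintype.card F : ℂ) * (α (a : F) * β (d : F) + β (a : F) * α (d : F)) := by
  classical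
  haveI : Fintype (MulChar F ℂ) := Fintype.ofFinite _
  have hcf := Helper2.isClassFunction_indFun (upperTriangularGL 2 F) (borelFun α β)
  have h := sum_classInner_borel_twist hcf a d
  rw [Finset.sum_congr rfl (fun p _ => by rw [classInner_ps_ps p α β]),
    ← map_sum] at h
  simp only [mul_add, Finset.sum_add_distrib, mul_ite, mul_one, mul_zero, Finset.sum_ite_eq',
    Finset.mem_univ, if_true] at h
  have h2 := congrArg conj h
  rw [map_mul, Complex.conj_conj, map_inv₀, map_natCast, map_add, map_mul, map_mul,
    Complex.conj_conj, Complex.conj_conj, Complex.conj_conj, Complex.conj_conj] at h2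
  have hq := card_ne_zero_aux (F := F)
  have h3 : ∑ c : F, psFun α β (borelMat a d c) =
      (Fintype.card F : ℂ) * ((Fintype.card F : ℂ)⁻¹ *
        ∑ c : F, indFun (upperTriangularGL 2 F) (borelFun α β) (borelMat a d c)) := by
    rw [← mul_assoc, mul_inv_cancel₀ hq.1, one_mul]
  rw [h3, ← h2]

/-- Value of a principal series character at a diagonal matrix with distinct entries. -/
theorem psFun_split (α β : MulChar F ℂ) (a d : Fˣ) (had : (a : F) ≠ (d : F)) :
    psFun α β (borelMat a d 0) = α (a : F) * β (d : F) + β (a : F) * α (d : F) := by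
  have h := sum_psFun_borel α β a d
  have hcf := Helper2.isClassFunction_indFun (upperTriangularGL 2 F) (borelFun α β)
  have hc : ∀ c : F, psFun α β (borelMat a d c) = psFun α β (borelMat a d 0) := by
    intro c
    obtain ⟨x, hx⟩ := isConj_iff.mp (borelMat_isConj a d had c)
    rw [← hx]
    exact hcf _ _
  rw [Finset.sum_congr rfl (fun c _ => hc c), Finset.sum_const, Finset.card_univ,
    nsmul_eq_mul] at h
  exact mul_left_cancel₀ card_ne_zero_aux.1 h

/-- Value of a principal series character at a scalar matrix. -/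
theorem psFun_scalar (α β : MulChar F ℂ) (a : Fˣ) :
    psFun α β (borelMat a a 0) = ((Fintype.card F : ℂ) + 1) * (α (a : F) * β (a : F)) := by
  have hB0 : (Nat.card (upperTriangularGL 2 F) : ℂ) ≠ 0 := by exact_mod_cast Nat.card_pos.ne'
  unfold psFun
  rw [Helper2.indFun_apply]
  have h : ∀ x : Matrix.GeneralLinearGroup (Fin 2) F,
      extendByZero (upperTriangularGL 2 F) (borelFun α β) (x⁻¹ * borelMat a a 0 * x) =
        α (a : F) * β (a : F) := by
    intro x
    have h1 : x⁻¹ * borelMat a a 0 * x = borelMat a a 0 := by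
      have := scalar_conj a x⁻¹
      rwa [inv_inv] at this
    rw [h1, Helper2.extendByZero_apply_mem _ _ (borelMat_mem a a 0)]
    rfl
  rw [Finset.sum_congr rfl (fun x _ => h x), Finset.sum_const, Finset.card_univ, nsmul_eq_mul,
    ← Nat.card_eq_fintype_card, card_GL2_cast]
  field_simp

/-- Value of a principal series character at a non-semisimple element. -/
theorem psFun_unip (α β : MulChar F ℂ) (a : Fˣ) (c : F) (hc : c ≠ 0) :
    psFun α β (borelMat a a c) = α (a : F) * β (a : F) := by
  have h := sum_psFun_borel α β a a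
  have hcf := Helper2.isClassFunction_indFun (upperTriangularGL 2 F) (borelFun α β)
  have hcc : ∀ c : F, c ≠ 0 → psFun α β (borelMat a a c) = psFun α β (borelMat a a 1) := by
    intro c hc
    have h1 := borelMat_conj_diag a (Units.mk0 c hc)
    rw [Units.val_mk0] at h1
    rw [← h1]
    exact hcf _ _
  rw [← Finset.add_sum_erase Finset.univ _ (Finset.mem_univ (0 : F)), psFun_scalar,
    Finset.sum_congr rfl (fun c hc => hcc c (Finset.ne_of_mem_erase hc)), Finset.sum_const,
    Finset.card_erase_of_mem (Finset.mem_univ _), Finset.card_univ, nsmul_eq_mul,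
    Nat.cast_sub Fintype.card_pos, Nat.cast_one] at h
  have hq := card_ne_zero_aux (F := F)
  rw [hcc c hc]
  have h2 : ((Fintype.card F : ℂ) - 1) * (psFun α β (borelMat a a 1) - α (a : F) * β (a : F)) = 0 := by
    linear_combination h
  rcases mul_eq_zero.mp h2 with h3 | h3
  · exact absurd h3 hq.2
  · exact sub_eq_zero.mp h3

end Values

end Cfsg.Agent.Helper13
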