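import Mathlib
import Cfsg.Agent.S0142
import Cfsg.Agent.Helper2.CharDecomp
import Cfsg.Agent.Helper2.CharNat
import Cfsg.Agent.Helper2.CharBound
import Cfsg.Agent.Helper2.CharOrtho
import Cfsg.Agent.Helper24.LinearChar
import Cfsg.Agent.Helper24.Schur
import Cfsg.Agent.Helper24.CharBasic
import Cfsg.Agent.Helper24.ClassSum
import Cfsg.Agent.Helper24.CharValues

/-!
# Faithful irreducible characters of prime degree

A finite group with a faithful irreducible character of prime degree `p` and order divisible by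
`p ^ 2` has a nontrivial centre.
-/

set_option autoImplicit false

namespace Cfsg.Agent.Helper13

open Cfsg
open scoped ComplexConjugate

section PrimeDeg

/-- A character of degree zero vanishes. -/
theorem character_eq_zero_of_one_eq_zero {H : Type*} [Group H] {ψ : H → ℂ}
    (hψ : IsCharacter H ψ) (h1 : ψ 1 = 0) : ψ = 0 := by
  obtain ⟨n, ρ, rfl⟩ := hψ
  have hn : n = 0 := by
    have h2 : ρ.character 1 = (n : ℂ) := by
      rw [Representation.char_one]; simp
    rw [h2] at h1
    exact_mod_cast h1
  subst hn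
  funext g
  show LinearMap.trace ℂ (Fin 0 → ℂ) (ρ g) = 0
  have : ρ g = 0 := Subsingleton.elim _ _
  rw [this, map_zero]

/-- A sum of linear characters takes the same value at a commutator as at `1`. -/
theorem list_sum_commutator {H : Type*} [Group H] (l : List (H → ℂ))
    (hl : ∀ φ ∈ l, IsIrrCharacter H φ ∧ φ 1 = 1) (a b : H) :
    l.sum (a * b * a⁻¹ * b⁻¹) = l.sum 1 := by
  induction l with
  | nil => simp
  | cons φ l ih =>
    have hφ := hl φ List.mem_cons_self
    have ih' := ih (fun ψ hψ => hl ψ (List.mem_cons_of_mem _ hψ))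
    rw [List.sum_cons, Pi.add_apply, Pi.add_apply, ih']
    congr 1
    have hc := Helper24.isCharacter_of_irr hφ.1
    have hm := Helper24.linear_char_mul hc hφ.2
    have ha : φ a * φ a⁻¹ = 1 := by rw [← hm, mul_inv_cancel, hφ.2]
    have hb : φ b * φ b⁻¹ = 1 := by rw [← hm, mul_inv_cancel, hφ.2]
    rw [hm, hm, hm, hφ.2]
    calc φ a * φ b * φ a⁻¹ * φ b⁻¹ = (φ a * φ a⁻¹) * (φ b * φ b⁻¹) := by ring
      _ = 1 := by rw [ha, hb, one_mul]

/-- A finite group with a faithful irreducible character of prime degree `p` and order divisible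
by `p ^ 2` has nontrivial centre. -/
theorem center_ne_bot_of_faithful_prime_degree {G : Type*} [Group G] [Finite G] (p : ℕ)
    (hp : p.Prime) (χ : IrrCharacter G) (hdeg : χ.1 1 = p)
    (hfaith : ∀ g : G, χ.1 g = χ.1 1 → g = 1) (hdiv : p ^ 2 ∣ Nat.card G) :
    Subgroup.center G ≠ ⊥ := by
  classical
  haveI : Fintype G := Fintype.ofFinite G
  haveI : Fact p.Prime := ⟨hp⟩
  intro hZ
  have hχirr : IsIrrCharacter G χ.1 := χ.2
  have hχc : IsCharacter G χ.1 := Helper24.isCharacter_of_irr hχirr
  obtain ⟨n, ρ, hρ, hρχ⟩ := χ.2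
  haveI := hρ
  have hn : n = p := by
    have h1 : ρ.character 1 = (n : ℂ) := by rw [Representation.char_one]; simp
    rw [hρχ, hdeg] at h1
    exact_mod_cast h1.symm
  have hinj : ∀ g h : G, ρ g = ρ h → g = h := by
    intro g h hgh
    have h1 : ρ (g * h⁻¹) = 1 := by rw [map_mul, hgh, ← map_mul, mul_inv_cancel, map_one]
    have h2 : χ.1 (g * h⁻¹) = χ.1 1 := by
      rw [← hρχ]
      show LinearMap.trace ℂ _ (ρ (g * h⁻¹)) = LinearMap.trace ℂ _ (ρ 1)
      have h0 : ρ 1 = 1 := map_one ρ
      rw [h1, h0]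
    exact mul_inv_eq_one.mp (hfaith _ h2)
  obtain ⟨P⟩ : Nonempty (Sylow p G) := inferInstance
  have hPcard : p ^ 2 ∣ Nat.card (P : Subgroup G) := P.pow_dvd_card_of_pow_dvd_card hdiv
  have hvan : ∀ z : G, z ∈ (P : Subgroup G) → (∀ x ∈ (P : Subgroup G), x * z = z * x) → z ≠ 1 →
      χ.1 z = 0 := by
    intro z hzP hzc hz1
    have hle : (P : Subgroup G) ≤ Subgroup.centralizer {z} := by
      intro x hx
      rw [Subgroup.mem_centralizer_iff]
      intro y hy
      rw [Set.mem_singleton_iff] at hy
      rw [hy]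
      exact (hzc x hx).symm
    have hnd : ¬ p ∣ (Subgroup.centralizer ({z} : Set G)).index := fun h =>
      P.not_dvd_index (h.trans (Subgroup.index_dvd_of_le hle))
    have hcop : Nat.Coprime (Module.finrank ℂ (Fin n → ℂ))
        (Subgroup.centralizer ({z} : Set G)).index := by
      rw [Module.finrank_fin_fun, hn]
      exact (Nat.Prime.coprime_iff_not_dvd hp).mpr hnd
    rcases S0142.result ρ z hcop with h0 | h0
    · rw [← hρχ]; exact h0
    · exfalso
      obtain ⟨ω, hω, -⟩ := Helper2.character_scalar_of_norm_eq ρ z h0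
      have hzcen : z ∈ Subgroup.center G := by
        rw [Subgroup.mem_center_iff]
        intro h
        apply hinj
        rw [map_mul, map_mul, hω, smul_mul_assoc, mul_smul_comm, one_mul, mul_one]
      rw [hZ, Subgroup.mem_bot] at hzcen
      exact hz1 hzcen
  have hres : IsCharacter (P : Subgroup G) (fun x : (P : Subgroup G) => χ.1 x) :=
    Helper24.isCharacter_restrict _ hχc
  obtain ⟨l, hl, hsum⟩ := Helper2.IsCharacter.exists_list hres
  haveI : Fintype (P : Subgroup G) := Fintype.ofFinite _
  have hPp : IsPGroup p (P : Subgroup G) := P.isPGroup'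
  have hp1 := hp.one_lt
  by_cases hlin : ∀ φ ∈ l, φ 1 = 1
  · have hab : ∀ a b : (P : Subgroup G), a * b = b * a := by
      intro a b
      have h1 := list_sum_commutator l (fun φ hφ => ⟨hl φ hφ, hlin φ hφ⟩) a b
      rw [← hsum] at h1
      have h2 : (a : G) * b * (a : G)⁻¹ * (b : G)⁻¹ = 1 := hfaith _ (by simpa using h1)
      have h3 : (a : G) * b = b * a := by
        have := mul_inv_eq_one.mp h2
        exact mul_inv_eq_iff_eq_mul.mp this
      exact Subtype.ext h3
    have hvanP : ∀ x : (P : Subgroup G), x ≠ 1 → χ.1 x = 0 := by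
      intro x hx
      apply hvan x x.2
      · intro y hy
        have := hab ⟨y, hy⟩ x
        exact congrArg Subtype.val this
      · intro h; apply hx; exact Subtype.ext h
    obtain ⟨m, hm⟩ := Helper2.classInner_char_nat hres
      (Helper2.isCharacter_one (G := (P : Subgroup G)))
    unfold classInner at hm
    have hs : ∑ x : (P : Subgroup G), (fun x : (P : Subgroup G) => χ.1 x) x *
        conj ((fun _ => (1 : ℂ)) x) = (p : ℂ) := by
      rw [Finset.sum_eq_single (1 : (P : Subgroup G))]
      · simp [hdeg]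
      · intro x _ hx
        simp [hvanP x hx]
      · intro h; exact absurd (Finset.mem_univ _) h
    rw [hs] at hm
    have hP0 : (Nat.card (P : Subgroup G) : ℂ) ≠ 0 := by exact_mod_cast Nat.card_pos.ne'
    have h4 : (p : ℂ) = (Nat.card (P : Subgroup G) : ℂ) * (m : ℂ) := by
      rw [← hm]; field_simp
    have h5 : p = Nat.card (P : Subgroup G) * m := by exact_mod_cast h4
    have h6 : p ^ 2 ∣ p := hPcard.trans ⟨m, h5⟩
    have h7 : p ^ 2 ≤ p := Nat.le_of_dvd hp.pos h6
    nlinarith
  · obtain ⟨φ, hφl, hφ1⟩ : ∃ φ ∈ l, φ 1 ≠ 1 := by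
      by_contra h
      apply hlin
      intro φ hφ
      by_contra h1
      exact h ⟨φ, hφ, h1⟩
    have hφirr := hl φ hφl
    have hφc := Helper24.isCharacter_of_irr hφirr
    obtain ⟨l₁, l₂, hl12⟩ := List.append_of_mem hφl
    have hψ : IsCharacter (P : Subgroup G) (l₁ ++ l₂).sum := by
      apply Helper2.isCharacter_list_sum
      intro ψ hψ
      apply Helper24.isCharacter_of_irr
      apply hl
      rw [hl12]
      rcases List.mem_append.mp hψ with h | h
      · exact List.mem_append_left _ h
      · exact List.mem_append_right _ (List.mem_cons_of_mem _ h)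
    have hdecomp : (fun x : (P : Subgroup G) => χ.1 x) = φ + (l₁ ++ l₂).sum := by
      rw [hsum, hl12, List.sum_append, List.sum_cons, List.sum_append]
      abel
    have hdφ := Helper24.charDegree_spec hφc
    have hdψ := Helper24.charDegree_spec hψ
    have h1 := congrFun hdecomp 1
    simp only [Pi.add_apply, OneMemClass.coe_one] at h1
    rw [hdeg, hdφ, hdψ] at h1
    have h1' : p = charDegree φ + charDegree (l₁ ++ l₂).sum := by exact_mod_cast h1
    have hdvd := Helper2.irr_degree_dvd_card hφirr
    obtain ⟨k, hk⟩ := IsPGroup.iff_card.mp hPp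
    rw [hk] at hdvd
    obtain ⟨j, hj, hj'⟩ := (Nat.dvd_prime_pow hp).mp hdvd
    have hj0 : j ≠ 0 := by
      rintro rfl
      apply hφ1
      rw [hdφ, hj', pow_zero, Nat.cast_one]
    have hge : p ≤ charDegree φ := by
      rw [hj']
      calc p = p ^ 1 := (pow_one p).symm
        _ ≤ p ^ j := Nat.pow_le_pow_right hp.pos (Nat.one_le_iff_ne_zero.mpr hj0)
    have hψ0 : charDegree (l₁ ++ l₂).sum = 0 := by omega
    have hψz : (l₁ ++ l₂).sum = 0 :=
      character_eq_zero_of_one_eq_zero hψ (by rw [hdψ, hψ0, Nat.cast_zero])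
    rw [hψz, add_zero] at hdecomp
    haveI : Nontrivial (P : Subgroup G) := by
      rw [← Finite.one_lt_card_iff_nontrivial]
      have : p ^ 2 ≤ Nat.card (P : Subgroup G) := Nat.le_of_dvd Nat.card_pos hPcard
      nlinarith
    haveI := hPp.center_nontrivial
    obtain ⟨z, hz⟩ := exists_ne (1 : Subgroup.center (P : Subgroup G))
    have hz1 : ((z : (P : Subgroup G)) : G) ≠ 1 := by
      intro h
      apply hz
      ext
      exact_mod_cast h
    have hχz : χ.1 ((z : (P : Subgroup G)) : G) = 0 := by
      apply hvan _ (z : (P : Subgroup G)).2 _ hz1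
      intro x hx
      have := Subgroup.mem_center_iff.mp z.2 ⟨x, hx⟩
      exact congrArg Subtype.val this
    have hφz : φ (z : (P : Subgroup G)) = 0 := by
      rw [← hdecomp]; exact hχz
    obtain ⟨c, hc1, -⟩ := Helper24.char_central_mul hφirr (z : (P : Subgroup G)) z.2
    have e1 := hc1 1
    rw [one_mul, hφz] at e1
    have hφ10 := Helper24.irr_one_ne_zero hφirr
    have hc0 : c = 0 := by
      rcases mul_eq_zero.mp e1.symm with h | h
      · exact h
      · exact absurd h hφ10
    have e2 := hc1 (z : (P : Subgroup G))⁻¹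
    rw [inv_mul_cancel, hc0, zero_mul] at e2
    exact hφ10 e2

end PrimeDeg

end Cfsg.Agent.Helper13
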