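import Cfsg.Agent.Helper25.FSIndicator
import Cfsg.Agent.Helper25.Gallagher
import Cfsg.Agent.Helper6.GoingDown
import Cfsg.Agent.Helper6.Inertia
import Cfsg.Agent.Helper6.ConjChar
import Cfsg.Agent.Helper6.Kernel
import Cfsg.Agent.Helper2.CharConstituent
import Cfsg.Agent.Helper2.IndFun
import Cfsg.Agent.Helper24.OneNonlinear
import Cfsg.Agent.Helper24.MGroup
import Cfsg.Agent.Helper13.PrimeDeg

set_option autoImplicit false

namespace Cfsg.Agent.Helper13

open Cfsg
open scoped ComplexConjugate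

section MatrixLemma

/-- The operator `B ↦ A B Cᵀ`. -/
noncomputable def opT {m : ℕ} (A C : Matrix (Fin m) (Fin m) ℂ) :
    Module.End ℂ (Matrix (Fin m) (Fin m) ℂ) where
  toFun B := A * B * C.transpose
  map_add' X Y := by rw [mul_add, add_mul]
  map_smul' c X := by simp

theorem opT_apply {m : ℕ} (A C B : Matrix (Fin m) (Fin m) ℂ) :
    opT A C B = A * B * C.transpose := rfl

theorem opT_single_apply {m : ℕ} (A C : Matrix (Fin m) (Fin m) ℂ) (i j k l : Fin m) :
    (A * Matrix.single j l (1 : ℂ) * C.transpose) i k = A i j * C k l := by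
  rw [Matrix.mul_apply, Finset.sum_eq_single l]
  · rw [Matrix.mul_single_apply_same, Matrix.transpose_apply, mul_one]
  · intro b _ hb
    rw [Matrix.mul_single_apply_of_ne _ _ _ _ _ hb, zero_mul]
  · intro h
    exact absurd (Finset.mem_univ _) h

theorem trace_opT {m : ℕ} (A C : Matrix (Fin m) (Fin m) ℂ) :
    LinearMap.trace ℂ _ (opT A C) = A.trace * C.trace := by
  rw [Helper25.trace_matrix_end]
  simp only [opT_apply, opT_single_apply, Matrix.trace, Matrix.diag_apply, Finset.sum_mul_sum]

theorem opT_mul {m : ℕ} (A C A' C' : Matrix (Fin m) (Fin m) ℂ) :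
    opT A C * opT A' C' = opT (A * A') (C * C') := by
  apply LinearMap.ext
  intro B
  simp only [Module.End.mul_apply, opT_apply, Matrix.transpose_mul, Matrix.mul_assoc]

/-- Two matrix representations whose characters have vanishing bilinear pairing multiply
to zero on average. -/
theorem sum_mul_eq_zero_of_trace {N : Type*} [Group N] [Fintype N] {m : ℕ}
    (X₁ X₂ : N → Matrix (Fin m) (Fin m) ℂ)
    (h₁ : ∀ a b, X₁ (a * b) = X₁ a * X₁ b) (h₂ : ∀ a b, X₂ (a * b) = X₂ a * X₂ b)
    (htr : ∑ n : N, (X₁ n).trace * (X₂ n).trace = 0) :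
    ∑ n : N, X₁ n * X₂ n = 0 := by
  classical
  have hne : (Nat.card N : ℂ) ≠ 0 := by exact_mod_cast Nat.card_pos.ne'
  obtain ⟨Q, hQ⟩ : ∃ Q : Module.End ℂ (Matrix (Fin m) (Fin m) ℂ),
      Q = (Nat.card N : ℂ)⁻¹ • ∑ n : N, opT (X₁ n) (X₂ n) := ⟨_, rfl⟩
  have hinv : ∀ h : N, opT (X₁ h) (X₂ h) * Q = Q := by
    intro h
    rw [hQ, mul_smul_comm, Finset.mul_sum]
    congr 1
    simp only [opT_mul, ← h₁, ← h₂]
    exact Fintype.sum_equiv (Equiv.mulLeft h) _ _ (fun g => rfl)
  have hidem : Q * Q = Q := by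
    calc Q * Q = ((Nat.card N : ℂ)⁻¹ • ∑ n : N, opT (X₁ n) (X₂ n)) * Q := by rw [← hQ]
      _ = (Nat.card N : ℂ)⁻¹ • ∑ n : N, opT (X₁ n) (X₂ n) * Q := by
          rw [smul_mul_assoc, Finset.sum_mul]
      _ = (Nat.card N : ℂ)⁻¹ • ∑ _n : N, Q := by simp only [hinv]
      _ = Q := by
          rw [Finset.sum_const, Finset.card_univ, ← Nat.card_eq_fintype_card,
            ← Nat.cast_smul_eq_nsmul ℂ, smul_smul, inv_mul_cancel₀ hne, one_smul]
  have htrQ : LinearMap.trace ℂ _ Q = 0 := by
    rw [hQ, map_smul, map_sum]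
    simp only [trace_opT]
    rw [htr, smul_zero]
  have hidem' : IsIdempotentElem Q := hidem
  have hproj := LinearMap.IsIdempotentElem.isProj_range Q hidem'
  have hfr : Module.finrank ℂ (LinearMap.range Q) = 0 := by
    have h1 := hproj.trace
    rw [htrQ] at h1
    exact_mod_cast h1.symm
  have hQ0 : ∀ B, Q B = 0 := by
    intro B
    have h1 : LinearMap.range Q = ⊥ := Submodule.finrank_eq_zero.1 hfr
    have h2 : Q B ∈ LinearMap.range Q := LinearMap.mem_range_self Q B
    rw [h1] at h2
    exact (Submodule.mem_bot ℂ).1 h2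
  have hsum0 : ∀ B, ∑ n : N, X₁ n * B * (X₂ n).transpose = 0 := by
    intro B
    have h1 := hQ0 B
    rw [hQ, LinearMap.smul_apply, LinearMap.sum_apply] at h1
    have h2 : ∑ n : N, X₁ n * B * (X₂ n).transpose = ∑ n : N, opT (X₁ n) (X₂ n) B := rfl
    rw [h2]
    rcases smul_eq_zero.1 h1 with h | h
    · exact absurd h (inv_ne_zero hne)
    · exact h
  ext i l
  rw [Matrix.sum_apply, Matrix.zero_apply]
  have h3 : ∀ n : N, (X₁ n * X₂ n) i l
      = ∑ j : Fin m, (X₁ n * Matrix.single j l (1 : ℂ) * (X₂ n).transpose) i j := by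
    intro n
    rw [Matrix.mul_apply]
    refine Finset.sum_congr rfl fun j _ => ?_
    rw [opT_single_apply]
  rw [Finset.sum_congr rfl (fun n _ => h3 n), Finset.sum_comm]
  refine Finset.sum_eq_zero fun j _ => ?_
  have h4 := congrFun (congrFun (hsum0 (Matrix.single j l (1 : ℂ))) i) j
  rw [Matrix.sum_apply, Matrix.zero_apply] at h4
  exact h4

end MatrixLemma

section IndReal

variable {G : Type*} [Group G] [Fintype G]

theorem sum_ind_sq (H : Subgroup G) (θ : H → ℂ) :
    ∑ g : G, indFun H θ (g * g)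
      = (Nat.card G : ℂ) * ((Nat.card H : ℂ)⁻¹ * ∑ g : G, extendByZero H θ (g * g)) := by
  simp only [Helper2.indFun_apply]
  rw [← Finset.mul_sum, Finset.sum_comm]
  have h : ∀ x : G, ∑ g : G, extendByZero H θ (x⁻¹ * (g * g) * x)
      = ∑ g : G, extendByZero H θ (g * g) := by
    intro x
    refine Fintype.sum_equiv (MulAut.conj x⁻¹).toEquiv _ _ (fun g => ?_)
    show extendByZero H θ (x⁻¹ * (g * g) * x)
      = extendByZero H θ ((x⁻¹ * g * x⁻¹⁻¹) * (x⁻¹ * g * x⁻¹⁻¹))
    congr 1
    group
  rw [Finset.sum_congr rfl (fun x _ => h x), Finset.sum_const, Finset.card_univ, nsmul_eq_mul,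
    ← Nat.card_eq_fintype_card]
  ring

/-- The Frobenius–Schur indicator of the character induced from an extension, with indicator
`1`, of an irreducible character of a normal subgroup to its inertia group. -/
theorem fs_ind_of_ext (N : Subgroup G) [hN : N.Normal] [Fintype N] {φ : N → ℂ}
    (hφ : IsIrrCharacter N φ) (I : Subgroup G) [Fintype I]
    (hI : ∀ g : G, g ∈ I ↔ Helper6.conjFun N g φ = φ) (hNI : N ≤ I) {ψ : I → ℂ}
    (hψ : IsIrrCharacter I ψ) (hres : ∀ n : N, ψ (Subgroup.inclusion hNI n) = φ n)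
    (hν : (Nat.card I : ℂ)⁻¹ * ∑ g : I, ψ (g * g) = 1) :
    (Nat.card G : ℂ)⁻¹ * ∑ g : G, indFun I ψ (g * g) = 1 := by
  classical
  have hG0 : (Nat.card G : ℂ) ≠ 0 := by exact_mod_cast Nat.card_pos.ne'
  have hI0 : (Nat.card I : ℂ) ≠ 0 := by exact_mod_cast Nat.card_pos.ne'
  have hN0 : (Nat.card N : ℂ) ≠ 0 := by exact_mod_cast Nat.card_pos.ne'
  have hreal : ∀ s : I, (ψ s).im = 0 := by
    by_contra hcon
    obtain ⟨s, hs⟩ := not_forall.1 hcon
    have h0 := (Helper25.fs_indicator hψ).2 ⟨s, hs⟩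
    rw [hν] at h0
    exact one_ne_zero h0
  have hφreal : ∀ n : N, conj (φ n) = φ n := by
    intro n
    rw [← hres]
    exact Complex.conj_eq_iff_im.2 (hreal _)
  obtain ⟨m, ρ, -, hρ⟩ := id hψ
  obtain ⟨X, hX⟩ : ∃ X : I → Matrix (Fin m) (Fin m) ℂ, X = fun h => LinearMap.toMatrix' (ρ h) :=
    ⟨_, rfl⟩
  have hXmul : ∀ a b : I, X (a * b) = X a * X b := by
    intro a b
    rw [hX]
    show LinearMap.toMatrix' (ρ (a * b)) = LinearMap.toMatrix' (ρ a) * LinearMap.toMatrix' (ρ b)
    rw [map_mul, LinearMap.toMatrix'_mul]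
  have htr : ∀ h : I, (X h).trace = ψ h := by
    intro h
    rw [hX, ← hρ]
    show (LinearMap.toMatrix' (ρ h)).trace = LinearMap.trace ℂ (Fin m → ℂ) (ρ h)
    rw [LinearMap.trace_eq_matrix_trace ℂ (Pi.basisFun ℂ (Fin m)),
      LinearMap.toMatrix_eq_toMatrix']
  -- the key vanishing
  have key : ∀ g : G, g ∉ I → ∑ n : N, extendByZero I ψ ((g * (n : G)) * (g * (n : G))) = 0 := by
    intro g hg
    by_cases hgg : g * g ∈ I
    · have hmemN : ∀ n : N, g⁻¹ * (n : G) * g ∈ N := by
        intro n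
        have h1 := hN.conj_mem (n : G) n.2 g⁻¹
        rwa [inv_inv] at h1
      have hmem1 : ∀ n : N, g⁻¹ * (n : G) * g ∈ I := fun n => hNI (hmemN n)
      obtain ⟨X₁, hX₁⟩ : ∃ X₁ : N → Matrix (Fin m) (Fin m) ℂ,
          X₁ = fun n : N => X ⟨g⁻¹ * (n : G) * g, hmem1 n⟩ := ⟨_, rfl⟩
      obtain ⟨X₂, hX₂⟩ : ∃ X₂ : N → Matrix (Fin m) (Fin m) ℂ,
          X₂ = fun n : N => X (Subgroup.inclusion hNI n) := ⟨_, rfl⟩
      have h₁ : ∀ a b : N, X₁ (a * b) = X₁ a * X₁ b := by
        intro a b
        rw [hX₁]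
        show X ⟨g⁻¹ * ((a * b : N) : G) * g, hmem1 (a * b)⟩
          = X ⟨g⁻¹ * (a : G) * g, hmem1 a⟩ * X ⟨g⁻¹ * (b : G) * g, hmem1 b⟩
        rw [← hXmul]
        congr 1
        apply Subtype.ext
        show g⁻¹ * ((a * b : N) : G) * g = (g⁻¹ * (a : G) * g) * (g⁻¹ * (b : G) * g)
        rw [Subgroup.coe_mul]
        group
      have h₂ : ∀ a b : N, X₂ (a * b) = X₂ a * X₂ b := by
        intro a b
        rw [hX₂]
        show X (Subgroup.inclusion hNI (a * b))
          = X (Subgroup.inclusion hNI a) * X (Subgroup.inclusion hNI b)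
        rw [map_mul, hXmul]
      have ht1 : ∀ n : N, (X₁ n).trace = Helper6.conjFun N g⁻¹ φ n := by
        intro n
        rw [hX₁]
        show (X ⟨g⁻¹ * (n : G) * g, hmem1 n⟩).trace = _
        rw [htr, Helper6.conjFun_apply]
        have e1 : (⟨g⁻¹ * (n : G) * g, hmem1 n⟩ : I)
            = Subgroup.inclusion hNI ⟨g⁻¹ * (n : G) * g, hmemN n⟩ := rfl
        rw [e1, hres]
        congr 1
        apply Subtype.ext
        show g⁻¹ * (n : G) * g = g⁻¹ * (n : G) * g⁻¹⁻¹
        rw [inv_inv]
      have ht2 : ∀ n : N, (X₂ n).trace = conj (φ n) := by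
        intro n
        rw [hX₂]
        show (X (Subgroup.inclusion hNI n)).trace = _
        rw [htr, hres, hφreal]
      have hne : Helper6.conjFun N g⁻¹ φ ≠ φ := by
        intro h
        exact hg (by simpa using I.inv_mem ((hI g⁻¹).2 h))
      have hsum : ∑ n : N, (X₁ n).trace * (X₂ n).trace = 0 := by
        have h1 := Helper2.classInner_irr (Helper6.isIrrCharacter_conjFun N g⁻¹ hφ) hφ
        rw [if_neg hne] at h1
        unfold classInner at h1
        rcases mul_eq_zero.1 h1 with h | h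
        · exact absurd h (inv_ne_zero hN0)
        · rw [← h]
          exact Finset.sum_congr rfl fun n _ => by rw [ht1, ht2]
      have hzero := sum_mul_eq_zero_of_trace X₁ X₂ h₁ h₂ hsum
      have hterm : ∀ n : N, extendByZero I ψ ((g * (n : G)) * (g * (n : G)))
          = (X ⟨g * g, hgg⟩ * (X₁ n * X₂ n)).trace := by
        intro n
        have hmem : (g * (n : G)) * (g * (n : G)) ∈ I := by
          have e : (g * (n : G)) * (g * (n : G)) = (g * g) * (g⁻¹ * (n : G) * g) * (n : G) := by
            group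
          rw [e]
          exact I.mul_mem (I.mul_mem hgg (hmem1 n)) (hNI n.2)
        rw [Helper2.extendByZero_apply_mem I ψ hmem, hX₁, hX₂]
        show _ = (X ⟨g * g, hgg⟩ * (X ⟨g⁻¹ * (n : G) * g, hmem1 n⟩
          * X (Subgroup.inclusion hNI n))).trace
        rw [← hXmul, ← hXmul, htr]
        congr 1
        apply Subtype.ext
        show (g * (n : G)) * (g * (n : G)) = (g * g) * ((g⁻¹ * (n : G) * g) * (n : G))
        group
      rw [Finset.sum_congr rfl (fun n _ => hterm n), ← Matrix.trace_sum, ← Finset.mul_sum,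
        hzero, Matrix.mul_zero, Matrix.trace_zero]
    · refine Finset.sum_eq_zero fun n _ => ?_
      apply Helper2.extendByZero_apply_not_mem
      intro hmem
      apply hgg
      have e : g * g = (g * (n : G)) * (g * (n : G)) * (n : G)⁻¹ * (g⁻¹ * (n : G)⁻¹ * g) := by
        group
      rw [e]
      have hmemN : g⁻¹ * ((n : G)⁻¹) * g ∈ N := by
        have h1 := hN.conj_mem ((n : G)⁻¹) (N.inv_mem n.2) g⁻¹
        rwa [inv_inv] at h1
      exact I.mul_mem (I.mul_mem hmem (I.inv_mem (hNI n.2))) (hNI hmemN)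
  -- the part outside `I` vanishes
  have hout : ∑ g : G, (if g ∈ I then (0 : ℂ) else extendByZero I ψ (g * g)) = 0 := by
    have h1 : ∀ n : N, ∑ g : G, (if g * (n : G) ∈ I then (0 : ℂ)
          else extendByZero I ψ ((g * (n : G)) * (g * (n : G))))
        = ∑ g : G, (if g ∈ I then (0 : ℂ) else extendByZero I ψ (g * g)) := by
      intro n
      exact Fintype.sum_equiv (Equiv.mulRight (n : G)) _ _ (fun g => rfl)
    have h2 : ∑ n : N, ∑ g : G, (if g * (n : G) ∈ I then (0 : ℂ)
          else extendByZero I ψ ((g * (n : G)) * (g * (n : G)))) = 0 := by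
      rw [Finset.sum_comm]
      refine Finset.sum_eq_zero fun g _ => ?_
      by_cases hg : g ∈ I
      · refine Finset.sum_eq_zero fun n _ => ?_
        rw [if_pos (I.mul_mem hg (hNI n.2))]
      · have h3 : ∀ n : N, (if g * (n : G) ∈ I then (0 : ℂ)
            else extendByZero I ψ ((g * (n : G)) * (g * (n : G))))
            = extendByZero I ψ ((g * (n : G)) * (g * (n : G))) := by
          intro n
          rw [if_neg]
          intro hmem
          apply hg
          have e : g = g * (n : G) * (n : G)⁻¹ := by group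
          rw [e]
          exact I.mul_mem hmem (I.inv_mem (hNI n.2))
        rw [Finset.sum_congr rfl (fun n _ => h3 n)]
        exact key g hg
    rw [Finset.sum_congr rfl (fun n _ => h1 n), Finset.sum_const, Finset.card_univ,
      nsmul_eq_mul] at h2
    rcases mul_eq_zero.1 h2 with h | h
    · exfalso
      have : (Fintype.card N : ℂ) ≠ 0 := by
        rw [← Nat.card_eq_fintype_card]
        exact hN0
      exact this h
    · exact h
  -- the part inside `I`
  have hin : ∑ g : G, (if g ∈ I then extendByZero I ψ (g * g) else 0) = ∑ h : I, ψ (h * h) := by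
    rw [← Finset.sum_filter]
    rw [Finset.sum_subtype (Finset.univ.filter (fun g : G => g ∈ I)) (p := fun g : G => g ∈ I)
      (fun x => by simp) (fun g => extendByZero I ψ (g * g))]
    refine Finset.sum_congr rfl fun h _ => ?_
    have e := Helper2.extendByZero_apply_coe I ψ (h * h)
    rw [Subgroup.coe_mul] at e
    exact e
  have hsplit : ∑ g : G, extendByZero I ψ (g * g)
      = ∑ g : G, (if g ∈ I then extendByZero I ψ (g * g) else 0)
        + ∑ g : G, (if g ∈ I then (0 : ℂ) else extendByZero I ψ (g * g)) := by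
    rw [← Finset.sum_add_distrib]
    refine Finset.sum_congr rfl fun g _ => ?_
    by_cases hg : g ∈ I
    · rw [if_pos hg, if_pos hg, add_zero]
    · rw [if_neg hg, if_neg hg, zero_add]
  have hψsum : ∑ h : I, ψ (h * h) = (Nat.card I : ℂ) := by
    rw [inv_mul_eq_iff_eq_mul₀ hI0, mul_one] at hν
    exact hν
  rw [sum_ind_sq, hsplit, hout, hin, hψsum, add_zero, inv_mul_cancel₀ hI0, mul_one,
    inv_mul_cancel₀ hG0]

/-- Clifford correspondence for an extension: the character induced from an extension of `φ`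
to its inertia group is irreducible, and its restriction to `N` has norm `[G : I]`. -/
theorem ind_ext_irr (N : Subgroup G) [hN : N.Normal] [Fintype N] {φ : N → ℂ}
    (hφ : IsIrrCharacter N φ) (I : Subgroup G) [Fintype I]
    (hI : ∀ g : G, g ∈ I ↔ Helper6.conjFun N g φ = φ) (hNI : N ≤ I) {ψ : I → ℂ}
    (hψ : IsIrrCharacter I ψ) (hres : ∀ n : N, ψ (Subgroup.inclusion hNI n) = φ n) :
    IsIrrCharacter G (indFun I ψ) ∧
      classInner (fun n : N => indFun I ψ n) (fun n : N => indFun I ψ n) = (I.index : ℂ) := by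
  classical
  have hψc := Helper24.isCharacter_of_irr hψ
  have hφc := Helper24.isCharacter_of_irr hφ
  have hχ₁c : IsCharacter G (indFun I ψ) := Helper2.isCharacter_indFun I hψc
  have hχ₁cf := Helper2.IsCharacter.isClassFunction hχ₁c
  have hψ1 : ψ 1 = φ 1 := by
    have h := hres 1
    rwa [map_one] at h
  have hφ1 : φ 1 ≠ 0 := Helper24.irr_one_ne_zero hφ
  have hdφ := Helper24.charDegree_spec hφc
  have hdφpos := Helper24.irr_degree_pos hφ
  have hidx0 : I.index ≠ 0 := Subgroup.index_ne_zero_of_finite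
  have hdeg : indFun I ψ 1 = (I.index : ℂ) * φ 1 := by
    rw [Helper2.indFun_apply_one, hψ1]
  have hne0 : indFun I ψ ≠ 0 := by
    intro h
    have h1 := congrFun h 1
    rw [hdeg, Pi.zero_apply] at h1
    rcases mul_eq_zero.1 h1 with h2 | h2
    · exact hidx0 (by exact_mod_cast h2)
    · exact hφ1 h2
  obtain ⟨χ, hχ, hχne⟩ := Helper2.exists_irr_constituent hχ₁cf hne0
  have hχc := Helper24.isCharacter_of_irr hχ
  have hχcf := Helper2.IsIrrCharacter.isClassFunction hχ
  have hfr := Helper2.frobenius_reciprocity I ψ χ hχcf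
  have hresI : IsCharacter I (fun h : I => χ h) := Helper24.isCharacter_restrict I hχc
  have h1 : classInner (fun h : I => χ h) ψ ≠ 0 := by
    intro h0
    apply hχne
    rw [hfr, ← Helper2.classInner_conj_symm, h0, map_zero]
  have hβ : IsCharacter I ((fun h : I => χ h) - ψ) :=
    Helper2.isCharacter_sub_of_constituent hresI hψ h1
  have hβN : IsCharacter N (((fun h : I => χ h) - ψ) ∘ (Subgroup.inclusion hNI)) :=
    Helper6.isCharacter_comp_hom (Subgroup.inclusion hNI) hβ
  have hχN : (fun n : N => χ n)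
      = φ + (((fun h : I => χ h) - ψ) ∘ (Subgroup.inclusion hNI)) := by
    funext n
    show χ n = φ n + (χ (Subgroup.inclusion hNI n) - ψ (Subgroup.inclusion hNI n))
    rw [hres, Subgroup.coe_inclusion]
    ring
  have hinner : classInner (fun n : N => χ n) φ ≠ 0 := by
    rw [hχN, Helper2.classInner_add_left, Helper2.classInner_irr hφ hφ, if_pos rfl]
    obtain ⟨k, hk⟩ := Helper2.classInner_char_nat hβN hφc
    rw [hk]
    have : (1 + k : ℕ) ≠ 0 := by omega
    exact_mod_cast this
  obtain ⟨e, F, he, hF, -, hcard, hresχ, -, hnorm⟩ := Helper6.clifford_finset N hχ hφ hinner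
  have hIeq : Helper6.inertia N φ = I := by
    ext g
    rw [hI]
    rfl
  rw [hIeq] at hcard
  have hFidx : F.card = I.index := by
    have h2 := I.card_mul_index
    have h3 : F.card * Nat.card I = I.index * Nat.card I := by
      rw [hcard, ← h2, mul_comm]
    exact Nat.eq_of_mul_eq_mul_right Nat.card_pos h3
  have hχ1 : χ 1 = (e : ℂ) * (I.index : ℂ) * φ 1 := by
    have h2 := congrFun hresχ 1
    simp only [Pi.smul_apply, Finset.sum_apply, smul_eq_mul] at h2
    rw [Subgroup.coe_one] at h2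
    have h3 : ∀ ψ' ∈ F, ψ' 1 = φ 1 := by
      intro ψ' hψ'
      obtain ⟨g, rfl⟩ := hF ψ' hψ'
      exact Helper6.conjFun_one_apply N g φ
    rw [h2, Finset.sum_congr rfl h3, Finset.sum_const, nsmul_eq_mul, hFidx]
    ring
  have hdiff : IsCharacter G (indFun I ψ - χ) :=
    Helper2.isCharacter_sub_of_constituent hχ₁c hχ hχne
  have hk := Helper24.charDegree_spec hdiff
  rw [Pi.sub_apply, hdeg, hχ1, hdφ] at hk
  have hnat : I.index * charDegree φ
      = e * I.index * charDegree φ + charDegree (indFun I ψ - χ) := by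
    have : ((I.index * charDegree φ : ℕ) : ℂ)
        = ((e * I.index * charDegree φ + charDegree (indFun I ψ - χ) : ℕ) : ℂ) := by
      push_cast
      linear_combination hk
    exact_mod_cast this
  have hP : 0 < I.index * charDegree φ := Nat.mul_pos (Nat.pos_of_ne_zero hidx0) hdφpos
  have he1 : e = 1 := by
    have h2 : e * (I.index * charDegree φ) ≤ 1 * (I.index * charDegree φ) := by
      rw [one_mul, ← mul_assoc]
      omega
    have h3 := Nat.le_of_mul_le_mul_right h2 hP
    omega
  have hk0 : charDegree (indFun I ψ - χ) = 0 := by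
    rw [he1, one_mul] at hnat
    omega
  have hzero : indFun I ψ - χ = 0 := by
    apply character_eq_zero_of_one_eq_zero hdiff
    rw [Helper24.charDegree_spec hdiff, hk0, Nat.cast_zero]
  have heq : indFun I ψ = χ := sub_eq_zero.1 hzero
  refine ⟨by rw [heq]; exact hχ, ?_⟩
  rw [heq, hnorm, he1, hFidx]
  push_cast
  ring

/-- Linear characters fixing an irreducible character under multiplication are bounded by
the norm of its restriction to a normal subgroup in their kernels. -/
theorem card_linear_stab_le (N : Subgroup G) [hN : N.Normal] [Fintype N] {χ₁ : G → ℂ}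
    (hχ₁ : IsIrrCharacter G χ₁) (k : ℕ)
    (hnorm : classInner (fun n : N => χ₁ n) (fun n : N => χ₁ n) = (k : ℂ))
    (S : Finset (IrrCharacter G))
    (hS : ∀ η ∈ S, (∀ (m : N) (g : G), (η : G → ℂ) ((m : G) * g) = (η : G → ℂ) g) ∧
      (η : G → ℂ) * χ₁ = χ₁) :
    S.card ≤ k := by
  classical
  haveI : Finite (IrrCharacter G) := Helper24.finite_irrCharacter
  haveI : Fintype (IrrCharacter G) := Fintype.ofFinite _
  have hχ₁c := Helper24.isCharacter_of_irr hχ₁
  have hΘ : IsCharacter G (Helper25.cosetPair N χ₁ χ₁) :=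
    Helper25.isCharacter_cosetPair N hχ₁c hχ₁c
  have hΘ1 : Helper25.cosetPair N χ₁ χ₁ 1 = (k : ℂ) := by
    rw [← hnorm]
    unfold Helper25.cosetPair classInner
    congr 1
    refine Finset.sum_congr rfl fun n _ => ?_
    rw [mul_one]
  have hΘS : ∀ η ∈ S, classInner (Helper25.cosetPair N χ₁ χ₁) (η : G → ℂ) = 1 := by
    intro η hη
    obtain ⟨hinv, hstab⟩ := hS η hη
    have h1 := Helper6.classInner_cosetAvg N χ₁ χ₁ (η : G → ℂ) hinv
    have h2 : classInner (Helper25.cosetPair N χ₁ χ₁) (η : G → ℂ)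
        = classInner χ₁ ((η : G → ℂ) * χ₁) := h1
    rw [h2, hstab, Helper2.classInner_irr hχ₁ hχ₁, if_pos rfl]
  have hexp := congrFun (Helper2.class_fn_expansion (Helper2.IsCharacter.isClassFunction hΘ)) 1
  rw [Finset.sum_apply] at hexp
  simp only [Pi.smul_apply, smul_eq_mul] at hexp
  choose mη hmη using fun η : IrrCharacter G =>
    Helper2.classInner_char_nat hΘ (Helper24.isCharacter_of_irr η.2)
  have hdη : ∀ η : IrrCharacter G, (η : G → ℂ) 1 = (charDegree (η : G → ℂ) : ℂ) :=
    fun η => Helper24.charDegree_spec (Helper24.isCharacter_of_irr η.2)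
  have hnat : k = ∑ η : IrrCharacter G, mη η * charDegree (η : G → ℂ) := by
    have : (k : ℂ) = ((∑ η : IrrCharacter G, mη η * charDegree (η : G → ℂ) : ℕ) : ℂ) := by
      rw [← hΘ1, hexp]
      push_cast
      exact Finset.sum_congr rfl fun η _ => by rw [hmη, hdη]
    exact_mod_cast this
  rw [hnat]
  calc S.card = ∑ _η ∈ S, 1 := by simp
    _ ≤ ∑ η ∈ S, mη η * charDegree (η : G → ℂ) := by
        refine Finset.sum_le_sum fun η hη => ?_
        have h1 : mη η = 1 := by
          have h := hΘS η hη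
          rw [hmη] at h
          exact_mod_cast h
        have h2 := Helper24.irr_degree_pos η.2
        rw [h1, one_mul]
        exact h2
    _ ≤ ∑ η : IrrCharacter G, mη η * charDegree (η : G → ℂ) :=
        Finset.sum_le_sum_of_subset (Finset.subset_univ S)

end IndReal

end Cfsg.Agent.Helper13
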