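import Mathlib
import Cfsg.Agent.Helper2.NilAltThree
import Cfsg.Agent.Helper24.NilAltThree

/-! Parts [A-U1] and [A-U2] of S2256 (team sprint): thin adapters over the landed
`Cfsg.Agent.Helper2.alt3_structure` and `Cfsg.Agent.Helper24.alt3_conj`. -/

set_option autoImplicit false

namespace Cfsg.Agent.Helper13

theorem nil_three_structure_alt (n : ℕ) (hn : n % 4 = 3) (h7 : 7 ≤ n)
    (N : Subgroup (Equiv.Perm (Fin n))) (hN : Group.IsNilpotent N)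
    (hcard : 2 * Nat.card N = 3 * 2 ^ ((n - 3).factorial.factorization 2)) :
    ∃ (z : Equiv.Perm (Fin n)) (T : Subgroup (Equiv.Perm (Fin n))),
      z.cycleType = {3} ∧ 2 * Nat.card T = 2 ^ ((n - 3).factorial.factorization 2) ∧
      (∀ t ∈ T, t * z = z * t) ∧ T ≤ N ∧ N = T ⊔ Subgroup.zpowers z := by
  obtain ⟨z, T, hz, hT, hc, hNT⟩ := Cfsg.Agent.Helper2.alt3_structure n hn h7 N hN hcard
  refine ⟨z, T, hz, hT, hc, ?_, hNT⟩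
  rw [hNT]
  exact le_sup_left

theorem nil_three_conj_alt (n : ℕ) (hn : n % 4 = 3) (h7 : 7 ≤ n)
    (z₁ z₂ : Equiv.Perm (Fin n)) (T₁ T₂ : Subgroup (Equiv.Perm (Fin n)))
    (hz₁ : z₁.cycleType = {3}) (hz₂ : z₂.cycleType = {3})
    (hT₁ : 2 * Nat.card T₁ = 2 ^ ((n - 3).factorial.factorization 2))
    (hT₂ : 2 * Nat.card T₂ = 2 ^ ((n - 3).factorial.factorization 2))
    (hA₁ : T₁ ≤ alternatingGroup (Fin n)) (hA₂ : T₂ ≤ alternatingGroup (Fin n))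
    (h₁ : ∀ t ∈ T₁, t * z₁ = z₁ * t) (h₂ : ∀ t ∈ T₂, t * z₂ = z₂ * t) :
    ∃ g : Equiv.Perm (Fin n), g ∈ alternatingGroup (Fin n) ∧
      (T₂ ⊔ Subgroup.zpowers z₂) = (T₁ ⊔ Subgroup.zpowers z₁).map (MulAut.conj g).toMonoidHom := by
  obtain ⟨g, hg, hconj⟩ :=
    Cfsg.Agent.Helper24.alt3_conj n h7 z₁ z₂ T₁ T₂ hz₁ hz₂ hT₁ hT₂ hA₁ hA₂ h₁ h₂
  exact ⟨g, Equiv.Perm.mem_alternatingGroup.mpr hg, hconj⟩

end Cfsg.Agent.Helper13
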