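import Cfsg.Agent.Helper13.PSL2Deg

/-!
# Which character degrees of `SL₂(q)` survive in `PSL₂(q)`
-/

set_option autoImplicit false

namespace Cfsg.Agent.Helper13

open Cfsg
open scoped ComplexConjugate

section PSLCount

variable {F : Type*} [Field F] [Fintype F] [DecidableEq F]

/-- Exactly half of the multiplicative characters are trivial at `-1` (odd `q`). -/
theorem two_mul_card_even_mulChar (hodd : Odd (Fintype.card F)) :
    2 * Nat.card {γ : MulChar F ℂ // γ (-1 : F) = 1} = Fintype.card F - 1 := by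
  classical
  haveI : Fintype (MulChar F ℂ) := Fintype.ofFinite _
  have hne : (-1 : Fˣ) ≠ 1 := by
    intro h
    have h2 : (-1 : F) = 1 := by
      have := congrArg (fun u : Fˣ => (u : F)) h
      simpa using this
    have h3 : (2 : F) = 0 := by linear_combination -h2
    exact two_ne_zero_of_odd_card hodd h3
  have hsum := sum_mulChar_apply (F := F) (-1 : Fˣ)
  rw [if_neg hne, Units.val_neg, Units.val_one] at hsum
  have hval : ∀ γ : MulChar F ℂ, γ (-1 : F) = if γ (-1 : F) = 1 then 1 else -1 := by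
    intro γ
    split_ifs with h
    · exact h
    · have h2 : γ (-1 : F) * γ (-1 : F) = 1 := by
        rw [← map_mul, neg_one_mul, neg_neg, map_one]
      rcases mul_self_eq_one_iff.mp h2 with h3 | h3
      · exact absurd h3 h
      · exact h3
  have h4 : ∑ γ : MulChar F ℂ, (if γ (-1 : F) = 1 then (1 : ℂ) else -1) = 0 := by
    rw [← hsum]
    exact Finset.sum_congr rfl (fun γ _ => (hval γ).symm)
  have h5 : ∑ γ : MulChar F ℂ, (if γ (-1 : F) = 1 then (1 : ℂ) else -1) =
      2 * (((Finset.univ : Finset (MulChar F ℂ)).filter (fun γ => γ (-1 : F) = 1)).card : ℂ) -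
        (Fintype.card (MulChar F ℂ) : ℂ) := by
    have h : ∀ γ : MulChar F ℂ, (if γ (-1 : F) = 1 then (1 : ℂ) else -1) =
        2 * (if γ (-1 : F) = 1 then (1 : ℂ) else 0) - 1 := by
      intro γ
      split_ifs <;> ring
    rw [Finset.sum_congr rfl (fun γ _ => h γ), Finset.sum_sub_distrib, ← Finset.mul_sum,
      Finset.sum_boole, Finset.sum_const, Finset.card_univ, nsmul_eq_mul, mul_one]
  rw [h5] at h4
  have h6 : Fintype.card (MulChar F ℂ) = Fintype.card F - 1 := by
    rw [← Nat.card_eq_fintype_card, card_mulChar]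
  rw [h6] at h4
  rw [Nat.card_eq_fintype_card, Fintype.card_subtype]
  have h7 : ((2 * (Finset.univ.filter (fun γ : MulChar F ℂ => γ (-1 : F) = 1)).card : ℕ) : ℂ) =
      ((Fintype.card F - 1 : ℕ) : ℂ) := by
    rw [Nat.cast_mul, Nat.cast_ofNat]
    linear_combination h4
  exact Nat.cast_injective h7

theorem card_even_sq_ne_one_le (hodd : Odd (Fintype.card F)) :
    2 * Nat.card {γ : MulChar F ℂ // γ ^ 2 ≠ 1 ∧ γ (-1 : F) = 1} + 2 ≤ Fintype.card F - 1 := by
  classical
  haveI : Fintype (MulChar F ℂ) := Fintype.ofFinite _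
  rw [← two_mul_card_even_mulChar hodd]
  have e1 : Nat.card {γ : MulChar F ℂ // γ ^ 2 ≠ 1 ∧ γ (-1 : F) = 1} =
      (Finset.univ.filter (fun γ : MulChar F ℂ => γ ^ 2 ≠ 1 ∧ γ (-1 : F) = 1)).card :=
    Nat.card_eq_fintype_card.trans (Fintype.card_subtype _)
  have e2 : Nat.card {γ : MulChar F ℂ // γ (-1 : F) = 1} =
      (Finset.univ.filter (fun γ : MulChar F ℂ => γ (-1 : F) = 1)).card :=
    Nat.card_eq_fintype_card.trans (Fintype.card_subtype _)
  rw [e1, e2]
  have hsub : (Finset.univ.filter (fun γ : MulChar F ℂ => γ ^ 2 ≠ 1 ∧ γ (-1 : F) = 1)) ⊆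
      (Finset.univ.filter (fun γ : MulChar F ℂ => γ (-1 : F) = 1)).erase 1 := by
    intro γ hγ
    rw [Finset.mem_filter] at hγ
    rw [Finset.mem_erase, Finset.mem_filter]
    refine ⟨?_, Finset.mem_univ _, hγ.2.2⟩
    rintro rfl
    exact hγ.2.1 (one_pow 2)
  have h1 := Finset.card_le_card hsub
  have h2 : (1 : MulChar F ℂ) ∈
      Finset.univ.filter (fun γ : MulChar F ℂ => γ (-1 : F) = 1) := by
    rw [Finset.mem_filter]
    exact ⟨Finset.mem_univ _, MulChar.one_apply (isUnit_one.neg)⟩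
  rw [Finset.card_erase_of_mem h2] at h1
  have h3 := Finset.card_pos.mpr ⟨1, h2⟩
  omega

/-- The irreducible characters of `PSL₂(q)` of degree `q + 1` are the deflations of the
principal series characters of the multiplicative characters trivial at `-1`. -/
theorem two_mul_card_psl_q_add_one :
    2 * Nat.card {χ : IrrCharacter (Matrix.ProjectiveSpecialLinearGroup (Fin 2) F) //
        (χ : Matrix.ProjectiveSpecialLinearGroup (Fin 2) F → ℂ) 1 = (Fintype.card F : ℂ) + 1} =
      Nat.card {γ : MulChar F ℂ // γ ^ 2 ≠ 1 ∧ γ (-1 : F) = 1} := by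
  classical
  haveI := Helper24.finite_irrCharacter (G := Matrix.ProjectiveSpecialLinearGroup (Fin 2) F)
  haveI : Fintype (IrrCharacter (Matrix.ProjectiveSpecialLinearGroup (Fin 2) F)) :=
    Fintype.ofFinite _
  haveI : Fintype (MulChar F ℂ) := Fintype.ofFinite _
  have hdef : ∀ γ : {γ : MulChar F ℂ // γ ^ 2 ≠ 1 ∧ γ (-1 : F) = 1},
      ∃ β : Matrix.ProjectiveSpecialLinearGroup (Fin 2) F → ℂ,
        IsIrrCharacter (Matrix.ProjectiveSpecialLinearGroup (Fin 2) F) β ∧
        ∀ g : Matrix.SpecialLinearGroup (Fin 2) F,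
          β (QuotientGroup.mk g) = rFun γ.1 g := fun γ =>
    exists_deflation_of_ker (Subgroup.center (Matrix.SpecialLinearGroup (Fin 2) F))
      (isIrrCharacter_rFun γ.2.1) (fun z hz => rFun_center γ.2.2 hz)
  choose β hβ hval using hdef
  have hm1 : ((-1 : Fˣ))⁻¹ = -1 := inv_neg_one
  rw [Nat.card_eq_fintype_card, Nat.card_eq_fintype_card]
  symm
  apply card_eq_two_mul_of_fibers
    (fun γ : {γ : MulChar F ℂ // γ ^ 2 ≠ 1 ∧ γ (-1 : F) = 1} =>
      (⟨⟨β γ, hβ γ⟩, (hval γ 1).trans (rFun_one_apply γ.1)⟩ :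
        {χ : IrrCharacter (Matrix.ProjectiveSpecialLinearGroup (Fin 2) F) //
          (χ : Matrix.ProjectiveSpecialLinearGroup (Fin 2) F → ℂ) 1 =
            (Fintype.card F : ℂ) + 1}))
    ?_ (fun γ => ⟨γ.1⁻¹, by
      intro h
      apply γ.2.1
      rw [inv_pow, inv_eq_one] at h
      exact h, by
      rw [MulChar.inv_apply', inv_neg_one]
      exact γ.2.2⟩) ?_ ?_
  · intro χ
    have hψ := Helper6.isIrrCharacter_comp_surjective
      (QuotientGroup.mk' (Subgroup.center (Matrix.SpecialLinearGroup (Fin 2) F)))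
      (QuotientGroup.mk'_surjective _) χ.1.2
    have hψ1 : (χ.1.1 ∘
        (QuotientGroup.mk' (Subgroup.center (Matrix.SpecialLinearGroup (Fin 2) F)))) 1 =
        (Fintype.card F : ℂ) + 1 := by
      rw [Function.comp_apply, map_one]
      exact χ.2
    obtain ⟨γ, hγ, h⟩ := irr_deg_q_add_one hψ hψ1
    have hev : γ (-1 : F) = 1 := by
      apply even_of_rFun
      have hz1 : (QuotientGroup.mk' (Subgroup.center (Matrix.SpecialLinearGroup (Fin 2) F)))
          (sBorelMat (-1 : Fˣ) 0) = 1 :=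
        (QuotientGroup.eq_one_iff _).mpr (sBorelMat_scalar_central (-1 : Fˣ) hm1)
      rw [← h, Function.comp_apply, Function.comp_apply, map_one, hz1]
    refine ⟨⟨γ, hγ, hev⟩, ?_⟩
    apply Subtype.ext
    apply Subtype.ext
    funext x
    obtain ⟨g, rfl⟩ := QuotientGroup.mk_surjective x
    show β ⟨γ, hγ, hev⟩ (QuotientGroup.mk g) = χ.1.1 (QuotientGroup.mk g)
    rw [hval, ← h]
    rfl
  · intro γ h
    have h1 : γ.1⁻¹ = γ.1 := congrArg Subtype.val h
    exact γ.2.1 ((sq_eq_one_iff_eq_inv γ.1).mp h1.symm)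
  · intro a a'
    constructor
    · intro h
      have h0 : β a = β a' := congrArg (fun x => x.1.1) h
      have h1 : rFun a.1 = rFun a'.1 := by
        funext g
        rw [← hval a g, ← hval a' g, h0]
      rcases (rFun_eq_iff a.1 a'.1).mp h1 with h2 | h2
      · exact Or.inl (Subtype.ext h2)
      · exact Or.inr (Subtype.ext h2)
    · rintro (h | h)
      · rw [h]
      · apply Subtype.ext
        apply Subtype.ext
        have h2 : a.1 = a'.1⁻¹ := congrArg Subtype.val h
        have h3 := (rFun_eq_iff a.1 a'.1).mpr (Or.inr h2)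
        funext x
        obtain ⟨g, rfl⟩ := QuotientGroup.mk_surjective x
        show β a (QuotientGroup.mk g) = β a' (QuotientGroup.mk g)
        rw [hval, hval, h3]

theorem psl_count_arith (k n1 nkm nkp nq np P : ℕ) (hk3 : 3 ≤ k) (b1 : n1 ≤ 1) (bkm : nkm ≤ 2)
    (bkp : nkp ≤ 2) (bq : nq ≤ 1) (bp : 2 * np + 1 ≤ k)
    (hB : n1 * 1 ^ 2 + (nkm * k ^ 2 + (nkp * (k + 1) ^ 2 + (0 * (2 * k) ^ 2 +
      (nq * (2 * k + 1) ^ 2 + np * (2 * k + 2) ^ 2)))) = P)
    (hQ : (2 * k + 1) * (4 * k ^ 2 + 4 * k) ≤ P * 2) : False := by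
  subst hB
  have t1 : n1 * 1 ^ 2 ≤ 1 * 1 ^ 2 := Nat.mul_le_mul_right _ b1
  have tkm : nkm * k ^ 2 ≤ 2 * k ^ 2 := Nat.mul_le_mul_right _ bkm
  have tkp : nkp * (k + 1) ^ 2 ≤ 2 * (k + 1) ^ 2 := Nat.mul_le_mul_right _ bkp
  have tq : nq * (2 * k + 1) ^ 2 ≤ 1 * (2 * k + 1) ^ 2 := Nat.mul_le_mul_right _ bq
  have tp : (2 * np + 1) * (2 * k + 2) ^ 2 ≤ k * (2 * k + 2) ^ 2 :=
    Nat.mul_le_mul_right _ bp
  have f1 : 3 * (k * k) ≤ k * (k * k) := Nat.mul_le_mul_right _ hk3
  have f2 : 3 * k ≤ k * k := Nat.mul_le_mul_right _ hk3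
  nlinarith [t1, tkm, tkp, tq, tp, f1, f2, hQ]

set_option maxHeartbeats 1600000 in
/-- For `q ≥ 7` odd, `PSL₂(q)` has an irreducible character of degree `q - 1`. -/
theorem q_sub_one_mem_psl (hodd : Odd (Fintype.card F)) (hq : 7 ≤ Fintype.card F) :
    Fintype.card F - 1 ∈ charDegrees (Matrix.ProjectiveSpecialLinearGroup (Fin 2) F) := by
  classical
  by_contra hcon
  haveI : Fintype (Matrix.ProjectiveSpecialLinearGroup (Fin 2) F) := Fintype.ofFinite _
  have hodd' := hodd
  obtain ⟨k, hk⟩ := hodd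
  have hk3 : 3 ≤ k := by omega
  have e1 : ((1 : ℕ) : ℂ) = 1 := Nat.cast_one
  have ek : ((k : ℕ) : ℂ) = (((Fintype.card F - 1) / 2 : ℕ) : ℂ) := by
    congr 1; omega
  have ek1 : ((k + 1 : ℕ) : ℂ) = (((Fintype.card F + 1) / 2 : ℕ) : ℂ) := by
    congr 1; omega
  have e2k : ((2 * k : ℕ) : ℂ) = (Fintype.card F : ℂ) - 1 := by
    rw [hk]; push_cast; ring
  have e2k1 : ((2 * k + 1 : ℕ) : ℂ) = (Fintype.card F : ℂ) := by rw [hk]
  have e2k2 : ((2 * k + 2 : ℕ) : ℂ) = (Fintype.card F : ℂ) + 1 := by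
    rw [hk]; push_cast; ring
  obtain ⟨-, hB⟩ := count_by_degree (G := Matrix.ProjectiveSpecialLinearGroup (Fin 2) F)
    ({1, k, k + 1, 2 * k, 2 * k + 1, 2 * k + 2} : Finset ℕ) (by
      intro χ hχ
      have hψ := Helper6.isIrrCharacter_comp_surjective
        (QuotientGroup.mk' (Subgroup.center (Matrix.SpecialLinearGroup (Fin 2) F)))
        (QuotientGroup.mk'_surjective _) hχ
      have h1 : (χ ∘
          (QuotientGroup.mk' (Subgroup.center (Matrix.SpecialLinearGroup (Fin 2) F)))) 1 =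
          χ 1 := by
        rw [Function.comp_apply, map_one]
      rcases deg_list_odd hodd' hψ with h | h | h | h | h | h <;> rw [h1] at h
      · exact ⟨1, by simp, by rw [h, e1]⟩
      · exact ⟨2 * k + 1, by simp, by rw [h, e2k1]⟩
      · exact ⟨2 * k + 2, by simp, by rw [h, e2k2]⟩
      · exact ⟨2 * k, by simp, by rw [h, e2k]⟩
      · exact ⟨k + 1, by simp, by rw [h, ek1]⟩
      · exact ⟨k, by simp, by rw [h, ek]⟩)
  have m1 : (1 : ℕ) ∉ ({k, k + 1, 2 * k, 2 * k + 1, 2 * k + 2} : Finset ℕ) := by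
    simp only [Finset.mem_insert, Finset.mem_singleton]; omega
  have m2 : k ∉ ({k + 1, 2 * k, 2 * k + 1, 2 * k + 2} : Finset ℕ) := by
    simp only [Finset.mem_insert, Finset.mem_singleton]; omega
  have m3 : k + 1 ∉ ({2 * k, 2 * k + 1, 2 * k + 2} : Finset ℕ) := by
    simp only [Finset.mem_insert, Finset.mem_singleton]; omega
  have m4 : 2 * k ∉ ({2 * k + 1, 2 * k + 2} : Finset ℕ) := by
    simp only [Finset.mem_insert, Finset.mem_singleton]; omega
  have m5 : 2 * k + 1 ≠ 2 * k + 2 := by omega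
  rw [Finset.sum_insert m1, Finset.sum_insert m2, Finset.sum_insert m3, Finset.sum_insert m4,
    Finset.sum_pair m5] at hB
  rw [e1, ek, ek1, e2k, e2k1, e2k2] at hB
  obtain ⟨c1, cq, -, -, ckp, ckm⟩ := counts_odd hodd' (by omega) (Cfsg.Agent.S2325.result hodd')
  unfold cntS at c1 cq ckp ckm
  have b1 : Nat.card {χ : IrrCharacter (Matrix.ProjectiveSpecialLinearGroup (Fin 2) F) //
      (χ : Matrix.ProjectiveSpecialLinearGroup (Fin 2) F → ℂ) 1 = 1} ≤ 1 := by
    have h := card_quot_deg_le (Subgroup.center (Matrix.SpecialLinearGroup (Fin 2) F)) (1 : ℂ)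
    rw [c1] at h
    exact h
  have bq : Nat.card {χ : IrrCharacter (Matrix.ProjectiveSpecialLinearGroup (Fin 2) F) //
      (χ : Matrix.ProjectiveSpecialLinearGroup (Fin 2) F → ℂ) 1 = (Fintype.card F : ℂ)} ≤ 1 := by
    have h := card_quot_deg_le (Subgroup.center (Matrix.SpecialLinearGroup (Fin 2) F))
      (Fintype.card F : ℂ)
    rw [cq] at h
    exact h
  have bkp : Nat.card {χ : IrrCharacter (Matrix.ProjectiveSpecialLinearGroup (Fin 2) F) //
      (χ : Matrix.ProjectiveSpecialLinearGroup (Fin 2) F → ℂ) 1 =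
        (((Fintype.card F + 1) / 2 : ℕ) : ℂ)} ≤ 2 := by
    have h := card_quot_deg_le (Subgroup.center (Matrix.SpecialLinearGroup (Fin 2) F))
      (((Fintype.card F + 1) / 2 : ℕ) : ℂ)
    rw [ckp] at h
    exact h
  have bkm : Nat.card {χ : IrrCharacter (Matrix.ProjectiveSpecialLinearGroup (Fin 2) F) //
      (χ : Matrix.ProjectiveSpecialLinearGroup (Fin 2) F → ℂ) 1 =
        (((Fintype.card F - 1) / 2 : ℕ) : ℂ)} ≤ 2 := by
    have h := card_quot_deg_le (Subgroup.center (Matrix.SpecialLinearGroup (Fin 2) F))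
      (((Fintype.card F - 1) / 2 : ℕ) : ℂ)
    rw [ckm] at h
    exact h
  have bp := two_mul_card_psl_q_add_one (F := F)
  have bp2 := card_even_sq_ne_one_le hodd'
  rw [← bp] at bp2
  have b0 : Nat.card {χ : IrrCharacter (Matrix.ProjectiveSpecialLinearGroup (Fin 2) F) //
      (χ : Matrix.ProjectiveSpecialLinearGroup (Fin 2) F → ℂ) 1 = (Fintype.card F : ℂ) - 1} =
      0 := by
    rw [Nat.card_eq_zero]
    left
    refine ⟨fun χ => hcon ⟨χ.1, ?_⟩⟩
    have h : (χ.1 : Matrix.ProjectiveSpecialLinearGroup (Fin 2) F → ℂ) 1 =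
        ((Fintype.card F - 1 : ℕ) : ℂ) := by
      rw [χ.2, Nat.cast_sub (by omega), Nat.cast_one]
    exact charDegree_of_eq h
  have hcard := Subgroup.card_eq_card_quotient_mul_card_subgroup
    (Subgroup.center (Matrix.SpecialLinearGroup (Fin 2) F))
  rw [S2301.card_SL2, hk] at hcard
  have hz := card_center_SL2_le (F := F)
  have hsq : (2 * k + 1) ^ 2 - 1 = 4 * k ^ 2 + 4 * k := by
    have : (2 * k + 1) ^ 2 = 4 * k ^ 2 + 4 * k + 1 := by ring
    omega
  rw [hsq] at hcard
  have hQ : (2 * k + 1) * (4 * k ^ 2 + 4 * k) ≤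
      Nat.card (Matrix.ProjectiveSpecialLinearGroup (Fin 2) F) * 2 := by
    rw [hcard]
    exact Nat.mul_le_mul_left _ hz
  rw [b0] at hB
  exact psl_count_arith k _ _ _ _ _ _ hk3 b1 bkm bkp bq (by omega) hB hQ

end PSLCount

section Degrees

variable {F : Type*} [Field F] [Fintype F] [DecidableEq F]

theorem exists_of_cntS_pos {c : ℂ} (hc : 0 < cntS F c) :
    ∃ χ : IrrCharacter (Matrix.SpecialLinearGroup (Fin 2) F),
      (χ : Matrix.SpecialLinearGroup (Fin 2) F → ℂ) 1 = c := by
  unfold cntS at hc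
  obtain ⟨x⟩ := (Nat.card_pos_iff.mp hc).1
  exact ⟨x.1, x.2⟩

theorem charDegrees_SL2_even [CharP F 2] (h4 : 4 ≤ Fintype.card F) :
    charDegrees (Matrix.SpecialLinearGroup (Fin 2) F) =
      {1, Fintype.card F - 1, Fintype.card F, Fintype.card F + 1} := by
  classical
  have heven : Even (Fintype.card F) := by
    rw [Nat.even_iff]
    exact FiniteField.even_card_of_char_two (ringChar.eq F 2)
  obtain ⟨c1, cq, cp, cm⟩ := counts_even heven h4 Cfsg.Agent.S2331.result
  ext d
  simp only [Set.mem_insert_iff, Set.mem_singleton_iff]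
  constructor
  · intro hd
    obtain ⟨χ, rfl⟩ := hd
    rcases deg_list_even heven χ.2 with h | h | h | h
    · left; exact charDegree_of_eq (by rw [h, Nat.cast_one])
    · right; left
      exact charDegree_of_eq (by rw [h, Nat.cast_sub (by omega), Nat.cast_one])
    · right; right; left; exact charDegree_of_eq h
    · right; right; right; exact charDegree_of_eq (by rw [h, Nat.cast_add, Nat.cast_one])
  · rintro (rfl | rfl | rfl | rfl)
    · obtain ⟨χ, hχ⟩ := exists_of_cntS_pos (F := F) (c := 1) (by omega)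
      exact ⟨χ, charDegree_of_eq (by rw [hχ, Nat.cast_one])⟩
    · obtain ⟨χ, hχ⟩ := exists_of_cntS_pos (F := F) (c := (Fintype.card F : ℂ) - 1) (by omega)
      exact ⟨χ, charDegree_of_eq (by rw [hχ, Nat.cast_sub (by omega), Nat.cast_one])⟩
    · obtain ⟨χ, hχ⟩ := exists_of_cntS_pos (F := F) (c := (Fintype.card F : ℂ)) (by omega)
      exact ⟨χ, charDegree_of_eq hχ⟩
    · obtain ⟨χ, hχ⟩ := exists_of_cntS_pos (F := F) (c := (Fintype.card F : ℂ) + 1) (by omega)
      exact ⟨χ, charDegree_of_eq (by rw [hχ, Nat.cast_add, Nat.cast_one])⟩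

theorem charDegrees_PSL2_even [CharP F 2] :
    charDegrees (Matrix.ProjectiveSpecialLinearGroup (Fin 2) F) =
      charDegrees (Matrix.SpecialLinearGroup (Fin 2) F) := by
  apply Set.Subset.antisymm
  · exact charDegrees_quotient_subset _
  · intro d hd
    obtain ⟨ψ, rfl⟩ := hd
    exact mem_charDegrees_quotient _ ψ.2 (fun z hz => by rw [center_SL2_char_two hz])

theorem charDegrees_SL2_odd_sub (hodd : Odd (Fintype.card F)) :
    ∀ d ∈ charDegrees (Matrix.SpecialLinearGroup (Fin 2) F), d = 1 ∨ d = Fintype.card F ∨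
      d = Fintype.card F + 1 ∨ d = Fintype.card F - 1 ∨ d = (Fintype.card F + 1) / 2 ∨
      d = (Fintype.card F - 1) / 2 := by
  intro d hd
  obtain ⟨χ, rfl⟩ := hd
  have hpos : 0 < Fintype.card F := Fintype.card_pos
  rcases deg_list_odd hodd χ.2 with h | h | h | h | h | h
  · left; exact charDegree_of_eq (by rw [h, Nat.cast_one])
  · right; left; exact charDegree_of_eq h
  · right; right; left; exact charDegree_of_eq (by rw [h, Nat.cast_add, Nat.cast_one])
  · right; right; right; left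
    exact charDegree_of_eq (by rw [h, Nat.cast_sub (by omega), Nat.cast_one])
  · right; right; right; right; left; exact charDegree_of_eq h
  · right; right; right; right; right; exact charDegree_of_eq h

theorem charDegrees_SL2_odd_mem (hodd : Odd (Fintype.card F)) (hq : 5 ≤ Fintype.card F) :
    Fintype.card F ∈ charDegrees (Matrix.SpecialLinearGroup (Fin 2) F) ∧
    Fintype.card F + 1 ∈ charDegrees (Matrix.SpecialLinearGroup (Fin 2) F) ∧
    Fintype.card F - 1 ∈ charDegrees (Matrix.SpecialLinearGroup (Fin 2) F) := by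
  classical
  obtain ⟨-, cq, cp, cm, -, -⟩ := counts_odd hodd hq (Cfsg.Agent.S2325.result hodd)
  refine ⟨?_, ?_, ?_⟩
  · obtain ⟨χ, hχ⟩ := exists_of_cntS_pos (F := F) (c := (Fintype.card F : ℂ)) (by omega)
    exact ⟨χ, charDegree_of_eq hχ⟩
  · obtain ⟨χ, hχ⟩ := exists_of_cntS_pos (F := F) (c := (Fintype.card F : ℂ) + 1) (by omega)
    exact ⟨χ, charDegree_of_eq (by rw [hχ, Nat.cast_add, Nat.cast_one])⟩
  · obtain ⟨χ, hχ⟩ := exists_of_cntS_pos (F := F) (c := (Fintype.card F : ℂ) - 1) (by omega)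
    exact ⟨χ, charDegree_of_eq (by rw [hχ, Nat.cast_sub (by omega), Nat.cast_one])⟩

theorem charDegrees_PSL2_odd_mem (hodd : Odd (Fintype.card F)) (hq : 5 < Fintype.card F) :
    Fintype.card F ∈ charDegrees (Matrix.ProjectiveSpecialLinearGroup (Fin 2) F) ∧
    Fintype.card F + 1 ∈ charDegrees (Matrix.ProjectiveSpecialLinearGroup (Fin 2) F) ∧
    Fintype.card F - 1 ∈ charDegrees (Matrix.ProjectiveSpecialLinearGroup (Fin 2) F) := by
  refine ⟨?_, ?_, q_sub_one_mem_psl hodd (by obtain ⟨k, hk⟩ := hodd; omega)⟩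
  · have h := mem_charDegrees_quotient
      (Subgroup.center (Matrix.SpecialLinearGroup (Fin 2) F)) (stS_spec (F := F)).1
      (fun z hz => stS_center hz)
    rwa [charDegree_of_eq (stS_one (F := F))] at h
  · obtain ⟨γ, hγ, hev⟩ := exists_even_mulChar hq
    have h := mem_charDegrees_quotient
      (Subgroup.center (Matrix.SpecialLinearGroup (Fin 2) F)) (isIrrCharacter_rFun hγ)
      (fun z hz => rFun_center hev hz)
    have h1 : rFun γ 1 = ((Fintype.card F + 1 : ℕ) : ℂ) := by
      rw [rFun_one_apply, Nat.cast_add, Nat.cast_one]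
    rwa [charDegree_of_eq h1] at h

/-- An irreducible character of `PSL₂(q)` of degree divisible by the characteristic inflates to
the Steinberg character. -/
theorem psl_p_singular (p : ℕ) [Fact p.Prime] [CharP F p]
    {χ : Matrix.ProjectiveSpecialLinearGroup (Fin 2) F → ℂ}
    (hχ : IsIrrCharacter (Matrix.ProjectiveSpecialLinearGroup (Fin 2) F) χ)
    (hp : p ∣ charDegree χ) :
    χ ∘ (QuotientGroup.mk' (Subgroup.center (Matrix.SpecialLinearGroup (Fin 2) F))) =
      stS F := by
  classical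
  haveI : Fintype (Matrix.ProjectiveSpecialLinearGroup (Fin 2) F) := Fintype.ofFinite _
  have hpp : p.Prime := Fact.out
  have hpq : p ∣ Fintype.card F := by
    obtain ⟨n, -, hn⟩ := FiniteField.card F p
    rw [hn]
    exact dvd_pow_self p n.ne_zero
  have hpos : 0 < Fintype.card F := Fintype.card_pos
  have hψ := Helper6.isIrrCharacter_comp_surjective
    (QuotientGroup.mk' (Subgroup.center (Matrix.SpecialLinearGroup (Fin 2) F)))
    (QuotientGroup.mk'_surjective _) hχ
  have h1 : (χ ∘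
      (QuotientGroup.mk' (Subgroup.center (Matrix.SpecialLinearGroup (Fin 2) F)))) 1 = χ 1 := by
    rw [Function.comp_apply, map_one]
  apply irr_deg_q hψ
  rw [h1]
  have hno1 : ¬ p ∣ 1 := fun h => hpp.one_lt.ne' (Nat.dvd_one.mp h)
  have hnop : ∀ d, d ∣ Fintype.card F + 1 → ¬ p ∣ d := by
    intro d hd h
    exact hno1 ((Nat.dvd_add_right hpq).mp (h.trans hd))
  have hnom : ∀ d, d ∣ Fintype.card F - 1 → ¬ p ∣ d := by
    intro d hd h
    have h2 : p ∣ (Fintype.card F - 1) + 1 := by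
      have h3 : Fintype.card F - 1 + 1 = Fintype.card F := by omega
      rw [h3]
      exact hpq
    exact hno1 ((Nat.dvd_add_right (h.trans hd)).mp h2)
  rcases Nat.even_or_odd (Fintype.card F) with heven | hodd
  · rcases deg_list_even heven hψ with h | h | h | h <;> rw [h1] at h
    · exfalso
      rw [charDegree_of_eq (d := 1) (by rw [h, Nat.cast_one])] at hp
      exact hno1 hp
    · exfalso
      rw [charDegree_of_eq (d := Fintype.card F - 1)
        (by rw [h, Nat.cast_sub (by omega), Nat.cast_one])] at hp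
      exact hnom _ (dvd_refl _) hp
    · exact h
    · exfalso
      rw [charDegree_of_eq (d := Fintype.card F + 1)
        (by rw [h, Nat.cast_add, Nat.cast_one])] at hp
      exact hnop _ (dvd_refl _) hp
  · obtain ⟨k, hk⟩ := hodd
    rcases deg_list_odd ⟨k, hk⟩ hψ with h | h | h | h | h | h <;> rw [h1] at h
    · exfalso
      rw [charDegree_of_eq (d := 1) (by rw [h, Nat.cast_one])] at hp
      exact hno1 hp
    · exact h
    · exfalso
      rw [charDegree_of_eq (d := Fintype.card F + 1)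
        (by rw [h, Nat.cast_add, Nat.cast_one])] at hp
      exact hnop _ (dvd_refl _) hp
    · exfalso
      rw [charDegree_of_eq (d := Fintype.card F - 1)
        (by rw [h, Nat.cast_sub (by omega), Nat.cast_one])] at hp
      exact hnom _ (dvd_refl _) hp
    · exfalso
      rw [charDegree_of_eq h] at hp
      exact hnop _ ⟨2, by omega⟩ hp
    · exfalso
      rw [charDegree_of_eq h] at hp
      exact hnom _ ⟨2, by omega⟩ hp

end Degrees

end Cfsg.Agent.Helper13
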