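import Mathlib
import Cfsg.Agent.Helper13.GL2Borel
import Cfsg.Agent.S2301

/-!
Principal series of `SL₂(q)`: the inner product of two characters induced from the Borel subgroup.
-/

set_option autoImplicit false

namespace Cfsg.Agent.Helper13

open Cfsg

open scoped ComplexConjugate

section SBorel

variable {F : Type*} [Field F]

/-- The Borel subgroup of `SL₂`. -/
abbrev sBorel (F : Type*) [Field F] : Subgroup (Matrix.SpecialLinearGroup (Fin 2) F) :=
  (upperTriangularGL 2 F).comap Matrix.SpecialLinearGroup.toGL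

theorem mem_sBorel (M : Matrix.SpecialLinearGroup (Fin 2) F) :
    M ∈ sBorel F ↔ (M : Matrix (Fin 2) (Fin 2) F) 1 0 = 0 := by
  rw [Subgroup.mem_comap, S2308.mem_B]
  rfl

theorem sBorel_entry (b : sBorel F) :
    ((b : Matrix.SpecialLinearGroup (Fin 2) F) : Matrix (Fin 2) (Fin 2) F) 0 0 *
      ((b : Matrix.SpecialLinearGroup (Fin 2) F) : Matrix (Fin 2) (Fin 2) F) 1 1 = 1 := by
  have h10 := (mem_sBorel (b : Matrix.SpecialLinearGroup (Fin 2) F)).mp b.2
  have hdet := (b : Matrix.SpecialLinearGroup (Fin 2) F).det_coe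
  rw [Matrix.det_fin_two, h10, mul_zero, sub_zero] at hdet
  exact hdet

/-- The element `[[a, c], [0, a⁻¹]]` of `SL₂`. -/
noncomputable def sBorelMat (a : Fˣ) (c : F) : Matrix.SpecialLinearGroup (Fin 2) F :=
  ⟨!![(a : F), c; 0, ((a⁻¹ : Fˣ) : F)], by simp [Matrix.det_fin_two]⟩

theorem sBorelMat_coe (a : Fˣ) (c : F) :
    ((sBorelMat a c : Matrix.SpecialLinearGroup (Fin 2) F) : Matrix (Fin 2) (Fin 2) F) =
      !![(a : F), c; 0, ((a⁻¹ : Fˣ) : F)] := rfl

theorem sBorelMat_mem (a : Fˣ) (c : F) : sBorelMat a c ∈ sBorel F := by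
  rw [mem_sBorel, sBorelMat_coe]
  rfl

/-- The Weyl element `[[0, 1], [-1, 0]]` of `SL₂`. -/
noncomputable def sW (F : Type*) [Field F] : Matrix.SpecialLinearGroup (Fin 2) F :=
  ⟨!![0, 1; -1, 0], by simp [Matrix.det_fin_two]⟩

theorem sW_coe : ((sW F : Matrix.SpecialLinearGroup (Fin 2) F) : Matrix (Fin 2) (Fin 2) F) =
    !![0, 1; -1, 0] := rfl

/-- The inverse of the Weyl element. -/
noncomputable def sW' (F : Type*) [Field F] : Matrix.SpecialLinearGroup (Fin 2) F :=
  ⟨!![0, -1; 1, 0], by simp [Matrix.det_fin_two]⟩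

theorem sW'_coe : ((sW' F : Matrix.SpecialLinearGroup (Fin 2) F) : Matrix (Fin 2) (Fin 2) F) =
    !![0, -1; 1, 0] := rfl

theorem sW_inv : (sW F)⁻¹ = sW' F := by
  apply inv_eq_of_mul_eq_one_right
  apply Subtype.ext
  rw [Matrix.SpecialLinearGroup.coe_mul, sW_coe, sW'_coe]
  ext i j
  fin_cases i <;> fin_cases j <;> simp [Matrix.mul_apply, Fin.sum_univ_two]

/-- Parametrisation of the Borel subgroup of `SL₂`. -/
noncomputable def sBorelEquiv : Fˣ × F ≃ sBorel F where
  toFun p := ⟨sBorelMat p.1 p.2, sBorelMat_mem _ _⟩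
  invFun b := (Units.mkOfMulEqOne _ _ (sBorel_entry b),
    ((b : Matrix.SpecialLinearGroup (Fin 2) F) : Matrix (Fin 2) (Fin 2) F) 0 1)
  left_inv p := by
    obtain ⟨a, c⟩ := p
    refine Prod.ext ?_ ?_
    · apply Units.ext; rfl
    · rfl
  right_inv b := by
    apply Subtype.ext
    apply Subtype.ext
    have h10 := (mem_sBorel (b : Matrix.SpecialLinearGroup (Fin 2) F)).mp b.2
    have h11 := sBorel_entry b
    ext i j
    fin_cases i <;> fin_cases j
    · rfl
    · rfl
    · exact h10.symm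
    · rfl

theorem sBorelEquiv_coe (p : Fˣ × F) :
    (((sBorelEquiv p : sBorel F) : Matrix.SpecialLinearGroup (Fin 2) F) :
      Matrix (Fin 2) (Fin 2) F) = !![(p.1 : F), p.2; 0, ((p.1⁻¹ : Fˣ) : F)] := rfl

/-- The linear character `b ↦ α(b₁₁)` of the Borel subgroup of `SL₂`, as a function. -/
noncomputable def sBorelFun (α : MulChar F ℂ) : sBorel F → ℂ :=
  fun b => α (((b : Matrix.SpecialLinearGroup (Fin 2) F) : Matrix (Fin 2) (Fin 2) F) 0 0)

theorem sBorelFun_mul (α : MulChar F ℂ) (b c : sBorel F) :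
    sBorelFun α (b * c) = sBorelFun α b * sBorelFun α c := by
  have hc := (mem_sBorel (c : Matrix.SpecialLinearGroup (Fin 2) F)).mp c.2
  unfold sBorelFun
  rw [Subgroup.coe_mul, Matrix.SpecialLinearGroup.coe_mul, Matrix.mul_apply,
    Fin.sum_univ_two, hc, mul_zero, add_zero, map_mul]

theorem sBorelFun_one (α : MulChar F ℂ) : sBorelFun α 1 = 1 := by
  unfold sBorelFun
  simp

/-- The linear character of the Borel subgroup of `SL₂` as a homomorphism into `ℂˣ`. -/
noncomputable def sBorelHom (α : MulChar F ℂ) : sBorel F →* ℂˣ :=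
  MonoidHom.toHomUnits
    { toFun := sBorelFun α
      map_one' := sBorelFun_one α
      map_mul' := sBorelFun_mul α }

theorem sBorelHom_apply (α : MulChar F ℂ) (b : sBorel F) :
    ((sBorelHom α b : ℂˣ) : ℂ) = sBorelFun α b := rfl

theorem isCharacter_sBorelFun (α : MulChar F ℂ) : IsCharacter (sBorel F) (sBorelFun α) :=
  Helper2.isCharacter_of_hom (sBorelHom α)

theorem sBorelFun_conj (α : MulChar F ℂ) (b c : sBorel F) :
    sBorelFun α (c * b * c⁻¹) = sBorelFun α b := by
  have h : sBorelFun α c * sBorelFun α c⁻¹ = 1 := by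
    rw [← sBorelFun_mul, mul_inv_cancel, sBorelFun_one]
  rw [sBorelFun_mul, sBorelFun_mul, mul_comm (sBorelFun α c), mul_assoc, h, mul_one]

/-- Bruhat decomposition of `SL₂`. -/
theorem bruhat_SL2 (x : Matrix.SpecialLinearGroup (Fin 2) F) (hx : x ∉ sBorel F) :
    ∃ b₁ ∈ sBorel F, ∃ b₂ ∈ sBorel F, x = b₁ * sW F * b₂ := by
  rw [mem_sBorel] at hx
  have hdet := x.det_coe
  rw [Matrix.det_fin_two] at hdet
  obtain ⟨p, hp⟩ : ∃ p, p = (x : Matrix (Fin 2) (Fin 2) F) 0 0 := ⟨_, rfl⟩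
  obtain ⟨q, hq⟩ : ∃ q, q = (x : Matrix (Fin 2) (Fin 2) F) 0 1 := ⟨_, rfl⟩
  obtain ⟨r, hr⟩ : ∃ r, r = (x : Matrix (Fin 2) (Fin 2) F) 1 0 := ⟨_, rfl⟩
  obtain ⟨s, hs⟩ : ∃ s, s = (x : Matrix (Fin 2) (Fin 2) F) 1 1 := ⟨_, rfl⟩
  rw [← hp, ← hq, ← hr, ← hs] at hdet
  rw [← hr] at hx
  have hr' : -r ≠ 0 := neg_ne_zero.mpr hx
  refine ⟨sBorelMat 1 (p / r), sBorelMat_mem _ _,
    sBorelMat (Units.mk0 (-r) hr') (-s), sBorelMat_mem _ _, ?_⟩
  apply Subtype.ext
  rw [Matrix.SpecialLinearGroup.coe_mul, Matrix.SpecialLinearGroup.coe_mul, sBorelMat_coe,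
    sBorelMat_coe, sW_coe]
  ext i j
  fin_cases i <;> fin_cases j
  · simp [Matrix.mul_apply, Fin.sum_univ_two, ← hp]; field_simp
  · simp [Matrix.mul_apply, Fin.sum_univ_two, ← hq]; field_simp; linear_combination -hdet
  · simp [Matrix.mul_apply, Fin.sum_univ_two, ← hr]
  · simp [Matrix.mul_apply, Fin.sum_univ_two, ← hs]

end SBorel

section SFin

variable {F : Type*} [Field F] [Fintype F] [DecidableEq F]

theorem card_sBorel_cast :
    (Nat.card (sBorel F) : ℂ) = ((Fintype.card F : ℂ) - 1) * Fintype.card F := by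
  rw [Nat.card_congr (sBorelEquiv (F := F)).symm, Nat.card_prod,
    Nat.card_eq_fintype_card, Nat.card_eq_fintype_card, Fintype.card_units]
  push_cast [Nat.cast_sub (Fintype.card_pos (α := F))]
  ring

theorem card_SL2_cast :
    (Nat.card (Matrix.SpecialLinearGroup (Fin 2) F) : ℂ) =
      ((Fintype.card F : ℂ) + 1) * Nat.card (sBorel F) := by
  rw [card_sBorel_cast, S2301.card_SL2]
  have h : 1 ≤ Fintype.card F ^ 2 := Nat.one_le_pow _ _ Fintype.card_pos
  push_cast [Nat.cast_sub h]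
  ring

theorem extendByZero_sW_conj (α' : MulChar F ℂ) (a : Fˣ) (c : F) :
    extendByZero (sBorel F) (sBorelFun α') ((sW F)⁻¹ * sBorelMat a c * sW F) =
      if c = 0 then α'⁻¹ (a : F) else 0 := by
  have hcoe : (((sW F)⁻¹ * sBorelMat a c * sW F :
      Matrix.SpecialLinearGroup (Fin 2) F) : Matrix (Fin 2) (Fin 2) F) =
      !![((a⁻¹ : Fˣ) : F), 0; -c, (a : F)] := by
    rw [sW_inv, Matrix.SpecialLinearGroup.coe_mul, Matrix.SpecialLinearGroup.coe_mul,
      sBorelMat_coe, sW_coe, sW'_coe]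
    ext i j
    fin_cases i <;> fin_cases j <;> simp [Matrix.mul_apply, Fin.sum_univ_two]
  split_ifs with hc
  · have hmem : (sW F)⁻¹ * sBorelMat a c * sW F ∈ sBorel F := by
      rw [mem_sBorel, hcoe, hc]
      simp
    rw [Helper2.extendByZero_apply_mem _ _ hmem]
    unfold sBorelFun
    simp only [hcoe]
    rw [MulChar.inv_apply', ← Units.val_inv_eq_inv_val]
    rfl
  · have hmem : (sW F)⁻¹ * sBorelMat a c * sW F ∉ sBorel F := by
      rw [mem_sBorel, hcoe]
      simpa using hc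
    rw [Helper2.extendByZero_apply_not_mem _ _ hmem]

theorem mackeySum_sBorel [Fintype (sBorel F)] (α α' : MulChar F ℂ) :
    mackeySum (sBorel F) (sBorelFun α) (sBorelFun α') (sW F) =
      ∑ a : Fˣ, α (a : F) * conj (α'⁻¹ (a : F)) := by
  unfold mackeySum
  rw [← Equiv.sum_comp (sBorelEquiv (F := F)), Fintype.sum_prod_type]
  refine Finset.sum_congr rfl fun a _ => ?_
  rw [Finset.sum_eq_single (0 : F)]
  · have h := extendByZero_sW_conj α' a (0 : F)
    rw [if_pos rfl] at h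
    change sBorelFun α (sBorelEquiv (a, 0)) *
      conj (extendByZero (sBorel F) (sBorelFun α') ((sW F)⁻¹ * sBorelMat a 0 * sW F)) = _
    rw [h]
    rfl
  · intro c _ hc
    have h := extendByZero_sW_conj α' a c
    rw [if_neg hc] at h
    change sBorelFun α (sBorelEquiv (a, c)) *
      conj (extendByZero (sBorel F) (sBorelFun α') ((sW F)⁻¹ * sBorelMat a c * sW F)) = _
    rw [h, map_zero, mul_zero]
  · intro h
    exact absurd (Finset.mem_univ _) h

theorem sum_sBorel_mul_conj [Fintype (sBorel F)] (α α' : MulChar F ℂ) :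
    ∑ b : sBorel F, sBorelFun α b * conj (sBorelFun α' b) =
      (Fintype.card F : ℂ) * ∑ a : Fˣ, α (a : F) * conj (α' (a : F)) := by
  rw [← Equiv.sum_comp (sBorelEquiv (F := F)), Fintype.sum_prod_type, Finset.mul_sum]
  refine Finset.sum_congr rfl fun a _ => ?_
  have h : ∀ c : F, sBorelFun α (sBorelEquiv (a, c)) * conj (sBorelFun α' (sBorelEquiv (a, c))) =
      α (a : F) * conj (α' (a : F)) := fun c => rfl
  rw [Finset.sum_congr rfl (fun c _ => h c), Finset.sum_const, Finset.card_univ, nsmul_eq_mul]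

open Classical in
/-- Inner products of principal series characters of `SL₂(q)`. -/
theorem classInner_indFun_sBorel (α α' : MulChar F ℂ) :
    classInner (indFun (sBorel F) (sBorelFun α)) (indFun (sBorel F) (sBorelFun α')) =
      (if α = α' then 1 else 0) + (if α = α'⁻¹ then 1 else 0) := by
  have hq0 : (Fintype.card F : ℂ) ≠ 0 := by
    exact_mod_cast Fintype.card_pos.ne'
  have hm0 : (Fintype.card F : ℂ) - 1 ≠ 0 := by
    have h : 1 < Fintype.card F := Fintype.one_lt_card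
    have h2 : (Fintype.card F : ℂ) ≠ 1 := by exact_mod_cast h.ne'
    exact sub_ne_zero.mpr h2
  rw [classInner_indFun_of_bruhat (sBorel F) (sW F) bruhat_SL2
    (sBorelFun α) (sBorelFun α') (sBorelFun_conj α) (sBorelFun_conj α'), mackeySum_sBorel]
  unfold classInner
  rw [sum_sBorel_mul_conj, card_SL2_cast, card_sBorel_cast, sum_units_mul_conj, sum_units_mul_conj]
  split_ifs <;> first | (exfalso; tauto) | (field_simp; ring)

end SFin

end Cfsg.Agent.Helper13
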