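import Mathlib
import Cfsg.Agent.Helper13.SL2Borel

/-!
Restriction to `SL₂(q)` of a principal series character of `GL₂(q)`.
-/

set_option autoImplicit false

namespace Cfsg.Agent.Helper13

open Cfsg

open scoped ComplexConjugate

section Res

variable {F : Type*} [Field F]

/-- `SL₂` as the kernel of the determinant on `GL₂`. -/
abbrev kerDet (F : Type*) [Field F] : Subgroup (Matrix.GeneralLinearGroup (Fin 2) F) :=
  (Matrix.GeneralLinearGroup.det : Matrix.GeneralLinearGroup (Fin 2) F →* Fˣ).ker

theorem det_toGL (s : Matrix.SpecialLinearGroup (Fin 2) F) :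
    Matrix.GeneralLinearGroup.det (Matrix.SpecialLinearGroup.toGL s) = 1 := by
  apply Units.ext
  simp

theorem toGL_mem_kerDet (s : Matrix.SpecialLinearGroup (Fin 2) F) :
    Matrix.SpecialLinearGroup.toGL s ∈ kerDet F := by
  rw [MonoidHom.mem_ker]
  exact det_toGL s

theorem exists_toGL_eq_of_det (M : Matrix.GeneralLinearGroup (Fin 2) F)
    (hM : Matrix.GeneralLinearGroup.det M = 1) :
    ∃ s : Matrix.SpecialLinearGroup (Fin 2) F, Matrix.SpecialLinearGroup.toGL s = M := by
  have hM' : (M : Matrix (Fin 2) (Fin 2) F).det = 1 := by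
    have := congrArg Units.val hM
    simpa using this
  refine ⟨⟨(M : Matrix (Fin 2) (Fin 2) F), hM'⟩, ?_⟩
  apply Matrix.GeneralLinearGroup.ext
  intro i j
  rfl

/-- The isomorphism between `SL₂` and the kernel of the determinant. -/
noncomputable def kerDetEquiv (F : Type*) [Field F] :
    Matrix.SpecialLinearGroup (Fin 2) F ≃* kerDet F :=
  MulEquiv.ofBijective
    ((Matrix.SpecialLinearGroup.toGL :
      Matrix.SpecialLinearGroup (Fin 2) F →* Matrix.GeneralLinearGroup (Fin 2) F).codRestrict
        (kerDet F) toGL_mem_kerDet) (by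
    constructor
    · intro g h hgh
      have := congrArg Subtype.val hgh
      exact Matrix.SpecialLinearGroup.toGL_injective this
    · rintro ⟨M, hM⟩
      rw [MonoidHom.mem_ker] at hM
      obtain ⟨s, hs⟩ := exists_toGL_eq_of_det M hM
      exact ⟨s, Subtype.ext hs⟩)

theorem kerDetEquiv_coe (s : Matrix.SpecialLinearGroup (Fin 2) F) :
    ((kerDetEquiv F s : kerDet F) : Matrix.GeneralLinearGroup (Fin 2) F) =
      Matrix.SpecialLinearGroup.toGL s := rfl

theorem toGL_kerDetEquiv_symm (n : kerDet F) :
    Matrix.SpecialLinearGroup.toGL ((kerDetEquiv F).symm n) =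
      (n : Matrix.GeneralLinearGroup (Fin 2) F) := by
  rw [← kerDetEquiv_coe, MulEquiv.apply_symm_apply]

theorem det_borelMat (a d : Fˣ) (c : F) :
    Matrix.GeneralLinearGroup.det (borelMat a d c) = a * d := by
  apply Units.ext
  simp [borelMat, Matrix.GeneralLinearGroup.mkOfDetNeZero, Matrix.det_fin_two]

/-- `GL₂ = SL₂ · {diag(t, 1)}`. -/
noncomputable def glSplit (F : Type*) [Field F] :
    Matrix.SpecialLinearGroup (Fin 2) F × Fˣ ≃ Matrix.GeneralLinearGroup (Fin 2) F :=
  Equiv.ofBijective (fun p => Matrix.SpecialLinearGroup.toGL p.1 * borelMat p.2 1 0) (by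
    constructor
    · rintro ⟨s, t⟩ ⟨s', t'⟩ h
      have h' : Matrix.SpecialLinearGroup.toGL s * borelMat t 1 0 =
          Matrix.SpecialLinearGroup.toGL s' * borelMat t' 1 0 := h
      have hdet := congrArg Matrix.GeneralLinearGroup.det h'
      rw [map_mul, map_mul, det_toGL, det_toGL, det_borelMat, det_borelMat, one_mul, one_mul,
        mul_one, mul_one] at hdet
      subst hdet
      have h2 := mul_right_cancel h'
      rw [Matrix.SpecialLinearGroup.toGL_injective h2]
    · intro x
      have hdet : Matrix.GeneralLinearGroup.det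
          (x * (borelMat (Matrix.GeneralLinearGroup.det x) 1 0)⁻¹) = 1 := by
        rw [map_mul, map_inv, det_borelMat, mul_one, mul_inv_cancel]
      obtain ⟨s, hs⟩ := exists_toGL_eq_of_det _ hdet
      refine ⟨(s, Matrix.GeneralLinearGroup.det x), ?_⟩
      change Matrix.SpecialLinearGroup.toGL s * borelMat (Matrix.GeneralLinearGroup.det x) 1 0 = x
      rw [hs, inv_mul_cancel_right])

theorem glSplit_apply (s : Matrix.SpecialLinearGroup (Fin 2) F) (t : Fˣ) :
    glSplit F (s, t) = Matrix.SpecialLinearGroup.toGL s * borelMat t 1 0 := rfl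

/-- Extension by zero is compatible with the inclusion of `SL₂` into `GL₂`. -/
theorem extendByZero_toGL (α : MulChar F ℂ) (y : Matrix.SpecialLinearGroup (Fin 2) F) :
    extendByZero (upperTriangularGL 2 F) (borelFun α 1) (Matrix.SpecialLinearGroup.toGL y) =
      extendByZero (sBorel F) (sBorelFun α) y := by
  by_cases hy : y ∈ sBorel F
  · have hy' : Matrix.SpecialLinearGroup.toGL y ∈ upperTriangularGL 2 F := hy
    rw [Helper2.extendByZero_apply_mem _ _ hy, Helper2.extendByZero_apply_mem _ _ hy']
    unfold borelFun sBorelFun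
    have h11 := sBorel_entry ⟨y, hy⟩
    have hu : IsUnit ((y : Matrix (Fin 2) (Fin 2) F) 1 1) :=
      IsUnit.of_mul_eq_one _ (by rw [mul_comm]; exact h11)
    have h1 : (1 : MulChar F ℂ) ((y : Matrix (Fin 2) (Fin 2) F) 1 1) = 1 := MulChar.one_apply hu
    change α ((y : Matrix (Fin 2) (Fin 2) F) 0 0) * (1 : MulChar F ℂ) ((y : Matrix (Fin 2) (Fin 2) F) 1 1) =
      α ((y : Matrix (Fin 2) (Fin 2) F) 0 0)
    rw [h1, mul_one]
  · have hy' : Matrix.SpecialLinearGroup.toGL y ∉ upperTriangularGL 2 F := hy
    rw [Helper2.extendByZero_apply_not_mem _ _ hy, Helper2.extendByZero_apply_not_mem _ _ hy']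

end Res

section ResFin

variable {F : Type*} [Field F] [Fintype F] [DecidableEq F]

/-- The restriction to `SL₂` of the principal series character of `GL₂` attached to `(α, 1)` is
the principal series character of `SL₂` attached to `α`. -/
theorem res_indFun_borel (α : MulChar F ℂ) (g : Matrix.SpecialLinearGroup (Fin 2) F) :
    indFun (upperTriangularGL 2 F) (borelFun α 1) (Matrix.SpecialLinearGroup.toGL g) =
      indFun (sBorel F) (sBorelFun α) g := by
  have hq0 : (Fintype.card F : ℂ) ≠ 0 := by
    exact_mod_cast Fintype.card_pos.ne'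
  have hm0 : (Fintype.card F : ℂ) - 1 ≠ 0 := by
    have h : 1 < Fintype.card F := Fintype.one_lt_card
    have h2 : (Fintype.card F : ℂ) ≠ 1 := by exact_mod_cast h.ne'
    exact sub_ne_zero.mpr h2
  rw [Helper2.indFun_apply, Helper2.indFun_apply, ← Equiv.sum_comp (glSplit F),
    Fintype.sum_prod_type]
  have h : ∀ (s : Matrix.SpecialLinearGroup (Fin 2) F) (t : Fˣ),
      extendByZero (upperTriangularGL 2 F) (borelFun α 1)
        ((glSplit F (s, t))⁻¹ * Matrix.SpecialLinearGroup.toGL g * glSplit F (s, t)) =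
      extendByZero (sBorel F) (sBorelFun α) (s⁻¹ * g * s) := by
    intro s t
    rw [← extendByZero_toGL, glSplit_apply]
    have h1 := extendByZero_conj_mem (upperTriangularGL 2 F) (borelFun α 1) (borelFun_conj α 1)
      ((upperTriangularGL 2 F).inv_mem (borelMat_mem t 1 0))
      (Matrix.SpecialLinearGroup.toGL (s⁻¹ * g * s))
    rw [← h1]
    congr 1
    rw [map_mul, map_mul, map_inv]
    group
  rw [Finset.sum_congr rfl (fun s _ => Finset.sum_congr rfl (fun t _ => h s t))]
  simp only [Finset.sum_const, Finset.card_univ, nsmul_eq_mul]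
  rw [← Finset.mul_sum, card_borel_cast, card_sBorel_cast, Fintype.card_units,
    Nat.cast_sub Fintype.card_pos, Nat.cast_one]
  field_simp

end ResFin

end Cfsg.Agent.Helper13
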