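import Mathlib
import Cfsg.Agent.Helper13.GL2Values
import Cfsg.Agent.Helper13.SL2Res

/-!
The irreducible characters of `SL₂(q)` via restriction from `GL₂(q)`.
-/

set_option autoImplicit false

namespace Cfsg.Agent.Helper13

open Cfsg

open scoped ComplexConjugate

section MulCharGroup

variable {F : Type*} [Field F] [Fintype F]

theorem isCyclic_mulChar : IsCyclic (MulChar F ℂ) := by
  classical
  haveI : NeZero ((Monoid.exponent Fˣ : ℕ) : ℂ) :=
    ⟨by exact_mod_cast Monoid.exponent_ne_zero_of_finite⟩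
  obtain ⟨e⟩ := MulChar.mulEquiv_units F ℂ
  exact isCyclic_of_surjective e.symm e.symm.surjective

/-- There are at most two multiplicative characters with square one. -/
theorem card_mulChar_sq_le [Fintype (MulChar F ℂ)] [DecidableEq (MulChar F ℂ)] :
    ((Finset.univ : Finset (MulChar F ℂ)).filter (fun γ => γ ^ 2 = 1)).card ≤ 2 := by
  haveI := isCyclic_mulChar (F := F)
  exact IsCyclic.card_pow_eq_one_le (by norm_num)

/-- Two multiplicative characters of order two are equal. -/
theorem mulChar_order_two_unique {γ γ' : MulChar F ℂ} (h : γ ^ 2 = 1) (h1 : γ ≠ 1)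
    (h' : γ' ^ 2 = 1) (h1' : γ' ≠ 1) : γ = γ' := by
  classical
  haveI : Fintype (MulChar F ℂ) := Fintype.ofFinite _
  by_contra hne
  have hsub : ({1, γ, γ'} : Finset (MulChar F ℂ)) ⊆
      (Finset.univ : Finset (MulChar F ℂ)).filter (fun γ => γ ^ 2 = 1) := by
    intro x hx
    simp only [Finset.mem_insert, Finset.mem_singleton] at hx
    rw [Finset.mem_filter]
    refine ⟨Finset.mem_univ _, ?_⟩
    rcases hx with rfl | rfl | rfl
    · exact one_pow 2
    · exact h
    · exact h'
  have hcard : ({1, γ, γ'} : Finset (MulChar F ℂ)).card = 3 := by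
    rw [Finset.card_insert_of_notMem, Finset.card_insert_of_notMem, Finset.card_singleton]
    · simpa using hne
    · simp only [Finset.mem_insert, Finset.mem_singleton, not_or]
      exact ⟨Ne.symm h1, Ne.symm h1'⟩
  have := (Finset.card_le_card hsub).trans card_mulChar_sq_le
  omega

/-- For `q` even the only multiplicative character with square one is trivial. -/
theorem mulChar_sq_eq_one_of_even (heven : Even (Fintype.card F)) {γ : MulChar F ℂ}
    (h : γ ^ 2 = 1) : γ = 1 := by
  have h1 : orderOf γ ∣ 2 := orderOf_dvd_of_pow_eq_one h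
  have h2 : orderOf γ ∣ Nat.card (MulChar F ℂ) := orderOf_dvd_natCard γ
  rw [card_mulChar] at h2
  have hodd : Odd (Fintype.card F - 1) := by
    obtain ⟨k, hk⟩ := heven
    have : 0 < Fintype.card F := Fintype.card_pos
    exact ⟨k - 1, by omega⟩
  have h3 : Nat.Coprime 2 (Fintype.card F - 1) := by
    rw [Nat.coprime_comm]
    exact Nat.Coprime.symm (Nat.coprime_two_left.mpr hodd)
  have h4 : orderOf γ = 1 := Nat.eq_one_of_dvd_coprimes h3 h1 h2
  exact orderOf_eq_one_iff.mp h4

/-- For `q` odd there is a multiplicative character of order two. -/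
theorem exists_mulChar_order_two (hodd : Odd (Fintype.card F)) :
    ∃ γ : MulChar F ℂ, γ ^ 2 = 1 ∧ γ ≠ 1 := by
  classical
  haveI : Fintype (MulChar F ℂ) := Fintype.ofFinite _
  haveI : Fact (Nat.Prime 2) := ⟨Nat.prime_two⟩
  have hdvd : 2 ∣ Fintype.card (MulChar F ℂ) := by
    rw [← Nat.card_eq_fintype_card, card_mulChar]
    obtain ⟨k, hk⟩ := hodd
    exact ⟨k, by omega⟩
  obtain ⟨γ, hγ⟩ := exists_prime_orderOf_dvd_card 2 hdvd
  refine ⟨γ, ?_, ?_⟩
  · rw [← hγ]
    exact pow_orderOf_eq_one γ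
  · intro h
    rw [h, orderOf_one] at hγ
    omega

end MulCharGroup

section Res

variable {F : Type*} [Field F]

/-- Restriction of a function on `GL₂` to `SL₂`. -/
def resS (χ : Matrix.GeneralLinearGroup (Fin 2) F → ℂ) : Matrix.SpecialLinearGroup (Fin 2) F → ℂ :=
  fun s => χ (Matrix.SpecialLinearGroup.toGL s)

theorem resS_apply (χ : Matrix.GeneralLinearGroup (Fin 2) F → ℂ)
    (s : Matrix.SpecialLinearGroup (Fin 2) F) : resS χ s = χ (Matrix.SpecialLinearGroup.toGL s) :=
  rfl

theorem isCharacter_resS {χ : Matrix.GeneralLinearGroup (Fin 2) F → ℂ}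
    (hχ : IsCharacter (Matrix.GeneralLinearGroup (Fin 2) F) χ) :
    IsCharacter (Matrix.SpecialLinearGroup (Fin 2) F) (resS χ) :=
  Helper10.isCharacter_comp Matrix.SpecialLinearGroup.toGL hχ

theorem resS_one (χ : Matrix.GeneralLinearGroup (Fin 2) F → ℂ) : resS χ 1 = χ 1 := by
  rw [resS_apply, map_one]

theorem resS_detFun (α : MulChar F ℂ) : resS (detFun α) = fun _ => (1 : ℂ) := by
  funext s
  rw [resS_apply]
  unfold detFun
  rw [det_toGL]
  simp

theorem resS_add (χ ψ : Matrix.GeneralLinearGroup (Fin 2) F → ℂ) :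
    resS (χ + ψ) = resS χ + resS ψ := rfl

theorem resS_sub (χ ψ : Matrix.GeneralLinearGroup (Fin 2) F → ℂ) :
    resS (χ - ψ) = resS χ - resS ψ := rfl

/-- Conjugation by an element of `GL₂` as an automorphism of `SL₂`. -/
noncomputable def cxS (x : Matrix.GeneralLinearGroup (Fin 2) F) :
    Matrix.SpecialLinearGroup (Fin 2) F ≃* Matrix.SpecialLinearGroup (Fin 2) F :=
  ((kerDetEquiv F).trans (MulAut.conjNormal x : kerDet F ≃* kerDet F)).trans (kerDetEquiv F).symm

theorem cxS_apply (x : Matrix.GeneralLinearGroup (Fin 2) F)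
    (s : Matrix.SpecialLinearGroup (Fin 2) F) :
    cxS x s = (kerDetEquiv F).symm
      ((MulAut.conjNormal x : kerDet F ≃* kerDet F) (kerDetEquiv F s)) := rfl

theorem toGL_cxS (x : Matrix.GeneralLinearGroup (Fin 2) F)
    (s : Matrix.SpecialLinearGroup (Fin 2) F) :
    Matrix.SpecialLinearGroup.toGL (cxS x s) = x * Matrix.SpecialLinearGroup.toGL s * x⁻¹ := by
  rw [cxS_apply, toGL_kerDetEquiv_symm, MulAut.conjNormal_apply, kerDetEquiv_coe]

/-- Extension by zero is compatible with the inclusion of `SL₂` into `GL₂` (general pair). -/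
theorem extendByZero_toGL_gen (α β : MulChar F ℂ) (y : Matrix.SpecialLinearGroup (Fin 2) F) :
    extendByZero (upperTriangularGL 2 F) (borelFun α β) (Matrix.SpecialLinearGroup.toGL y) =
      extendByZero (sBorel F) (sBorelFun (α * β⁻¹)) y := by
  by_cases hy : y ∈ sBorel F
  · have hy' : Matrix.SpecialLinearGroup.toGL y ∈ upperTriangularGL 2 F := hy
    rw [Helper2.extendByZero_apply_mem _ _ hy, Helper2.extendByZero_apply_mem _ _ hy']
    have h11 := sBorel_entry ⟨y, hy⟩
    have h2 : (y : Matrix (Fin 2) (Fin 2) F) 1 1 = ((y : Matrix (Fin 2) (Fin 2) F) 0 0)⁻¹ :=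
      eq_inv_of_mul_eq_one_right h11
    change α ((y : Matrix (Fin 2) (Fin 2) F) 0 0) * β ((y : Matrix (Fin 2) (Fin 2) F) 1 1) =
      (α * β⁻¹) ((y : Matrix (Fin 2) (Fin 2) F) 0 0)
    rw [MulChar.mul_apply, MulChar.inv_apply', h2]
  · have hy' : Matrix.SpecialLinearGroup.toGL y ∉ upperTriangularGL 2 F := hy
    rw [Helper2.extendByZero_apply_not_mem _ _ hy, Helper2.extendByZero_apply_not_mem _ _ hy']

end Res

section ResFin

variable {F : Type*} [Field F] [Fintype F] [DecidableEq F]

/-- The principal series function of `SL₂`. -/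
noncomputable abbrev rFun (γ : MulChar F ℂ) : Matrix.SpecialLinearGroup (Fin 2) F → ℂ :=
  indFun (sBorel F) (sBorelFun γ)

/-- The restriction to `SL₂` of a principal series character of `GL₂`. -/
theorem resS_psFun (α β : MulChar F ℂ) : resS (psFun α β) = rFun (α * β⁻¹) := by
  funext g
  have hq := card_ne_zero_aux (F := F)
  have hq0 : (Fintype.card F : ℂ) ≠ 0 := hq.1
  have hm0 : (Fintype.card F : ℂ) - 1 ≠ 0 := hq.2
  rw [resS_apply]
  unfold psFun rFun
  rw [Helper2.indFun_apply, Helper2.indFun_apply, ← Equiv.sum_comp (glSplit F),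
    Fintype.sum_prod_type]
  have h : ∀ (s : Matrix.SpecialLinearGroup (Fin 2) F) (t : Fˣ),
      extendByZero (upperTriangularGL 2 F) (borelFun α β)
        ((glSplit F (s, t))⁻¹ * Matrix.SpecialLinearGroup.toGL g * glSplit F (s, t)) =
      extendByZero (sBorel F) (sBorelFun (α * β⁻¹)) (s⁻¹ * g * s) := by
    intro s t
    rw [← extendByZero_toGL_gen, glSplit_apply]
    have h1 := extendByZero_conj_mem (upperTriangularGL 2 F) (borelFun α β) (borelFun_conj α β)
      ((upperTriangularGL 2 F).inv_mem (borelMat_mem t 1 0))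
      (Matrix.SpecialLinearGroup.toGL (s⁻¹ * g * s))
    rw [← h1]
    congr 1
    rw [map_mul, map_mul, map_inv]
    group
  rw [Finset.sum_congr rfl (fun s _ => Finset.sum_congr rfl (fun t _ => h s t))]
  simp only [Finset.sum_const, Finset.card_univ, nsmul_eq_mul]
  rw [← Finset.mul_sum, card_borel_cast, card_sBorel_cast, Fintype.card_units,
    Nat.cast_sub Fintype.card_pos, Nat.cast_one]
  field_simp

theorem isCharacter_rFun (γ : MulChar F ℂ) :
    IsCharacter (Matrix.SpecialLinearGroup (Fin 2) F) (rFun γ) :=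
  Helper2.isCharacter_indFun _ (isCharacter_sBorelFun γ)

theorem rFun_inv (γ : MulChar F ℂ) : rFun γ⁻¹ = rFun γ := by
  have h1 := resS_psFun (1 : MulChar F ℂ) γ
  have h2 := resS_psFun γ (1 : MulChar F ℂ)
  rw [one_mul] at h1
  rw [inv_one, mul_one] at h2
  rw [← h1, ← h2, psFun_swap]

theorem rFun_one_apply (γ : MulChar F ℂ) : rFun γ 1 = (Fintype.card F : ℂ) + 1 := by
  have h := resS_psFun γ (1 : MulChar F ℂ)
  rw [inv_one, mul_one] at h
  rw [← h, resS_one, psFun_one]

open Classical in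
theorem classInner_rFun (γ γ' : MulChar F ℂ) :
    classInner (rFun γ) (rFun γ') = (if γ = γ' then 1 else 0) + (if γ = γ'⁻¹ then 1 else 0) :=
  classInner_indFun_sBorel γ γ'

theorem sq_eq_one_iff_eq_inv (γ : MulChar F ℂ) : γ = γ⁻¹ ↔ γ ^ 2 = 1 := by
  rw [eq_inv_iff_mul_eq_one, sq]

theorem isIrrCharacter_rFun {γ : MulChar F ℂ} (hγ : γ ^ 2 ≠ 1) :
    IsIrrCharacter (Matrix.SpecialLinearGroup (Fin 2) F) (rFun γ) := by
  apply Helper10.isIrr_of_char_norm_one (isCharacter_rFun γ)
  rw [classInner_rFun, if_pos rfl, if_neg (fun h => hγ ((sq_eq_one_iff_eq_inv γ).mp h)), add_zero]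

theorem norm_rFun_two {γ : MulChar F ℂ} (hγ : γ ^ 2 = 1) :
    classInner (rFun γ) (rFun γ) = 2 := by
  rw [classInner_rFun, if_pos rfl, if_pos ((sq_eq_one_iff_eq_inv γ).mpr hγ)]
  norm_num

theorem rFun_eq_iff (γ γ' : MulChar F ℂ) : rFun γ = rFun γ' ↔ γ = γ' ∨ γ = γ'⁻¹ := by
  constructor
  · intro h
    by_contra hcon
    rw [not_or] at hcon
    have h1 := classInner_rFun γ γ'
    rw [if_neg hcon.1, if_neg hcon.2, add_zero, ← h, classInner_rFun, if_pos rfl] at h1
    split_ifs at h1
    · norm_num at h1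
    · norm_num at h1
  · rintro (rfl | rfl)
    · rfl
    · exact rFun_inv γ'

end ResFin

section Classify

variable {F : Type*} [Field F] [Fintype F] [DecidableEq F]

theorem sBorelFun_one_eq : sBorelFun (1 : MulChar F ℂ) = fun _ => (1 : ℂ) := by
  funext b
  unfold sBorelFun
  exact MulChar.one_apply (IsUnit.of_mul_eq_one _ (sBorel_entry b))

theorem classInner_rFun_one :
    classInner (rFun (1 : MulChar F ℂ)) (fun _ => (1 : ℂ)) = 1 := by
  classical
  haveI : Fintype (sBorel F) := Fintype.ofFinite _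
  rw [Helper2.frobenius_reciprocity _ _ _
    (Helper2.IsIrrCharacter.isClassFunction Helper2.isIrrCharacter_one_fun), sBorelFun_one_eq]
  exact Helper10.classInner_hom_self (1 : sBorel F →* ℂˣ)

/-- The Steinberg character of `SL₂(q)`. -/
noncomputable def stS (F : Type*) [Field F] [Fintype F] [DecidableEq F] :
    Matrix.SpecialLinearGroup (Fin 2) F → ℂ :=
  rFun (1 : MulChar F ℂ) - fun _ => (1 : ℂ)

theorem rFun_one_eq : rFun (1 : MulChar F ℂ) = (fun _ => (1 : ℂ)) + stS F := by
  unfold stS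
  abel

theorem stS_spec : IsIrrCharacter (Matrix.SpecialLinearGroup (Fin 2) F) (stS F) ∧
    stS F ≠ fun _ => (1 : ℂ) := by
  have hnorm2 := norm_rFun_two (one_pow 2 : (1 : MulChar F ℂ) ^ 2 = 1)
  obtain ⟨χ₁, χ₂, h1, h2, hne, hsum⟩ := char_norm_two (isCharacter_rFun (1 : MulChar F ℂ)) hnorm2
  have h := classInner_rFun_one (F := F)
  rw [hsum, Helper2.classInner_add_left, Helper2.classInner_irr h1 Helper2.isIrrCharacter_one_fun,
    Helper2.classInner_irr h2 Helper2.isIrrCharacter_one_fun] at h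
  by_cases e1 : χ₁ = fun _ => (1 : ℂ)
  · have hst : stS F = χ₂ := by
      unfold stS
      rw [hsum, e1]
      abel
    rw [hst]
    exact ⟨h2, fun h' => hne (e1.trans h'.symm)⟩
  · by_cases e2 : χ₂ = fun _ => (1 : ℂ)
    · have hst : stS F = χ₁ := by
        unfold stS
        rw [hsum, e2]
        abel
      rw [hst]
      exact ⟨h1, fun h' => hne (h'.trans e2.symm)⟩
    · rw [if_neg e1, if_neg e2] at h
      norm_num at h

theorem stS_one : stS F 1 = (Fintype.card F : ℂ) := by
  unfold stS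
  rw [Pi.sub_apply, rFun_one_apply]
  ring

theorem resS_stFun (α : MulChar F ℂ) : resS (stFun α) = stS F := by
  unfold stFun stS
  rw [resS_sub, resS_psFun, mul_inv_cancel, resS_detFun]

/-- Every irreducible character of `SL₂` lies under an irreducible character of `GL₂`. -/
theorem exists_irr_over {θ : Matrix.SpecialLinearGroup (Fin 2) F → ℂ}
    (hθ : IsIrrCharacter (Matrix.SpecialLinearGroup (Fin 2) F) θ) :
    ∃ χ : Matrix.GeneralLinearGroup (Fin 2) F → ℂ,
      IsIrrCharacter (Matrix.GeneralLinearGroup (Fin 2) F) χ ∧ classInner (resS χ) θ ≠ 0 := by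
  classical
  haveI : Fintype (kerDet F) := Fintype.ofFinite _
  by_contra hcon
  rw [not_exists] at hcon
  have hcf := Helper2.isClassFunction_indFun (kerDet F) (θ ∘ (kerDetEquiv F).symm)
  have hzero : indFun (kerDet F) (θ ∘ (kerDetEquiv F).symm) = 0 := by
    apply Helper2.class_fn_eq_zero_of_classInner hcf
    intro χ hχ
    rw [Helper2.frobenius_reciprocity _ _ _ (Helper2.IsIrrCharacter.isClassFunction hχ)]
    have h1 : (fun k : kerDet F => χ k) = (resS χ) ∘ (kerDetEquiv F).symm := by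
      funext k
      rw [Function.comp_apply, resS_apply, toGL_kerDetEquiv_symm]
    have h2 : classInner (resS χ) θ = 0 := by
      by_contra h
      exact hcon χ ⟨hχ, h⟩
    rw [h1, Helper6.classInner_comp_mulEquiv, ← Helper2.classInner_conj_symm, h2, map_zero]
  have h1 := congrFun hzero 1
  rw [Helper6.indFun_one] at h1
  obtain ⟨d, hd, hd1⟩ := Helper10.irr_one_eq hθ
  have hG : (Nat.card (Matrix.GeneralLinearGroup (Fin 2) F) : ℂ) ≠ 0 := by
    exact_mod_cast Nat.card_pos.ne'
  have hK : (Nat.card (kerDet F) : ℂ) ≠ 0 := by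
    exact_mod_cast Nat.card_pos.ne'
  have h0 : θ 1 = 0 := by
    simp only [Function.comp_apply, map_one, Pi.zero_apply] at h1
    rcases mul_eq_zero.mp h1 with h | h
    · exact absurd h (div_ne_zero hG hK)
    · exact h
  rw [hd1] at h0
  have : d = 0 := by exact_mod_cast h0
  exact hd.ne' this

theorem sum_toGL (f : Matrix.GeneralLinearGroup (Fin 2) F → ℂ) :
    ∑ s : Matrix.SpecialLinearGroup (Fin 2) F, f (Matrix.SpecialLinearGroup.toGL s) =
      ∑ g : Matrix.GeneralLinearGroup (Fin 2) F,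
        if Matrix.GeneralLinearGroup.det g = 1 then f g else 0 := by
  refine Fintype.sum_of_injective _ Matrix.SpecialLinearGroup.toGL_injective _ _ ?_ ?_
  · intro g hg
    rw [if_neg]
    intro hdet
    obtain ⟨s, hs⟩ := exists_toGL_eq_of_det g hdet
    exact hg ⟨s, hs⟩
  · intro s
    rw [if_pos (det_toGL s)]

theorem isIrr_detFun_mul {χ : Matrix.GeneralLinearGroup (Fin 2) F → ℂ}
    (hχ : IsIrrCharacter (Matrix.GeneralLinearGroup (Fin 2) F) χ) (γ : MulChar F ℂ) :
    IsIrrCharacter (Matrix.GeneralLinearGroup (Fin 2) F) (detFun γ * χ) := by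
  apply Helper10.isIrr_of_char_norm_one (Helper2.IsCharacter.mul
    (Helper24.isCharacter_of_irr (isIrrCharacter_detFun γ)) (Helper24.isCharacter_of_irr hχ))
  have h := Helper2.classInner_irr hχ hχ
  rw [if_pos rfl] at h
  rw [← h]
  unfold classInner
  congr 1
  refine Finset.sum_congr rfl fun g _ => ?_
  have hn : detFun γ g * conj (detFun γ g) = 1 := by
    rw [← detHom_apply, Helper10.conj_hom_units]
    simp
  rw [Pi.mul_apply, map_mul]
  linear_combination (χ g * conj (χ g)) * hn

theorem norm_resS_eq_sum [Fintype (MulChar F ℂ)] {χ : Matrix.GeneralLinearGroup (Fin 2) F → ℂ}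
    (hχ : IsIrrCharacter (Matrix.GeneralLinearGroup (Fin 2) F) χ) :
    classInner (resS χ) (resS χ) = ∑ γ : MulChar F ℂ, classInner (detFun γ * χ) χ := by
  have hq := card_ne_zero_aux (F := F)
  have hq0 : (Fintype.card F : ℂ) ≠ 0 := hq.1
  have hm0 : (Fintype.card F : ℂ) - 1 ≠ 0 := hq.2
  have hp0 : (Fintype.card F : ℂ) + 1 ≠ 0 := by
    have : ((Fintype.card F + 1 : ℕ) : ℂ) ≠ 0 := Nat.cast_ne_zero.mpr (Nat.succ_ne_zero _)
    simpa using this
  unfold classInner
  have h1 : ∑ s : Matrix.SpecialLinearGroup (Fin 2) F, resS χ s * conj (resS χ s) =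
      ∑ g : Matrix.GeneralLinearGroup (Fin 2) F,
        if Matrix.GeneralLinearGroup.det g = 1 then χ g * conj (χ g) else 0 :=
    sum_toGL (fun g => χ g * conj (χ g))
  have h2 : ∀ g : Matrix.GeneralLinearGroup (Fin 2) F,
      (if Matrix.GeneralLinearGroup.det g = 1 then χ g * conj (χ g) else 0) =
      ((Fintype.card F : ℂ) - 1)⁻¹ * ∑ γ : MulChar F ℂ, (detFun γ * χ) g * conj (χ g) := by
    intro g
    have h3 := sum_mulChar_apply (F := F) (Matrix.GeneralLinearGroup.det g)
    have h4 : ∑ γ : MulChar F ℂ, (detFun γ * χ) g * conj (χ g) =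
        (∑ γ : MulChar F ℂ, γ ((Matrix.GeneralLinearGroup.det g : Fˣ) : F)) * (χ g * conj (χ g)) := by
      rw [Finset.sum_mul]
      refine Finset.sum_congr rfl fun γ _ => ?_
      rw [Pi.mul_apply]
      unfold detFun
      ring
    rw [h4, h3]
    split_ifs with hd
    · field_simp
    · simp
  have key : ∑ s : Matrix.SpecialLinearGroup (Fin 2) F, resS χ s * conj (resS χ s) =
      ((Fintype.card F : ℂ) - 1)⁻¹ * ∑ γ : MulChar F ℂ,
        ∑ g : Matrix.GeneralLinearGroup (Fin 2) F, (detFun γ * χ) g * conj (χ g) := by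
    rw [h1, Finset.sum_congr rfl (fun g _ => h2 g), ← Finset.mul_sum, Finset.sum_comm]
  rw [key, ← Finset.mul_sum, card_GL2_cast, card_borel_cast, card_SL2_cast, card_sBorel_cast]
  field_simp

theorem sq_eq_one_of_detFun_mul_eq {χ : Matrix.GeneralLinearGroup (Fin 2) F → ℂ}
    (hχ : IsIrrCharacter (Matrix.GeneralLinearGroup (Fin 2) F) χ) {γ : MulChar F ℂ}
    (h : detFun γ * χ = χ) : γ ^ 2 = 1 := by
  ext a
  rw [MulChar.pow_apply_coe, MulChar.one_apply_coe]
  have hz : borelMat a a 0 ∈ Subgroup.center (Matrix.GeneralLinearGroup (Fin 2) F) := by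
    rw [Subgroup.mem_center_iff]
    intro x
    exact scalar_comm a x
  obtain ⟨c, hc1, hc2⟩ := Helper24.char_central_mul hχ (borelMat a a 0) hz
  obtain ⟨d, hd, hd1⟩ := Helper10.irr_one_eq hχ
  have hχ1 : χ 1 ≠ 0 := by
    rw [hd1]
    exact_mod_cast hd.ne'
  have hc0 : c ≠ 0 := by
    intro h0
    have := hc1 (borelMat a a 0)⁻¹
    rw [inv_mul_cancel, h0, zero_mul] at this
    exact hχ1 this
  have hχz : χ (borelMat a a 0) ≠ 0 := by
    have := hc1 1
    rw [one_mul] at this
    rw [this]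
    exact mul_ne_zero hc0 hχ1
  have h1 := congrFun h (borelMat a a 0)
  rw [Pi.mul_apply, detFun_borelMat] at h1
  have h2 : (γ (a : F) * γ (a : F) - 1) * χ (borelMat a a 0) = 0 := by linear_combination h1
  rcases mul_eq_zero.mp h2 with h3 | h3
  · rw [sq]
    linear_combination h3
  · exact absurd h3 hχz

open Classical in
theorem norm_resS_eq_card [Fintype (MulChar F ℂ)] {χ : Matrix.GeneralLinearGroup (Fin 2) F → ℂ}
    (hχ : IsIrrCharacter (Matrix.GeneralLinearGroup (Fin 2) F) χ) :
    classInner (resS χ) (resS χ) =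
      (((Finset.univ : Finset (MulChar F ℂ)).filter (fun γ => detFun γ * χ = χ)).card : ℂ) := by
  rw [norm_resS_eq_sum hχ]
  have h1 : ∀ γ : MulChar F ℂ, classInner (detFun γ * χ) χ =
      if detFun γ * χ = χ then 1 else 0 :=
    fun γ => Helper2.classInner_irr (isIrr_detFun_mul hχ γ) hχ
  rw [Finset.sum_congr rfl (fun γ _ => h1 γ), Finset.sum_boole]

theorem detFun_one_mul (χ : Matrix.GeneralLinearGroup (Fin 2) F → ℂ) :
    detFun (1 : MulChar F ℂ) * χ = χ := by
  funext g
  rw [Pi.mul_apply]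
  unfold detFun
  rw [MulChar.one_apply_coe, one_mul]

/-- The restriction to `SL₂` of an irreducible character of `GL₂` has norm one or two. -/
theorem norm_resS {χ : Matrix.GeneralLinearGroup (Fin 2) F → ℂ}
    (hχ : IsIrrCharacter (Matrix.GeneralLinearGroup (Fin 2) F) χ) :
    classInner (resS χ) (resS χ) = 1 ∨ classInner (resS χ) (resS χ) = 2 := by
  classical
  haveI : Fintype (MulChar F ℂ) := Fintype.ofFinite _
  rw [norm_resS_eq_card hχ]
  have hle : ((Finset.univ : Finset (MulChar F ℂ)).filter (fun γ => detFun γ * χ = χ)).card ≤ 2 := by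
    refine (Finset.card_le_card ?_).trans (card_mulChar_sq_le (F := F))
    intro γ hγ
    rw [Finset.mem_filter] at hγ ⊢
    exact ⟨Finset.mem_univ _, sq_eq_one_of_detFun_mul_eq hχ hγ.2⟩
  have hge : 1 ≤ ((Finset.univ : Finset (MulChar F ℂ)).filter (fun γ => detFun γ * χ = χ)).card := by
    apply Finset.card_pos.mpr
    exact ⟨1, by rw [Finset.mem_filter]; exact ⟨Finset.mem_univ _, detFun_one_mul χ⟩⟩
  obtain ⟨n, hn⟩ : ∃ n, n =
      ((Finset.univ : Finset (MulChar F ℂ)).filter (fun γ => detFun γ * χ = χ)).card := ⟨_, rfl⟩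
  rw [← hn] at hle hge ⊢
  interval_cases n
  · left; norm_num
  · right; norm_num

/-- For `q` even the restriction to `SL₂` of an irreducible character of `GL₂` is irreducible. -/
theorem norm_resS_even (heven : Even (Fintype.card F))
    {χ : Matrix.GeneralLinearGroup (Fin 2) F → ℂ}
    (hχ : IsIrrCharacter (Matrix.GeneralLinearGroup (Fin 2) F) χ) :
    classInner (resS χ) (resS χ) = 1 := by
  classical
  haveI : Fintype (MulChar F ℂ) := Fintype.ofFinite _
  rw [norm_resS_eq_card hχ]
  have heq : (Finset.univ : Finset (MulChar F ℂ)).filter (fun γ => detFun γ * χ = χ) = {1} := by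
    ext γ
    rw [Finset.mem_filter, Finset.mem_singleton]
    constructor
    · intro hγ
      exact mulChar_sq_eq_one_of_even heven (sq_eq_one_of_detFun_mul_eq hχ hγ.2)
    · rintro rfl
      exact ⟨Finset.mem_univ _, detFun_one_mul χ⟩
  rw [heq, Finset.card_singleton, Nat.cast_one]

/-- If the restriction of an irreducible character of `GL₂` to `SL₂` is the sum of two distinct
irreducible characters, these are conjugate under `GL₂`. -/
theorem exists_conj_of_res_two {χ : Matrix.GeneralLinearGroup (Fin 2) F → ℂ}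
    (hχ : IsIrrCharacter (Matrix.GeneralLinearGroup (Fin 2) F) χ)
    {θ₁ θ₂ : Matrix.SpecialLinearGroup (Fin 2) F → ℂ}
    (h1 : IsIrrCharacter (Matrix.SpecialLinearGroup (Fin 2) F) θ₁)
    (h2 : IsIrrCharacter (Matrix.SpecialLinearGroup (Fin 2) F) θ₂) (hne : θ₁ ≠ θ₂)
    (hsum : resS χ = θ₁ + θ₂) :
    ∃ x : Matrix.GeneralLinearGroup (Fin 2) F, θ₁ ∘ cxS x = θ₂ := by
  classical
  have hχcf := Helper2.IsIrrCharacter.isClassFunction hχ
  have hΘinv : ∀ x : Matrix.GeneralLinearGroup (Fin 2) F, (θ₁ + θ₂) ∘ cxS x = θ₁ + θ₂ := by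
    intro x
    funext s
    rw [← hsum, Function.comp_apply, resS_apply, resS_apply, toGL_cxS]
    exact hχcf _ x
  by_contra hno
  rw [not_exists] at hno
  have hinv : ∀ x : Matrix.GeneralLinearGroup (Fin 2) F, θ₁ ∘ cxS x = θ₁ := by
    intro x
    have hψ := Helper6.isIrrCharacter_comp_mulEquiv (cxS x) h1
    have hψ' := Helper6.isIrrCharacter_comp_mulEquiv (cxS x) h2
    have hne' : θ₁ ∘ cxS x ≠ θ₂ ∘ cxS x := by
      intro h
      apply hne
      funext s
      have := congrFun h ((cxS x).symm s)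
      simpa using this
    have hs : θ₁ ∘ cxS x + θ₂ ∘ cxS x = θ₁ + θ₂ := hΘinv x
    have hi := congrArg (fun f => classInner (θ₁ ∘ cxS x) f) hs
    simp only [Helper2.classInner_add_right] at hi
    rw [Helper2.classInner_irr hψ hψ, if_pos rfl, Helper2.classInner_irr hψ hψ', if_neg hne',
      Helper2.classInner_irr hψ h1, Helper2.classInner_irr hψ h2] at hi
    by_contra hcon
    rw [if_neg hcon, if_neg (hno x)] at hi
    norm_num at hi
  haveI : Fintype (kerDet F) := Fintype.ofFinite _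
  have hϑ : IsIrrCharacter (kerDet F) (θ₁ ∘ (kerDetEquiv F).symm) :=
    Helper6.isIrrCharacter_comp_mulEquiv _ h1
  have hinvϑ : ∀ (g : Matrix.GeneralLinearGroup (Fin 2) F) (n : kerDet F),
      (θ₁ ∘ (kerDetEquiv F).symm) ⟨g * n * g⁻¹,
        (inferInstance : (kerDet F).Normal).conj_mem (n : Matrix.GeneralLinearGroup (Fin 2) F) n.2 g⟩ =
      (θ₁ ∘ (kerDetEquiv F).symm) n := by
    intro g n
    have h := congrFun (hinv g) ((kerDetEquiv F).symm n)
    rw [Function.comp_apply, cxS_apply, MulEquiv.apply_symm_apply] at h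
    exact h
  have hresΧ : (fun n : kerDet F => χ n) = (θ₁ + θ₂) ∘ (kerDetEquiv F).symm := by
    funext n
    rw [Function.comp_apply, ← hsum, resS_apply, toGL_kerDetEquiv_symm]
  have hin1 : classInner (θ₁ + θ₂) θ₁ = 1 := by
    rw [Helper2.classInner_add_left, Helper2.classInner_irr h1 h1, if_pos rfl,
      Helper2.classInner_irr h2 h1, if_neg (Ne.symm hne), add_zero]
  have hin2 : classInner (θ₁ + θ₂) θ₂ = 1 := by
    rw [Helper2.classInner_add_left, Helper2.classInner_irr h2 h2, if_pos rfl,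
      Helper2.classInner_irr h1 h2, if_neg hne, zero_add]
  have hcon : classInner (fun n : kerDet F => χ n) (θ₁ ∘ (kerDetEquiv F).symm) ≠ 0 := by
    rw [hresΧ, Helper6.classInner_comp_mulEquiv, hin1]
    exact one_ne_zero
  have hcl := Helper6.res_eq_smul_of_invariant (kerDet F) hϑ hinvϑ hχ hcon
  have h3 := congrArg (fun f => classInner f (θ₂ ∘ (kerDetEquiv F).symm)) hcl
  simp only [Helper2.classInner_smul_left] at h3
  rw [hresΧ, Helper6.classInner_comp_mulEquiv, Helper6.classInner_comp_mulEquiv,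
    Helper6.classInner_comp_mulEquiv, hin1, hin2,
    Helper2.classInner_irr h1 h2, if_neg hne, mul_zero] at h3
  exact one_ne_zero h3

/-- Constituents of a restriction of norm two have half the degree. -/
theorem res_two {χ : Matrix.GeneralLinearGroup (Fin 2) F → ℂ}
    (hχ : IsIrrCharacter (Matrix.GeneralLinearGroup (Fin 2) F) χ)
    (h2 : classInner (resS χ) (resS χ) = 2)
    {θ : Matrix.SpecialLinearGroup (Fin 2) F → ℂ}
    (hθ : IsIrrCharacter (Matrix.SpecialLinearGroup (Fin 2) F) θ)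
    (hne : classInner (resS χ) θ ≠ 0) : 2 * θ 1 = χ 1 := by
  obtain ⟨θ₁, θ₂, h1, h2', hne12, hsum⟩ :=
    char_norm_two (isCharacter_resS (Helper24.isCharacter_of_irr hχ)) h2
  obtain ⟨x, hx⟩ := exists_conj_of_res_two hχ h1 h2' hne12 hsum
  have hdeg : θ₂ 1 = θ₁ 1 := by
    rw [← hx, Function.comp_apply, map_one]
  have hχ1 : χ 1 = θ₁ 1 + θ₂ 1 := by
    have h := congrFun hsum 1
    rw [resS_one] at h
    exact h
  rw [hsum, Helper2.classInner_add_left, Helper2.classInner_irr h1 hθ,
    Helper2.classInner_irr h2' hθ] at hne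
  by_cases e1 : θ₁ = θ
  · rw [← e1, hχ1, hdeg]
    ring
  · by_cases e2 : θ₂ = θ
    · rw [← e2, hχ1, hdeg]
      ring
    · rw [if_neg e1, if_neg e2] at hne
      norm_num at hne

/-- The six kinds of irreducible characters of `SL₂(q)`. -/
theorem irrS_cases {θ : Matrix.SpecialLinearGroup (Fin 2) F → ℂ}
    (hθ : IsIrrCharacter (Matrix.SpecialLinearGroup (Fin 2) F) θ) :
    θ = (fun _ => (1 : ℂ)) ∨ θ = stS F ∨
    (∃ γ : MulChar F ℂ, γ ^ 2 ≠ 1 ∧ θ = rFun γ) ∨
    (∃ γ : MulChar F ℂ, γ ^ 2 = 1 ∧ γ ≠ 1 ∧ 2 * θ 1 = (Fintype.card F : ℂ) + 1 ∧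
      classInner (rFun γ) θ ≠ 0) ∨
    (∃ χ : Matrix.GeneralLinearGroup (Fin 2) F → ℂ,
      IsIrrCharacter (Matrix.GeneralLinearGroup (Fin 2) F) χ ∧ IsCusp χ ∧ θ = resS χ) ∨
    (∃ χ : Matrix.GeneralLinearGroup (Fin 2) F → ℂ,
      IsIrrCharacter (Matrix.GeneralLinearGroup (Fin 2) F) χ ∧ IsCusp χ ∧
      classInner (resS χ) (resS χ) = 2 ∧ 2 * θ 1 = (Fintype.card F : ℂ) - 1 ∧
      classInner (resS χ) θ ≠ 0) := by
  obtain ⟨χ, hχ, hne⟩ := exists_irr_over hθ
  rcases irr_cases hχ with ⟨α, rfl⟩ | ⟨α, rfl⟩ | ⟨α, β, hαβ, rfl⟩ | ⟨hc, h1, _⟩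
  · left
    rw [resS_detFun, Helper2.classInner_irr Helper2.isIrrCharacter_one_fun hθ] at hne
    by_contra hcon
    rw [if_neg (fun h => hcon h.symm)] at hne
    exact hne rfl
  · right; left
    rw [resS_stFun, Helper2.classInner_irr stS_spec.1 hθ] at hne
    by_contra hcon
    rw [if_neg (fun h => hcon h.symm)] at hne
    exact hne rfl
  · by_cases hsq : (α * β⁻¹) ^ 2 = 1
    · right; right; right; left
      have hγ1 : α * β⁻¹ ≠ 1 := fun h => hαβ (mul_inv_eq_one.mp h)
      have hnorm : classInner (resS (psFun α β)) (resS (psFun α β)) = 2 := by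
        rw [resS_psFun]
        exact norm_rFun_two hsq
      have h2 := res_two hχ hnorm hθ hne
      rw [psFun_one] at h2
      rw [resS_psFun] at hne
      exact ⟨α * β⁻¹, hsq, hγ1, h2, hne⟩
    · right; right; left
      rw [resS_psFun, Helper2.classInner_irr (isIrrCharacter_rFun hsq) hθ] at hne
      refine ⟨α * β⁻¹, hsq, ?_⟩
      by_contra hcon
      rw [if_neg (fun h => hcon h.symm)] at hne
      exact hne rfl
  · rcases norm_resS hχ with hn | hn
    · right; right; right; right; left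
      have hirr : IsIrrCharacter (Matrix.SpecialLinearGroup (Fin 2) F) (resS χ) :=
        Helper10.isIrr_of_char_norm_one (isCharacter_resS (Helper24.isCharacter_of_irr hχ)) hn
      rw [Helper2.classInner_irr hirr hθ] at hne
      refine ⟨χ, hχ, hc, ?_⟩
      by_contra hcon
      rw [if_neg (fun h => hcon h.symm)] at hne
      exact hne rfl
    · right; right; right; right; right
      have h2 := res_two hχ hn hθ hne
      rw [h1] at h2
      exact ⟨χ, hχ, hc, hn, h2, hne⟩

end Classify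

end Cfsg.Agent.Helper13
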