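import Mathlib
import Cfsg.Agent.Helper13.SL2Irr

/-!
# Irreducible characters of `SL₂(q)` of degree `q`, `q + 1`, `q - 1`
-/

set_option autoImplicit false

namespace Cfsg.Agent.Helper13

open Cfsg

section Deg

variable {F : Type*} [Field F] [Fintype F] [DecidableEq F]

theorem stS_apply (g : Matrix.SpecialLinearGroup (Fin 2) F) :
    stS F g = psFun 1 1 (Matrix.SpecialLinearGroup.toGL g) - 1 := by
  have h := resS_psFun (1 : MulChar F ℂ) 1
  rw [inv_one, mul_one] at h
  unfold stS
  rw [Pi.sub_apply, ← h, resS_apply]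

/-- An irreducible character of `SL₂(q)` of degree `q` is the Steinberg character. -/
theorem irr_deg_q {θ : Matrix.SpecialLinearGroup (Fin 2) F → ℂ}
    (hθ : IsIrrCharacter (Matrix.SpecialLinearGroup (Fin 2) F) θ)
    (hdeg : θ 1 = (Fintype.card F : ℂ)) : θ = stS F := by
  have hq2 : 2 ≤ Fintype.card F := Fintype.one_lt_card
  rcases irrS_cases hθ with rfl | h | ⟨γ, _, rfl⟩ | ⟨γ, _, _, h2, _⟩ | ⟨χ, hχ, hc, rfl⟩ |
    ⟨χ, hχ, hc, _, h2, _⟩
  · exfalso
    have hdeg' : (1 : ℂ) = (Fintype.card F : ℂ) := hdeg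
    have h' : ((1 : ℕ) : ℂ) = ((Fintype.card F : ℕ) : ℂ) := by push_cast; exact hdeg'
    have := Nat.cast_injective h'
    omega
  · exact h
  · exfalso
    rw [rFun_one_apply] at hdeg
    have h' : ((Fintype.card F + 1 : ℕ) : ℂ) = ((Fintype.card F : ℕ) : ℂ) := by
      push_cast; exact hdeg
    have := Nat.cast_injective h'
    omega
  · exfalso
    rw [hdeg] at h2
    have h' : ((2 * Fintype.card F : ℕ) : ℂ) = ((Fintype.card F + 1 : ℕ) : ℂ) := by
      push_cast; exact h2
    have := Nat.cast_injective h'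
    omega
  · exfalso
    rw [resS_one, (cusp_main.1 χ hχ hc).1] at hdeg
    have h' : ((Fintype.card F : ℕ) : ℂ) = ((Fintype.card F + 1 : ℕ) : ℂ) := by
      push_cast; linear_combination hdeg
    have := Nat.cast_injective h'
    omega
  · exfalso
    rw [hdeg] at h2
    have h' : ((2 * Fintype.card F + 1 : ℕ) : ℂ) = ((Fintype.card F : ℕ) : ℂ) := by
      push_cast; linear_combination h2
    have := Nat.cast_injective h'
    omega

/-- An irreducible character of `SL₂(q)` of degree `q + 1` is a principal series. -/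
theorem irr_deg_q_add_one {θ : Matrix.SpecialLinearGroup (Fin 2) F → ℂ}
    (hθ : IsIrrCharacter (Matrix.SpecialLinearGroup (Fin 2) F) θ)
    (hdeg : θ 1 = (Fintype.card F : ℂ) + 1) :
    ∃ γ : MulChar F ℂ, γ ^ 2 ≠ 1 ∧ θ = rFun γ := by
  have hq2 : 2 ≤ Fintype.card F := Fintype.one_lt_card
  rcases irrS_cases hθ with rfl | rfl | h | ⟨γ, _, _, h2, _⟩ | ⟨χ, hχ, hc, rfl⟩ |
    ⟨χ, hχ, hc, _, h2, _⟩
  · exfalso
    have hdeg' : (1 : ℂ) = (Fintype.card F : ℂ) + 1 := hdeg
    have h' : ((1 : ℕ) : ℂ) = ((Fintype.card F + 1 : ℕ) : ℂ) := by push_cast; exact hdeg'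
    have := Nat.cast_injective h'
    omega
  · exfalso
    rw [stS_one] at hdeg
    have h' : ((Fintype.card F : ℕ) : ℂ) = ((Fintype.card F + 1 : ℕ) : ℂ) := by
      push_cast; exact hdeg
    have := Nat.cast_injective h'
    omega
  · exact h
  · exfalso
    rw [hdeg] at h2
    have h' : ((2 * (Fintype.card F + 1) : ℕ) : ℂ) = ((Fintype.card F + 1 : ℕ) : ℂ) := by
      push_cast; exact h2
    have := Nat.cast_injective h'
    omega
  · exfalso
    rw [resS_one, (cusp_main.1 χ hχ hc).1] at hdeg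
    have h' : ((Fintype.card F : ℕ) : ℂ) = ((Fintype.card F + 2 : ℕ) : ℂ) := by
      push_cast; linear_combination hdeg
    have := Nat.cast_injective h'
    omega
  · exfalso
    rw [hdeg] at h2
    have h' : ((2 * Fintype.card F + 3 : ℕ) : ℂ) = ((Fintype.card F : ℕ) : ℂ) := by
      push_cast; linear_combination h2
    have := Nat.cast_injective h'
    omega

/-- For `q ≥ 4`, an irreducible character of `SL₂(q)` of degree `q - 1` is the restriction of
a cuspidal character of `GL₂(q)`. -/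
theorem irr_deg_q_sub_one (hq : 4 ≤ Fintype.card F)
    {θ : Matrix.SpecialLinearGroup (Fin 2) F → ℂ}
    (hθ : IsIrrCharacter (Matrix.SpecialLinearGroup (Fin 2) F) θ)
    (hdeg : θ 1 = (Fintype.card F : ℂ) - 1) :
    ∃ χ : Matrix.GeneralLinearGroup (Fin 2) F → ℂ,
      IsIrrCharacter (Matrix.GeneralLinearGroup (Fin 2) F) χ ∧ IsCusp χ ∧ θ = resS χ := by
  rcases irrS_cases hθ with rfl | rfl | ⟨γ, _, rfl⟩ | ⟨γ, _, _, h2, _⟩ | h |
    ⟨χ, hχ, hc, _, h2, _⟩
  · exfalso
    have hdeg' : (1 : ℂ) = (Fintype.card F : ℂ) - 1 := hdeg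
    have h' : ((2 : ℕ) : ℂ) = ((Fintype.card F : ℕ) : ℂ) := by
      push_cast; linear_combination hdeg'
    have := Nat.cast_injective h'
    omega
  · exfalso
    rw [stS_one] at hdeg
    have h' : ((Fintype.card F + 1 : ℕ) : ℂ) = ((Fintype.card F : ℕ) : ℂ) := by
      push_cast; linear_combination hdeg
    have := Nat.cast_injective h'
    omega
  · exfalso
    rw [rFun_one_apply] at hdeg
    have h' : ((Fintype.card F + 2 : ℕ) : ℂ) = ((Fintype.card F : ℕ) : ℂ) := by
      push_cast; linear_combination hdeg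
    have := Nat.cast_injective h'
    omega
  · exfalso
    rw [hdeg] at h2
    have h' : ((2 * Fintype.card F : ℕ) : ℂ) = ((Fintype.card F + 3 : ℕ) : ℂ) := by
      push_cast; linear_combination h2
    have := Nat.cast_injective h'
    omega
  · exact h
  · exfalso
    rw [hdeg] at h2
    have h' : ((2 * Fintype.card F : ℕ) : ℂ) = ((Fintype.card F + 1 : ℕ) : ℂ) := by
      push_cast; linear_combination h2
    have := Nat.cast_injective h'
    omega

end Deg

end Cfsg.Agent.Helper13
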