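import Mathlib
import Cfsg.Agent.Helper13.SL2Deg

/-!
# Counting the irreducible characters of `SL₂(q)` by degree
-/

set_option autoImplicit false

namespace Cfsg.Agent.Helper13

open Cfsg

section Generic

/-- Counting irreducible characters by degree: the class equation and the sum of squares. -/
theorem count_by_degree {G : Type*} [Group G] [Fintype G] (D : Finset ℕ)
    (hD : ∀ χ : G → ℂ, IsIrrCharacter G χ → ∃ d ∈ D, χ 1 = (d : ℂ)) :
    ∑ d ∈ D, Nat.card {χ : IrrCharacter G // (χ : G → ℂ) 1 = (d : ℂ)} =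
      Nat.card (ConjClasses G) ∧
    ∑ d ∈ D, Nat.card {χ : IrrCharacter G // (χ : G → ℂ) 1 = (d : ℂ)} * d ^ 2 = Nat.card G := by
  classical
  haveI := Helper24.finite_irrCharacter (G := G)
  haveI : Fintype (IrrCharacter G) := Fintype.ofFinite _
  choose deg hdeg using fun χ : IrrCharacter G => hD χ.1 χ.2
  have hcard : ∀ d : ℕ, Nat.card {χ : IrrCharacter G // (χ : G → ℂ) 1 = (d : ℂ)} =
      (Finset.univ.filter (fun χ : IrrCharacter G => deg χ = d)).card := by
    intro d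
    rw [Nat.card_eq_fintype_card, Fintype.card_subtype]
    congr 1
    ext χ
    simp only [Finset.mem_filter, Finset.mem_univ, true_and]
    rw [(hdeg χ).2]
    exact Nat.cast_inj
  constructor
  · rw [← Helper2.card_irrCharacter, Nat.card_eq_fintype_card, ← Finset.card_univ,
      Finset.card_eq_sum_card_fiberwise (f := deg) (t := D) (fun χ _ => (hdeg χ).1)]
    exact Finset.sum_congr rfl (fun d _ => hcard d)
  · have h0 := Finset.sum_fiberwise_of_maps_to (s := (Finset.univ : Finset (IrrCharacter G)))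
      (g := deg) (t := D) (fun χ _ => (hdeg χ).1) (fun χ => (deg χ) ^ 2)
    have h1 : ∑ d ∈ D, Nat.card {χ : IrrCharacter G // (χ : G → ℂ) 1 = (d : ℂ)} * d ^ 2 =
        ∑ χ : IrrCharacter G, (deg χ) ^ 2 := by
      rw [← h0]
      refine Finset.sum_congr rfl (fun d _ => ?_)
      rw [hcard d, Finset.card_eq_sum_ones, Finset.sum_mul]
      refine Finset.sum_congr rfl (fun χ hχ => ?_)
      rw [(Finset.mem_filter.mp hχ).2, one_mul]
    rw [h1]
    have h2 := Helper2.sum_degree_sq (G := G)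
    have h3 : ((∑ χ : IrrCharacter G, (deg χ) ^ 2 : ℕ) : ℂ) = (Nat.card G : ℂ) := by
      rw [← h2, Nat.cast_sum]
      refine Finset.sum_congr rfl (fun χ _ => ?_)
      rw [(hdeg χ).2]
      push_cast
      ring
    exact_mod_cast h3

/-- A surjection whose fibres are the orbits of a fixed-point-free involution-like map. -/
theorem card_eq_two_mul_of_fibers {α β : Type*} [Fintype α] [Fintype β] [DecidableEq α]
    [DecidableEq β] (f : α → β) (hf : Function.Surjective f) (inv : α → α)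
    (hinv : ∀ a, inv a ≠ a) (hfib : ∀ a a', f a = f a' ↔ a = a' ∨ a = inv a') :
    Fintype.card α = 2 * Fintype.card β := by
  rw [← Finset.card_univ, Finset.card_eq_sum_card_fiberwise (f := f) (t := Finset.univ)
    (fun a _ => Finset.mem_univ _)]
  have h : ∀ b ∈ (Finset.univ : Finset β),
      ((Finset.univ : Finset α).filter (fun a => f a = b)).card = 2 := by
    intro b _
    obtain ⟨a₀, rfl⟩ := hf b
    have : (Finset.univ : Finset α).filter (fun a => f a = f a₀) = {a₀, inv a₀} := by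
      ext a
      simp only [Finset.mem_filter, Finset.mem_univ, true_and, Finset.mem_insert,
        Finset.mem_singleton]
      exact hfib a a₀
    rw [this, Finset.card_pair (Ne.symm (hinv a₀))]
  rw [Finset.sum_congr rfl h, Finset.sum_const, Finset.card_univ, smul_eq_mul, mul_comm]

end Generic

/-- The number of irreducible characters of `SL₂(F)` of degree `d`. -/
noncomputable def cntS (F : Type*) [Field F] (d : ℂ) : ℕ :=
  Nat.card {χ : IrrCharacter (Matrix.SpecialLinearGroup (Fin 2) F) //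
    (χ : Matrix.SpecialLinearGroup (Fin 2) F → ℂ) 1 = d}

section Count

variable {F : Type*} [Field F] [Fintype F] [DecidableEq F]

/-- For `q ≥ 4` the only irreducible character of `SL₂(q)` of degree one is trivial. -/
theorem irr_deg_one (hq : 4 ≤ Fintype.card F) {θ : Matrix.SpecialLinearGroup (Fin 2) F → ℂ}
    (hθ : IsIrrCharacter (Matrix.SpecialLinearGroup (Fin 2) F) θ) (hdeg : θ 1 = 1) :
    θ = fun _ => (1 : ℂ) := by
  rcases irrS_cases hθ with h | rfl | ⟨γ, _, rfl⟩ | ⟨γ, _, _, h2, _⟩ | ⟨χ, hχ, hc, rfl⟩ |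
    ⟨χ, hχ, hc, _, h2, _⟩
  · exact h
  · exfalso
    rw [stS_one] at hdeg
    have h' : ((Fintype.card F : ℕ) : ℂ) = ((1 : ℕ) : ℂ) := by push_cast; exact hdeg
    have := Nat.cast_injective h'
    omega
  · exfalso
    rw [rFun_one_apply] at hdeg
    have h' : ((Fintype.card F + 1 : ℕ) : ℂ) = ((1 : ℕ) : ℂ) := by push_cast; exact hdeg
    have := Nat.cast_injective h'
    omega
  · exfalso
    rw [hdeg] at h2
    have h' : ((2 : ℕ) : ℂ) = ((Fintype.card F + 1 : ℕ) : ℂ) := by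
      push_cast; linear_combination h2
    have := Nat.cast_injective h'
    omega
  · exfalso
    rw [resS_one, (cusp_main.1 χ hχ hc).1] at hdeg
    have h' : ((Fintype.card F : ℕ) : ℂ) = ((2 : ℕ) : ℂ) := by
      push_cast; linear_combination hdeg
    have := Nat.cast_injective h'
    omega
  · exfalso
    rw [hdeg] at h2
    have h' : ((3 : ℕ) : ℂ) = ((Fintype.card F : ℕ) : ℂ) := by
      push_cast; linear_combination h2
    have := Nat.cast_injective h'
    omega

theorem card_deg_one (hq : 4 ≤ Fintype.card F) : cntS F 1 = 1 := by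
  unfold cntS
  rw [Nat.card_eq_one_iff_unique]
  refine ⟨⟨fun a b => ?_⟩, ⟨⟨⟨fun _ => 1, Helper2.isIrrCharacter_one_fun⟩, rfl⟩⟩⟩
  apply Subtype.ext
  apply Subtype.ext
  rw [irr_deg_one hq a.1.2 a.2, irr_deg_one hq b.1.2 b.2]

theorem card_deg_q : cntS F (Fintype.card F : ℂ) = 1 := by
  unfold cntS
  rw [Nat.card_eq_one_iff_unique]
  refine ⟨⟨fun a b => ?_⟩, ⟨⟨⟨stS F, stS_spec.1⟩, stS_one⟩⟩⟩
  apply Subtype.ext
  apply Subtype.ext
  rw [irr_deg_q a.1.2 a.2, irr_deg_q b.1.2 b.2]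

/-- The degrees of the irreducible characters of `SL₂(q)`, `q` odd. -/
theorem deg_list_odd (hodd : Odd (Fintype.card F))
    {θ : Matrix.SpecialLinearGroup (Fin 2) F → ℂ}
    (hθ : IsIrrCharacter (Matrix.SpecialLinearGroup (Fin 2) F) θ) :
    θ 1 = 1 ∨ θ 1 = (Fintype.card F : ℂ) ∨ θ 1 = (Fintype.card F : ℂ) + 1 ∨
    θ 1 = (Fintype.card F : ℂ) - 1 ∨ θ 1 = (((Fintype.card F + 1) / 2 : ℕ) : ℂ) ∨
    θ 1 = (((Fintype.card F - 1) / 2 : ℕ) : ℂ) := by
  obtain ⟨k, hk⟩ := hodd
  have h1 : (Fintype.card F + 1) / 2 = k + 1 := by omega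
  have h2 : (Fintype.card F - 1) / 2 = k := by omega
  have hqC : (Fintype.card F : ℂ) = 2 * (k : ℂ) + 1 := by rw [hk]; push_cast; ring
  rcases irrS_cases hθ with rfl | rfl | ⟨γ, _, rfl⟩ | ⟨γ, _, _, h, _⟩ | ⟨χ, hχ, hc, rfl⟩ |
    ⟨χ, hχ, hc, _, h, _⟩
  · left; rfl
  · right; left; exact stS_one
  · right; right; left; exact rFun_one_apply γ
  · right; right; right; right; left
    rw [h1]
    push_cast
    rw [hqC] at h
    linear_combination h / 2
  · right; right; right; left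
    rw [resS_one]
    exact (cusp_main.1 χ hχ hc).1
  · right; right; right; right; right
    rw [h2]
    rw [hqC] at h
    linear_combination h / 2

/-- The degrees of the irreducible characters of `SL₂(q)`, `q` even. -/
theorem deg_list_even (heven : Even (Fintype.card F))
    {θ : Matrix.SpecialLinearGroup (Fin 2) F → ℂ}
    (hθ : IsIrrCharacter (Matrix.SpecialLinearGroup (Fin 2) F) θ) :
    θ 1 = 1 ∨ θ 1 = (Fintype.card F : ℂ) - 1 ∨ θ 1 = (Fintype.card F : ℂ) ∨
    θ 1 = (Fintype.card F : ℂ) + 1 := by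
  rcases irrS_cases hθ with rfl | rfl | ⟨γ, _, rfl⟩ | ⟨γ, h1, h2, _, _⟩ | ⟨χ, hχ, hc, rfl⟩ |
    ⟨χ, hχ, hc, h, _, _⟩
  · left; rfl
  · right; right; left; exact stS_one
  · right; right; right; exact rFun_one_apply γ
  · exact absurd (mulChar_sq_eq_one_of_even heven h1) h2
  · right; left
    rw [resS_one]
    exact (cusp_main.1 χ hχ hc).1
  · exfalso
    rw [norm_resS_even heven hχ] at h
    norm_num at h

/-- Twice the number of irreducible characters of degree `q + 1` is the number of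
multiplicative characters of order greater than two. -/
theorem two_mul_cnt_q_add_one :
    2 * cntS F ((Fintype.card F : ℂ) + 1) = Nat.card {γ : MulChar F ℂ // γ ^ 2 ≠ 1} := by
  classical
  haveI := Helper24.finite_irrCharacter (G := Matrix.SpecialLinearGroup (Fin 2) F)
  haveI : Fintype (IrrCharacter (Matrix.SpecialLinearGroup (Fin 2) F)) := Fintype.ofFinite _
  haveI : Fintype (MulChar F ℂ) := Fintype.ofFinite _
  unfold cntS
  rw [Nat.card_eq_fintype_card, Nat.card_eq_fintype_card]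
  symm
  apply card_eq_two_mul_of_fibers
    (fun γ : {γ : MulChar F ℂ // γ ^ 2 ≠ 1} =>
      (⟨⟨rFun γ.1, isIrrCharacter_rFun γ.2⟩, rFun_one_apply γ.1⟩ :
        {χ : IrrCharacter (Matrix.SpecialLinearGroup (Fin 2) F) //
          (χ : Matrix.SpecialLinearGroup (Fin 2) F → ℂ) 1 = (Fintype.card F : ℂ) + 1}))
    ?_ (fun γ => ⟨γ.1⁻¹, by
      intro h
      apply γ.2
      rw [inv_pow, inv_eq_one] at h
      exact h⟩) ?_ ?_
  · intro χ
    obtain ⟨γ, hγ, h⟩ := irr_deg_q_add_one χ.1.2 χ.2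
    exact ⟨⟨γ, hγ⟩, Subtype.ext (Subtype.ext h.symm)⟩
  · intro γ h
    have h1 : γ.1⁻¹ = γ.1 := congrArg Subtype.val h
    exact γ.2 ((sq_eq_one_iff_eq_inv γ.1).mp h1.symm)
  · intro a a'
    constructor
    · intro h
      have h1 : rFun a.1 = rFun a'.1 := congrArg (fun x => x.1.1) h
      rcases (rFun_eq_iff a.1 a'.1).mp h1 with h2 | h2
      · exact Or.inl (Subtype.ext h2)
      · exact Or.inr (Subtype.ext h2)
    · rintro (h | h)
      · rw [h]
      · apply Subtype.ext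
        apply Subtype.ext
        have h2 : a.1 = a'.1⁻¹ := congrArg Subtype.val h
        exact (rFun_eq_iff a.1 a'.1).mpr (Or.inr h2)

theorem card_sq_ne_one_odd (hodd : Odd (Fintype.card F)) :
    Nat.card {γ : MulChar F ℂ // γ ^ 2 ≠ 1} = Fintype.card F - 3 := by
  classical
  haveI : Fintype (MulChar F ℂ) := Fintype.ofFinite _
  have h1 : Fintype.card {γ : MulChar F ℂ // γ ^ 2 = 1} = 2 := by
    rw [Fintype.card_subtype]
    obtain ⟨ε, hε, hε1⟩ := exists_mulChar_order_two hodd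
    have : Finset.univ.filter (fun γ : MulChar F ℂ => γ ^ 2 = 1) = {1, ε} := by
      ext γ
      simp only [Finset.mem_filter, Finset.mem_univ, true_and, Finset.mem_insert,
        Finset.mem_singleton]
      constructor
      · intro h
        by_cases h1 : γ = 1
        · exact Or.inl h1
        · exact Or.inr (mulChar_order_two_unique h h1 hε hε1)
      · rintro (rfl | rfl)
        · exact one_pow 2
        · exact hε
    rw [this, Finset.card_pair (Ne.symm hε1)]
  have h2 : Fintype.card (MulChar F ℂ) = Fintype.card F - 1 := by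
    rw [← Nat.card_eq_fintype_card, card_mulChar]
  have h3 := Fintype.card_subtype_compl (fun γ : MulChar F ℂ => γ ^ 2 = 1)
  rw [h1, h2] at h3
  have h3' : Nat.card {γ : MulChar F ℂ // ¬ γ ^ 2 = 1} = Fintype.card F - 1 - 2 := by
    rw [Nat.card_eq_fintype_card]
    exact h3
  exact h3'.trans (by omega)

/-- For `q ≥ 5` odd, an irreducible character of degree `(q + 1) / 2` is a constituent of the
principal series of the character of order two. -/
theorem irr_deg_half_add (hodd : Odd (Fintype.card F)) (hq : 5 ≤ Fintype.card F)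
    {θ : Matrix.SpecialLinearGroup (Fin 2) F → ℂ}
    (hθ : IsIrrCharacter (Matrix.SpecialLinearGroup (Fin 2) F) θ)
    (hdeg : θ 1 = (((Fintype.card F + 1) / 2 : ℕ) : ℂ)) :
    ∃ γ : MulChar F ℂ, γ ^ 2 = 1 ∧ γ ≠ 1 ∧ classInner (rFun γ) θ ≠ 0 := by
  obtain ⟨k, hk⟩ := hodd
  have hhalf : (Fintype.card F + 1) / 2 = k + 1 := by omega
  rw [hhalf] at hdeg
  have hqC : (Fintype.card F : ℂ) = 2 * (k : ℂ) + 1 := by rw [hk]; push_cast; ring
  have hk2 : 2 ≤ k := by omega
  rcases irrS_cases hθ with rfl | rfl | ⟨γ, _, rfl⟩ | ⟨γ, h1, h2, _, h4⟩ | ⟨χ, hχ, hc, rfl⟩ |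
    ⟨χ, hχ, hc, _, h2, _⟩
  · exfalso
    have hdeg' : (1 : ℂ) = ((k + 1 : ℕ) : ℂ) := hdeg
    have h' : ((1 : ℕ) : ℂ) = ((k + 1 : ℕ) : ℂ) := by
      push_cast at hdeg' ⊢; linear_combination hdeg'
    have := Nat.cast_injective h'
    omega
  · exfalso
    rw [stS_one, hqC] at hdeg
    have h' : ((2 * k + 1 : ℕ) : ℂ) = ((k + 1 : ℕ) : ℂ) := by
      push_cast at hdeg ⊢; linear_combination hdeg
    have := Nat.cast_injective h'
    omega
  · exfalso
    rw [rFun_one_apply, hqC] at hdeg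
    have h' : ((2 * k + 2 : ℕ) : ℂ) = ((k + 1 : ℕ) : ℂ) := by
      push_cast at hdeg ⊢; linear_combination hdeg
    have := Nat.cast_injective h'
    omega
  · exact ⟨γ, h1, h2, h4⟩
  · exfalso
    rw [resS_one, (cusp_main.1 χ hχ hc).1, hqC] at hdeg
    have h' : ((2 * k : ℕ) : ℂ) = ((k + 1 : ℕ) : ℂ) := by
      push_cast at hdeg ⊢; linear_combination hdeg
    have := Nat.cast_injective h'
    omega
  · exfalso
    rw [hdeg, hqC] at h2
    have h' : ((2 * (k + 1) : ℕ) : ℂ) = ((2 * k : ℕ) : ℂ) := by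
      push_cast at h2 ⊢; linear_combination h2
    have := Nat.cast_injective h'
    omega

theorem card_deg_half_add (hodd : Odd (Fintype.card F)) (hq : 5 ≤ Fintype.card F) :
    cntS F (((Fintype.card F + 1) / 2 : ℕ) : ℂ) = 2 := by
  classical
  haveI := Helper24.finite_irrCharacter (G := Matrix.SpecialLinearGroup (Fin 2) F)
  haveI : Fintype (IrrCharacter (Matrix.SpecialLinearGroup (Fin 2) F)) := Fintype.ofFinite _
  obtain ⟨k, hk⟩ := hodd
  have hodd' : Odd (Fintype.card F) := ⟨k, hk⟩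
  have hhalf : (Fintype.card F + 1) / 2 = k + 1 := by omega
  have hqC : (Fintype.card F : ℂ) = 2 * (k : ℂ) + 1 := by rw [hk]; push_cast; ring
  obtain ⟨ε, hε, hε1⟩ := exists_mulChar_order_two hodd'
  have hnorm := norm_rFun_two hε
  obtain ⟨θ₁, θ₂, h1, h2, hne, hsum⟩ := char_norm_two (isCharacter_rFun ε) hnorm
  have hps : IsIrrCharacter (Matrix.GeneralLinearGroup (Fin 2) F) (psFun ε 1) :=
    isIrrCharacter_psFun hε1
  have hres : resS (psFun ε 1) = rFun ε := by rw [resS_psFun, inv_one, mul_one]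
  have hnorm' : classInner (resS (psFun ε 1)) (resS (psFun ε 1)) = 2 := by
    rw [hres]; exact hnorm
  have hin1 : classInner (resS (psFun ε 1)) θ₁ ≠ 0 := by
    rw [hres, hsum, Helper2.classInner_add_left, Helper2.classInner_irr h1 h1, if_pos rfl,
      Helper2.classInner_irr h2 h1, if_neg (Ne.symm hne)]
    norm_num
  have hin2 : classInner (resS (psFun ε 1)) θ₂ ≠ 0 := by
    rw [hres, hsum, Helper2.classInner_add_left, Helper2.classInner_irr h1 h2, if_neg hne,
      Helper2.classInner_irr h2 h2, if_pos rfl]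
    norm_num
  have hd1 := res_two hps hnorm' h1 hin1
  have hd2 := res_two hps hnorm' h2 hin2
  rw [psFun_one] at hd1 hd2
  have hdeg : ∀ θ : Matrix.SpecialLinearGroup (Fin 2) F → ℂ,
      2 * θ 1 = (Fintype.card F : ℂ) + 1 → θ 1 = (((Fintype.card F + 1) / 2 : ℕ) : ℂ) := by
    intro θ h
    rw [hhalf]
    push_cast
    rw [hqC] at h
    linear_combination h / 2
  unfold cntS
  rw [Nat.card_eq_fintype_card, Fintype.card_subtype]
  have hset : Finset.univ.filter (fun χ : IrrCharacter (Matrix.SpecialLinearGroup (Fin 2) F) =>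
      (χ : Matrix.SpecialLinearGroup (Fin 2) F → ℂ) 1 = (((Fintype.card F + 1) / 2 : ℕ) : ℂ)) =
      {⟨θ₁, h1⟩, ⟨θ₂, h2⟩} := by
    ext χ
    simp only [Finset.mem_filter, Finset.mem_univ, true_and, Finset.mem_insert,
      Finset.mem_singleton]
    constructor
    · intro hχ
      obtain ⟨γ, hγ, hγ1, hin⟩ := irr_deg_half_add hodd' hq χ.2 hχ
      have hγε : γ = ε := mulChar_order_two_unique hγ hγ1 hε hε1
      rw [hγε, hsum, Helper2.classInner_add_left, Helper2.classInner_irr h1 χ.2,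
        Helper2.classInner_irr h2 χ.2] at hin
      by_cases e1 : θ₁ = χ.1
      · left; exact Subtype.ext e1.symm
      · by_cases e2 : θ₂ = χ.1
        · right; exact Subtype.ext e2.symm
        · rw [if_neg e1, if_neg e2] at hin
          norm_num at hin
    · rintro (rfl | rfl)
      · exact hdeg θ₁ hd1
      · exact hdeg θ₂ hd2
  rw [hset, Finset.card_pair]
  intro h
  exact hne (congrArg Subtype.val h)

/-- The number of irreducible characters of `SL₂(q)` of each degree, `q ≥ 4` even. -/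
theorem counts_even (heven : Even (Fintype.card F)) (hq : 4 ≤ Fintype.card F)
    (hcl : Nat.card (ConjClasses (Matrix.SpecialLinearGroup (Fin 2) F)) = Fintype.card F + 1) :
    cntS F 1 = 1 ∧ cntS F (Fintype.card F : ℂ) = 1 ∧
    cntS F ((Fintype.card F : ℂ) + 1) = (Fintype.card F - 2) / 2 ∧
    cntS F ((Fintype.card F : ℂ) - 1) = Fintype.card F / 2 := by
  classical
  obtain ⟨n, hn⟩ : ∃ n, Fintype.card F = n + 4 := ⟨Fintype.card F - 4, by omega⟩
  have c1 := card_deg_one (F := F) hq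
  have cq := card_deg_q (F := F)
  have e1 : ((1 : ℕ) : ℂ) = 1 := Nat.cast_one
  have e3 : ((n + 3 : ℕ) : ℂ) = (Fintype.card F : ℂ) - 1 := by rw [hn]; push_cast; ring
  have e4 : ((n + 4 : ℕ) : ℂ) = (Fintype.card F : ℂ) := by rw [hn]
  have e5 : ((n + 5 : ℕ) : ℂ) = (Fintype.card F : ℂ) + 1 := by rw [hn]; push_cast; ring
  obtain ⟨hA, hB⟩ := count_by_degree (G := Matrix.SpecialLinearGroup (Fin 2) F)
    ({1, n + 3, n + 4, n + 5} : Finset ℕ) (by
      intro χ hχ
      rcases deg_list_even heven hχ with h | h | h | h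
      · exact ⟨1, by simp, by rw [h, e1]⟩
      · exact ⟨n + 3, by simp, by rw [h, e3]⟩
      · exact ⟨n + 4, by simp, by rw [h, e4]⟩
      · exact ⟨n + 5, by simp, by rw [h, e5]⟩)
  have m1 : (1 : ℕ) ∉ ({n + 3, n + 4, n + 5} : Finset ℕ) := by
    simp only [Finset.mem_insert, Finset.mem_singleton]; omega
  have m2 : n + 3 ∉ ({n + 4, n + 5} : Finset ℕ) := by
    simp only [Finset.mem_insert, Finset.mem_singleton]; omega
  have m3 : n + 4 ≠ n + 5 := by omega
  rw [Finset.sum_insert m1, Finset.sum_insert m2, Finset.sum_pair m3] at hA hB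
  rw [e1, e3, e4, e5] at hA hB
  unfold cntS at c1 cq ⊢
  obtain ⟨x, hx⟩ : ∃ x, x = Nat.card {χ : IrrCharacter (Matrix.SpecialLinearGroup (Fin 2) F) //
    (χ : Matrix.SpecialLinearGroup (Fin 2) F → ℂ) 1 = (Fintype.card F : ℂ) + 1} := ⟨_, rfl⟩
  obtain ⟨y, hy⟩ : ∃ y, y = Nat.card {χ : IrrCharacter (Matrix.SpecialLinearGroup (Fin 2) F) //
    (χ : Matrix.SpecialLinearGroup (Fin 2) F → ℂ) 1 = (Fintype.card F : ℂ) - 1} := ⟨_, rfl⟩
  rw [c1, cq, ← hx, ← hy, hcl] at hA
  rw [c1, cq, ← hx, ← hy, S2301.card_SL2] at hB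
  rw [c1, cq, ← hx, ← hy]
  rw [hn] at hA hB ⊢
  have hxy : y + x = n + 3 := by omega
  have hsq : (n + 4) ^ 2 - 1 = n ^ 2 + 8 * n + 15 := by
    have : (n + 4) ^ 2 = n ^ 2 + 8 * n + 16 := by ring
    omega
  rw [hsq] at hB
  have hBz : (1 : ℤ) * 1 ^ 2 + (y * (n + 3) ^ 2 + (1 * (n + 4) ^ 2 + x * (n + 5) ^ 2)) =
      (n + 4) * (n ^ 2 + 8 * n + 15) := by exact_mod_cast hB
  have hAz : (y : ℤ) + x = n + 3 := by exact_mod_cast hxy
  have h5 : (2 * ((n : ℤ) + 4)) * (2 * x - (n + 2)) = 0 := by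
    linear_combination hBz - ((n : ℤ) + 3) ^ 2 * hAz
  have hn0 : (2 * ((n : ℤ) + 4)) ≠ 0 := by positivity
  have h6 : (2 : ℤ) * x = n + 2 := by
    rcases mul_eq_zero.mp h5 with h | h
    · exact absurd h hn0
    · linear_combination h
  have h7 : 2 * x = n + 2 := by exact_mod_cast h6
  refine ⟨rfl, rfl, ?_, ?_⟩ <;> omega

/-- The number of irreducible characters of `SL₂(q)` of each degree, `q ≥ 5` odd. -/
theorem counts_odd (hodd : Odd (Fintype.card F)) (hq : 5 ≤ Fintype.card F)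
    (hcl : Nat.card (ConjClasses (Matrix.SpecialLinearGroup (Fin 2) F)) = Fintype.card F + 4) :
    cntS F 1 = 1 ∧ cntS F (Fintype.card F : ℂ) = 1 ∧
    cntS F ((Fintype.card F : ℂ) + 1) = (Fintype.card F - 3) / 2 ∧
    cntS F ((Fintype.card F : ℂ) - 1) = (Fintype.card F - 1) / 2 ∧
    cntS F (((Fintype.card F + 1) / 2 : ℕ) : ℂ) = 2 ∧
    cntS F (((Fintype.card F - 1) / 2 : ℕ) : ℂ) = 2 := by
  classical
  obtain ⟨k, hk⟩ := hodd
  have hk2 : 2 ≤ k := by omega
  have hodd' : Odd (Fintype.card F) := ⟨k, hk⟩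
  have c1 := card_deg_one (F := F) (by omega)
  have cq := card_deg_q (F := F)
  have cx := two_mul_cnt_q_add_one (F := F)
  rw [card_sq_ne_one_odd hodd'] at cx
  have cz := card_deg_half_add hodd' hq
  have e1 : ((1 : ℕ) : ℂ) = 1 := Nat.cast_one
  have ek : ((k : ℕ) : ℂ) = (((Fintype.card F - 1) / 2 : ℕ) : ℂ) := by
    congr 1; omega
  have ek1 : ((k + 1 : ℕ) : ℂ) = (((Fintype.card F + 1) / 2 : ℕ) : ℂ) := by
    congr 1; omega
  have e2k : ((2 * k : ℕ) : ℂ) = (Fintype.card F : ℂ) - 1 := by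
    rw [hk]; push_cast; ring
  have e2k1 : ((2 * k + 1 : ℕ) : ℂ) = (Fintype.card F : ℂ) := by rw [hk]
  have e2k2 : ((2 * k + 2 : ℕ) : ℂ) = (Fintype.card F : ℂ) + 1 := by
    rw [hk]; push_cast; ring
  obtain ⟨hA, hB⟩ := count_by_degree (G := Matrix.SpecialLinearGroup (Fin 2) F)
    ({1, k, k + 1, 2 * k, 2 * k + 1, 2 * k + 2} : Finset ℕ) (by
      intro χ hχ
      rcases deg_list_odd hodd' hχ with h | h | h | h | h | h
      · exact ⟨1, by simp, by rw [h, e1]⟩
      · exact ⟨2 * k + 1, by simp, by rw [h, e2k1]⟩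
      · exact ⟨2 * k + 2, by simp, by rw [h, e2k2]⟩
      · exact ⟨2 * k, by simp, by rw [h, e2k]⟩
      · exact ⟨k + 1, by simp, by rw [h, ek1]⟩
      · exact ⟨k, by simp, by rw [h, ek]⟩)
  have m1 : (1 : ℕ) ∉ ({k, k + 1, 2 * k, 2 * k + 1, 2 * k + 2} : Finset ℕ) := by
    simp only [Finset.mem_insert, Finset.mem_singleton]; omega
  have m2 : k ∉ ({k + 1, 2 * k, 2 * k + 1, 2 * k + 2} : Finset ℕ) := by
    simp only [Finset.mem_insert, Finset.mem_singleton]; omega
  have m3 : k + 1 ∉ ({2 * k, 2 * k + 1, 2 * k + 2} : Finset ℕ) := by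
    simp only [Finset.mem_insert, Finset.mem_singleton]; omega
  have m4 : 2 * k ∉ ({2 * k + 1, 2 * k + 2} : Finset ℕ) := by
    simp only [Finset.mem_insert, Finset.mem_singleton]; omega
  have m5 : 2 * k + 1 ≠ 2 * k + 2 := by omega
  rw [Finset.sum_insert m1, Finset.sum_insert m2, Finset.sum_insert m3, Finset.sum_insert m4,
    Finset.sum_pair m5] at hA hB
  rw [e1, ek, ek1, e2k, e2k1, e2k2] at hA hB
  unfold cntS at c1 cq cx cz ⊢
  obtain ⟨x, hx⟩ : ∃ x, x = Nat.card {χ : IrrCharacter (Matrix.SpecialLinearGroup (Fin 2) F) //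
    (χ : Matrix.SpecialLinearGroup (Fin 2) F → ℂ) 1 = (Fintype.card F : ℂ) + 1} := ⟨_, rfl⟩
  obtain ⟨y, hy⟩ : ∃ y, y = Nat.card {χ : IrrCharacter (Matrix.SpecialLinearGroup (Fin 2) F) //
    (χ : Matrix.SpecialLinearGroup (Fin 2) F → ℂ) 1 = (Fintype.card F : ℂ) - 1} := ⟨_, rfl⟩
  obtain ⟨w, hw⟩ : ∃ w, w = Nat.card {χ : IrrCharacter (Matrix.SpecialLinearGroup (Fin 2) F) //
    (χ : Matrix.SpecialLinearGroup (Fin 2) F → ℂ) 1 = (((Fintype.card F - 1) / 2 : ℕ) : ℂ)} :=
    ⟨_, rfl⟩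
  rw [← hx] at cx
  rw [c1, cq, cz, ← hx, ← hy, ← hw, hcl] at hA
  rw [c1, cq, cz, ← hx, ← hy, ← hw, S2301.card_SL2] at hB
  rw [c1, cq, cz, ← hx, ← hy, ← hw]
  rw [hk] at cx hA hB ⊢
  have hx' : x + 1 = k := by omega
  have hyw : y + w = k + 2 := by omega
  have hsq : (2 * k + 1) ^ 2 - 1 = 4 * k ^ 2 + 4 * k := by
    have : (2 * k + 1) ^ 2 = 4 * k ^ 2 + 4 * k + 1 := by ring
    omega
  rw [hsq] at hB
  have hBz : (1 : ℤ) * 1 ^ 2 + (w * k ^ 2 + (2 * (k + 1) ^ 2 + (y * (2 * k) ^ 2 +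
      (1 * (2 * k + 1) ^ 2 + x * (2 * k + 2) ^ 2)))) = (2 * k + 1) * (4 * k ^ 2 + 4 * k) := by
    exact_mod_cast hB
  have hxz : (x : ℤ) = k - 1 := by
    have : ((x + 1 : ℕ) : ℤ) = k := by rw [hx']
    push_cast at this
    linarith
  have hywz : (y : ℤ) + w = k + 2 := by exact_mod_cast hyw
  have h5 : (k : ℤ) ^ 2 * (w + 4 * y - 4 * k - 2) = 0 := by
    rw [hxz] at hBz
    linear_combination hBz
  have hk0 : (k : ℤ) ^ 2 ≠ 0 := by
    have : (0 : ℤ) < k := by exact_mod_cast (by omega : 0 < k)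
    positivity
  have h6 : (w : ℤ) + 4 * y = 4 * k + 2 := by
    rcases mul_eq_zero.mp h5 with h | h
    · exact absurd h hk0
    · linear_combination h
  have hy' : y = k := by
    have : (y : ℤ) = k := by linarith
    exact_mod_cast this
  have hw' : w = 2 := by omega
  refine ⟨rfl, rfl, ?_, ?_, rfl, hw'⟩ <;> omega

end Count

end Cfsg.Agent.Helper13
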