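import Mathlib
import Cfsg.Agent.Helper13.SL2Count

/-!
# The two constituents of a reducible restriction from `GL₂(q)` to `SL₂(q)`
-/

set_option autoImplicit false

namespace Cfsg.Agent.Helper13

open Cfsg
open scoped ComplexConjugate

section TwistAlg

variable {F : Type*} [Field F]

/-- Conjugation by `x ∈ GL₂` does not change the value of a class function of `SL₂` at `g` when
the centraliser of `g` in `GL₂` contains an element of determinant `det x`. -/
theorem cf_cxS_of_comm {θ : Matrix.SpecialLinearGroup (Fin 2) F → ℂ}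
    (hθ : IsClassFunction (Matrix.SpecialLinearGroup (Fin 2) F) θ)
    (x c : Matrix.GeneralLinearGroup (Fin 2) F) (g : Matrix.SpecialLinearGroup (Fin 2) F)
    (hc : c * Matrix.SpecialLinearGroup.toGL g = Matrix.SpecialLinearGroup.toGL g * c)
    (hdet : Matrix.GeneralLinearGroup.det c = Matrix.GeneralLinearGroup.det x) :
    θ (cxS x g) = θ g := by
  have h1 : Matrix.GeneralLinearGroup.det (x * c⁻¹) = 1 := by
    rw [map_mul, map_inv, hdet, mul_inv_cancel]
  obtain ⟨s, hs⟩ := exists_toGL_eq_of_det _ h1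
  have h3 : c⁻¹ * Matrix.SpecialLinearGroup.toGL g * c = Matrix.SpecialLinearGroup.toGL g := by
    rw [mul_assoc, ← hc, inv_mul_cancel_left]
  have h4 : x * c⁻¹ * Matrix.SpecialLinearGroup.toGL g * (c * x⁻¹) =
      x * Matrix.SpecialLinearGroup.toGL g * x⁻¹ := by
    rw [show x * c⁻¹ * Matrix.SpecialLinearGroup.toGL g * (c * x⁻¹) =
      x * (c⁻¹ * Matrix.SpecialLinearGroup.toGL g * c) * x⁻¹ by simp only [mul_assoc], h3]
  have h2 : cxS x g = s * g * s⁻¹ := by
    apply Matrix.SpecialLinearGroup.toGL_injective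
    rw [toGL_cxS, map_mul, map_mul, map_inv, hs, mul_inv_rev, inv_inv]
    exact h4.symm
  rw [h2]
  exact hθ g s

/-- The twist of a class function by `x ∈ GL₂` only depends on `det x`. -/
theorem cf_cxS_diag {θ : Matrix.SpecialLinearGroup (Fin 2) F → ℂ}
    (hθ : IsClassFunction (Matrix.SpecialLinearGroup (Fin 2) F) θ)
    (x : Matrix.GeneralLinearGroup (Fin 2) F) (g : Matrix.SpecialLinearGroup (Fin 2) F) :
    θ (cxS x g) = θ (cxS (borelMat (Matrix.GeneralLinearGroup.det x) 1 0) g) := by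
  have h1 : Matrix.GeneralLinearGroup.det
      (x * (borelMat (Matrix.GeneralLinearGroup.det x) 1 0)⁻¹) = 1 := by
    rw [map_mul, map_inv, det_borelMat, mul_one, mul_inv_cancel]
  obtain ⟨s, hs⟩ := exists_toGL_eq_of_det _ h1
  have h2 : cxS x g = s * cxS (borelMat (Matrix.GeneralLinearGroup.det x) 1 0) g * s⁻¹ := by
    apply Matrix.SpecialLinearGroup.toGL_injective
    rw [toGL_cxS, map_mul, map_mul, map_inv, hs, toGL_cxS, mul_inv_rev, inv_inv]
    simp only [mul_assoc, inv_mul_cancel_left]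
  rw [h2]
  exact hθ _ s

/-- Elements of the form `x + y g` centralise `g`; their determinant is the norm form. -/
theorem centralizer_of_norm (g : Matrix.SpecialLinearGroup (Fin 2) F) (t : Fˣ) (x y : F)
    (h : x ^ 2 + ((g : Matrix (Fin 2) (Fin 2) F) 0 0 + (g : Matrix (Fin 2) (Fin 2) F) 1 1) * x * y
      + y ^ 2 = (t : F)) :
    ∃ c : Matrix.GeneralLinearGroup (Fin 2) F,
      c * Matrix.SpecialLinearGroup.toGL g = Matrix.SpecialLinearGroup.toGL g * c ∧
      Matrix.GeneralLinearGroup.det c = t := by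
  have hdet := g.det_coe
  rw [Matrix.det_fin_two] at hdet
  obtain ⟨M, hMdef⟩ : ∃ M : Matrix (Fin 2) (Fin 2) F,
      M = x • (1 : Matrix (Fin 2) (Fin 2) F) + y • (g : Matrix (Fin 2) (Fin 2) F) := ⟨_, rfl⟩
  have hM : M.det = (t : F) := by
    have e00 : (x • (1 : Matrix (Fin 2) (Fin 2) F) + y • (g : Matrix (Fin 2) (Fin 2) F)) 0 0 =
        x + y * (g : Matrix (Fin 2) (Fin 2) F) 0 0 := by simp
    have e01 : (x • (1 : Matrix (Fin 2) (Fin 2) F) + y • (g : Matrix (Fin 2) (Fin 2) F)) 0 1 =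
        y * (g : Matrix (Fin 2) (Fin 2) F) 0 1 := by simp
    have e10 : (x • (1 : Matrix (Fin 2) (Fin 2) F) + y • (g : Matrix (Fin 2) (Fin 2) F)) 1 0 =
        y * (g : Matrix (Fin 2) (Fin 2) F) 1 0 := by simp
    have e11 : (x • (1 : Matrix (Fin 2) (Fin 2) F) + y • (g : Matrix (Fin 2) (Fin 2) F)) 1 1 =
        x + y * (g : Matrix (Fin 2) (Fin 2) F) 1 1 := by simp
    rw [hMdef, Matrix.det_fin_two, e00, e01, e10, e11, ← h]
    linear_combination y ^ 2 * hdet
  have hcomm : M * (g : Matrix (Fin 2) (Fin 2) F) = (g : Matrix (Fin 2) (Fin 2) F) * M := by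
    rw [hMdef, add_mul, mul_add, Matrix.smul_mul, Matrix.mul_smul, Matrix.smul_mul,
      Matrix.mul_smul, one_mul, mul_one]
  refine ⟨Matrix.GeneralLinearGroup.mkOfDetNeZero M (by rw [hM]; exact t.ne_zero), ?_, ?_⟩
  · apply Units.ext
    exact hcomm
  · apply Units.ext
    exact hM

/-- The norm form of a split torus represents everything. -/
theorem norm_split (a : Fˣ) (ha : (a : F) ^ 2 ≠ 1) (t : Fˣ) :
    ∃ x y : F, x ^ 2 + ((a : F) + (a : F)⁻¹) * x * y + y ^ 2 = (t : F) := by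
  have ha0 : (a : F) ≠ 0 := a.ne_zero
  have h1 : (a : F) * (a : F)⁻¹ = 1 := mul_inv_cancel₀ ha0
  have hne : (a : F) - (a : F)⁻¹ ≠ 0 := by
    intro h
    apply ha
    have h2 : (a : F) ^ 2 - 1 = (a : F) * ((a : F) - (a : F)⁻¹) := by linear_combination h1
    rw [h, mul_zero] at h2
    exact sub_eq_zero.mp h2
  obtain ⟨y, hy⟩ : ∃ y : F, y * ((a : F) - (a : F)⁻¹) = (t : F) - 1 :=
    ⟨((t : F) - 1) / ((a : F) - (a : F)⁻¹), div_mul_cancel₀ _ hne⟩
  refine ⟨1 - y * (a : F)⁻¹, y, ?_⟩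
  linear_combination hy - y ^ 2 * h1

/-- A diagonal torus element of `GL₂` of any determinant commutes with a diagonal element. -/
theorem centralizer_diag (g : Matrix.SpecialLinearGroup (Fin 2) F)
    (h01 : (g : Matrix (Fin 2) (Fin 2) F) 0 1 = 0) (h10 : (g : Matrix (Fin 2) (Fin 2) F) 1 0 = 0)
    (t : Fˣ) :
    ∃ c : Matrix.GeneralLinearGroup (Fin 2) F,
      c * Matrix.SpecialLinearGroup.toGL g = Matrix.SpecialLinearGroup.toGL g * c ∧
      Matrix.GeneralLinearGroup.det c = t := by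
  refine ⟨borelMat t 1 0, ?_, by rw [det_borelMat, mul_one]⟩
  apply Units.ext
  show !![(t : F), 0; 0, ((1 : Fˣ) : F)] * (g : Matrix (Fin 2) (Fin 2) F) =
    (g : Matrix (Fin 2) (Fin 2) F) * !![(t : F), 0; 0, ((1 : Fˣ) : F)]
  ext i j
  fin_cases i <;> fin_cases j <;> simp [Matrix.mul_apply, Fin.sum_univ_two, h01, h10, mul_comm]

/-- No eigenvector: the characteristic polynomial has no root. -/
theorem no_eigen_charpoly (g : Matrix.SpecialLinearGroup (Fin 2) F)
    (hg : ∀ (c : F) (v : Fin 2 → F), v ≠ 0 → (g : Matrix (Fin 2) (Fin 2) F).mulVec v ≠ c • v)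
    (c : F) :
    c ^ 2 - ((g : Matrix (Fin 2) (Fin 2) F) 0 0 + (g : Matrix (Fin 2) (Fin 2) F) 1 1) * c + 1
      ≠ 0 := by
  intro h
  have hdet := g.det_coe
  rw [Matrix.det_fin_two] at hdet
  have hM : (!![(g : Matrix (Fin 2) (Fin 2) F) 0 0 - c, (g : Matrix (Fin 2) (Fin 2) F) 0 1;
      (g : Matrix (Fin 2) (Fin 2) F) 1 0, (g : Matrix (Fin 2) (Fin 2) F) 1 1 - c] :
      Matrix (Fin 2) (Fin 2) F).det = 0 := by
    rw [Matrix.det_fin_two_of]
    linear_combination h + hdet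
  obtain ⟨v, hv, hv0⟩ := Matrix.exists_mulVec_eq_zero_iff.mpr hM
  apply hg c v hv
  have h0 := congrFun hv0 0
  have h1 := congrFun hv0 1
  simp only [Matrix.mulVec, dotProduct, Fin.sum_univ_two, Matrix.of_apply, Matrix.cons_val_zero,
    Matrix.cons_val_one, Pi.zero_apply] at h0 h1
  have e0 : (g : Matrix (Fin 2) (Fin 2) F).mulVec v 0 = (c • v) 0 := by
    simp only [Matrix.mulVec, dotProduct, Fin.sum_univ_two, Pi.smul_apply, smul_eq_mul]
    linear_combination h0
  have e1 : (g : Matrix (Fin 2) (Fin 2) F).mulVec v 1 = (c • v) 1 := by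
    simp only [Matrix.mulVec, dotProduct, Fin.sum_univ_two, Pi.smul_apply, smul_eq_mul]
    linear_combination h1
  funext i
  fin_cases i
  · exact e0
  · exact e1

theorem two_ne_zero_of_odd_card [Fintype F] (hodd : Odd (Fintype.card F)) : (2 : F) ≠ 0 := by
  have hchar : ringChar F ≠ 2 := by
    intro h
    have := FiniteField.even_card_of_char_two h
    rw [Nat.odd_iff] at hodd
    omega
  exact Ring.two_ne_zero hchar

theorem quad_sum_exists [Fintype F] (hodd : Odd (Fintype.card F)) (p0 δ : F) (hδ : δ ≠ 0) :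
    ∃ a b : F, a ^ 2 + p0 + δ * b ^ 2 = 0 := by
  have hf : (Polynomial.C (1 : F) * Polynomial.X ^ 2 + Polynomial.C 0 * Polynomial.X +
      Polynomial.C p0 : Polynomial F).degree = 2 := Polynomial.degree_quadratic one_ne_zero
  have hg : (Polynomial.C δ * Polynomial.X ^ 2 + Polynomial.C 0 * Polynomial.X +
      Polynomial.C (0 : F) : Polynomial F).degree = 2 := Polynomial.degree_quadratic hδ
  obtain ⟨a, b, hab⟩ := FiniteField.exists_root_sum_quadratic hf hg (Nat.odd_iff.mp hodd)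
  refine ⟨a, b, ?_⟩
  simp only [Polynomial.eval_add, Polynomial.eval_mul, Polynomial.eval_C, Polynomial.eval_pow,
    Polynomial.eval_X, one_mul, zero_mul, add_zero] at hab
  linear_combination hab

/-- The norm form of a non-split torus represents everything (`q` odd). -/
theorem norm_elliptic [Fintype F] (hodd : Odd (Fintype.card F))
    (g : Matrix.SpecialLinearGroup (Fin 2) F)
    (hg : ∀ (c : F) (v : Fin 2 → F), v ≠ 0 → (g : Matrix (Fin 2) (Fin 2) F).mulVec v ≠ c • v)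
    (t : Fˣ) :
    ∃ x y : F, x ^ 2 + ((g : Matrix (Fin 2) (Fin 2) F) 0 0 + (g : Matrix (Fin 2) (Fin 2) F) 1 1) *
      x * y + y ^ 2 = (t : F) := by
  have h2 : (2 : F) ≠ 0 := two_ne_zero_of_odd_card hodd
  have h4 : (4 : F) ≠ 0 := by
    have : (4 : F) = 2 * 2 := by norm_num
    rw [this]
    exact mul_ne_zero h2 h2
  obtain ⟨τ, hτ⟩ : ∃ τ : F, τ = (g : Matrix (Fin 2) (Fin 2) F) 0 0 +
      (g : Matrix (Fin 2) (Fin 2) F) 1 1 := ⟨_, rfl⟩
  rw [← hτ]
  have hD : (4 - τ ^ 2 : F) ≠ 0 := by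
    intro h
    obtain ⟨c, hc⟩ : ∃ c : F, 2 * c = τ := ⟨τ / 2, by field_simp⟩
    have hcp := no_eigen_charpoly g hg c
    rw [← hτ, ← hc] at hcp
    rw [← hc] at h
    have h4' : (4 : F) * (c ^ 2 - 2 * c * c + 1) = 0 := by linear_combination h
    rcases mul_eq_zero.mp h4' with h5 | h5
    · exact h4 h5
    · exact hcp h5
  obtain ⟨A, b, hAb⟩ := quad_sum_exists hodd (-(4 * (t : F))) (4 - τ ^ 2) hD
  obtain ⟨x, hx⟩ : ∃ x : F, 2 * x = A - τ * b := ⟨(A - τ * b) / 2, by field_simp⟩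
  refine ⟨x, b, ?_⟩
  have h4x : (4 : F) * (x ^ 2 + τ * x * b + b ^ 2 - (t : F)) = 0 := by
    linear_combination hAb + (2 * x + A + τ * b) * hx
  rcases mul_eq_zero.mp h4x with h5 | h5
  · exact absurd h5 h4
  · exact sub_eq_zero.mp h5

theorem borelMat_conj_gen (t a d : Fˣ) (c : F) :
    borelMat t 1 0 * borelMat a d c * (borelMat t 1 0)⁻¹ = borelMat a d ((t : F) * c) := by
  rw [mul_inv_eq_iff_eq_mul]
  apply Matrix.GeneralLinearGroup.ext
  intro i j
  rw [Matrix.GeneralLinearGroup.coe_mul, Matrix.GeneralLinearGroup.coe_mul, borelMat_coe,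
    borelMat_coe, borelMat_coe]
  fin_cases i <;> fin_cases j <;> simp [Matrix.mul_apply, Fin.sum_univ_two, mul_comm]

theorem toGL_sBorelMat (a : Fˣ) (c : F) :
    Matrix.SpecialLinearGroup.toGL (sBorelMat a c) = borelMat a a⁻¹ c := by
  apply Matrix.GeneralLinearGroup.ext
  intro i j
  rfl

theorem toGL_sBorelMat_one (c : F) :
    Matrix.SpecialLinearGroup.toGL (sBorelMat 1 c) = uMat c := by
  rw [toGL_sBorelMat, inv_one]
  rfl

theorem cxS_diag_sBorelMat (t a : Fˣ) (c : F) :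
    cxS (borelMat t 1 0) (sBorelMat a c) = sBorelMat a ((t : F) * c) := by
  apply Matrix.SpecialLinearGroup.toGL_injective
  rw [toGL_cxS, toGL_sBorelMat, toGL_sBorelMat, borelMat_conj_gen]

end TwistAlg

section TwistChar

variable {F : Type*} [Field F] [Fintype F] [DecidableEq F]

theorem sum_unip_twist (θ : Matrix.SpecialLinearGroup (Fin 2) F → ℂ) (t : Fˣ) :
    ∑ c : F, θ (cxS (borelMat t 1 0) (sBorelMat 1 c)) = ∑ c : F, θ (sBorelMat 1 c) := by
  simp only [cxS_diag_sBorelMat]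
  exact Equiv.sum_comp (Equiv.mulLeft₀ (t : F) t.ne_zero) (fun c => θ (sBorelMat 1 c))

/-- The sum over the unipotent subgroup written as a sum over the field. -/
theorem sum_unip_eq (θ : Matrix.SpecialLinearGroup (Fin 2) F → ℂ) :
    (∑ g : Matrix.SpecialLinearGroup (Fin 2) F,
      if (g : Matrix (Fin 2) (Fin 2) F) 1 0 = 0 ∧ (g : Matrix (Fin 2) (Fin 2) F) 0 0 = 1 ∧
        (g : Matrix (Fin 2) (Fin 2) F) 1 1 = 1 then θ g else 0) =
      ∑ c : F, θ (sBorelMat 1 c) := by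
  rw [← Finset.sum_filter]
  symm
  refine Finset.sum_bij (fun c _ => sBorelMat 1 c) ?_ ?_ ?_ ?_
  · intro c _
    rw [Finset.mem_filter]
    refine ⟨Finset.mem_univ _, ?_⟩
    rw [sBorelMat_coe]
    simp
  · intro c _ c' _ h
    have h' := congrArg (fun g : Matrix.SpecialLinearGroup (Fin 2) F =>
      (g : Matrix (Fin 2) (Fin 2) F) 0 1) h
    simpa [sBorelMat_coe] using h'
  · intro g hg
    rw [Finset.mem_filter] at hg
    obtain ⟨_, h10, h00, h11⟩ := hg
    refine ⟨(g : Matrix (Fin 2) (Fin 2) F) 0 1, Finset.mem_univ _, ?_⟩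
    apply Subtype.ext
    rw [sBorelMat_coe]
    ext i j
    fin_cases i <;> fin_cases j <;> simp [h10, h00, h11]
  · intro c _
    rfl

theorem constituent_cases {G : Type*} [Group G] [Fintype G] {Θ θ₁ θ₂ θ : G → ℂ}
    (h1 : IsIrrCharacter G θ₁) (h2 : IsIrrCharacter G θ₂) (hθ : IsIrrCharacter G θ)
    (hsum : Θ = θ₁ + θ₂) (hin : classInner Θ θ ≠ 0) : θ₁ = θ ∨ θ₂ = θ := by
  classical
  rw [hsum, Helper2.classInner_add_left, Helper2.classInner_irr h1 hθ,
    Helper2.classInner_irr h2 hθ] at hin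
  by_cases e1 : θ₁ = θ
  · exact Or.inl e1
  · by_cases e2 : θ₂ = θ
    · exact Or.inr e2
    · rw [if_neg e1, if_neg e2] at hin
      norm_num at hin

theorem exists_diag_twist {χ : Matrix.GeneralLinearGroup (Fin 2) F → ℂ}
    (hχ : IsIrrCharacter (Matrix.GeneralLinearGroup (Fin 2) F) χ)
    {θ₁ θ₂ : Matrix.SpecialLinearGroup (Fin 2) F → ℂ}
    (h1 : IsIrrCharacter (Matrix.SpecialLinearGroup (Fin 2) F) θ₁)
    (h2 : IsIrrCharacter (Matrix.SpecialLinearGroup (Fin 2) F) θ₂) (hne : θ₁ ≠ θ₂)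
    (hsum : resS χ = θ₁ + θ₂) :
    ∃ t : Fˣ, ∀ g, θ₂ g = θ₁ (cxS (borelMat t 1 0) g) := by
  obtain ⟨x, hx⟩ := exists_conj_of_res_two hχ h1 h2 hne hsum
  refine ⟨Matrix.GeneralLinearGroup.det x, fun g => ?_⟩
  rw [← hx, Function.comp_apply]
  exact cf_cxS_diag (Helper2.IsIrrCharacter.isClassFunction h1) x g

/-- A constituent `θ` of a restriction of norm two, with its partner `θ'`, which is the twist of
`θ` by a diagonal matrix. -/
theorem half_data {χ : Matrix.GeneralLinearGroup (Fin 2) F → ℂ}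
    (hχ : IsIrrCharacter (Matrix.GeneralLinearGroup (Fin 2) F) χ)
    (hn : classInner (resS χ) (resS χ) = 2)
    {θ : Matrix.SpecialLinearGroup (Fin 2) F → ℂ}
    (hθ : IsIrrCharacter (Matrix.SpecialLinearGroup (Fin 2) F) θ)
    (hin : classInner (resS χ) θ ≠ 0) :
    ∃ θ' : Matrix.SpecialLinearGroup (Fin 2) F → ℂ,
      IsIrrCharacter (Matrix.SpecialLinearGroup (Fin 2) F) θ' ∧ θ' ≠ θ ∧ resS χ = θ + θ' ∧
      ∃ t : Fˣ, ∀ g, θ' g = θ (cxS (borelMat t 1 0) g) := by
  obtain ⟨θ₁, θ₂, h1, h2, hne, hsum⟩ :=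
    char_norm_two (isCharacter_resS (Helper24.isCharacter_of_irr hχ)) hn
  rcases constituent_cases h1 h2 hθ hsum hin with rfl | rfl
  · obtain ⟨t, ht⟩ := exists_diag_twist hχ h1 h2 hne hsum
    exact ⟨θ₂, h2, Ne.symm hne, hsum, t, ht⟩
  · have hsum' : resS χ = θ₂ + θ₁ := by rw [hsum, add_comm]
    obtain ⟨t, ht⟩ := exists_diag_twist hχ h2 h1 (Ne.symm hne) hsum'
    exact ⟨θ₁, h1, hne, hsum', t, ht⟩

/-- A constituent of a restriction of norm two takes half the value at elements whose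
centraliser in `GL₂` has all determinants. -/
theorem two_mul_of_centralizer {χ : Matrix.GeneralLinearGroup (Fin 2) F → ℂ}
    (hχ : IsIrrCharacter (Matrix.GeneralLinearGroup (Fin 2) F) χ)
    (hn : classInner (resS χ) (resS χ) = 2)
    {θ : Matrix.SpecialLinearGroup (Fin 2) F → ℂ}
    (hθ : IsIrrCharacter (Matrix.SpecialLinearGroup (Fin 2) F) θ)
    (hin : classInner (resS χ) θ ≠ 0) (g : Matrix.SpecialLinearGroup (Fin 2) F)
    (hg : ∀ t : Fˣ, ∃ c : Matrix.GeneralLinearGroup (Fin 2) F,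
      c * Matrix.SpecialLinearGroup.toGL g = Matrix.SpecialLinearGroup.toGL g * c ∧
      Matrix.GeneralLinearGroup.det c = t) :
    2 * θ g = χ (Matrix.SpecialLinearGroup.toGL g) := by
  obtain ⟨θ', hθ', hne, hsum, t, ht⟩ := half_data hχ hn hθ hin
  obtain ⟨c, hc, hdet⟩ := hg t
  have h3 : θ' g = θ g := by
    rw [ht]
    exact cf_cxS_of_comm (Helper2.IsIrrCharacter.isClassFunction hθ) _ c g hc
      (by rw [hdet, det_borelMat, mul_one])
  have h4 := congrFun hsum g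
  rw [resS_apply, Pi.add_apply, h3] at h4
  rw [h4]
  ring

theorem sum_uMat_psFun (α β : MulChar F ℂ) :
    ∑ c : F, psFun α β (uMat c) = 2 * (Fintype.card F : ℂ) := by
  rw [sum_uMat (χ := psFun α β) (Helper2.isClassFunction_indFun _ _), psFun_one, psFun_uMat]
  ring

theorem sum_unip_resS (χ : Matrix.GeneralLinearGroup (Fin 2) F → ℂ) :
    ∑ c : F, resS χ (sBorelMat 1 c) = ∑ c : F, χ (uMat c) := by
  refine Finset.sum_congr rfl (fun c _ => ?_)
  rw [resS_apply, toGL_sBorelMat_one]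

theorem sum_unip_half {χ : Matrix.GeneralLinearGroup (Fin 2) F → ℂ}
    (hχ : IsIrrCharacter (Matrix.GeneralLinearGroup (Fin 2) F) χ)
    (hn : classInner (resS χ) (resS χ) = 2)
    {θ : Matrix.SpecialLinearGroup (Fin 2) F → ℂ}
    (hθ : IsIrrCharacter (Matrix.SpecialLinearGroup (Fin 2) F) θ)
    (hin : classInner (resS χ) θ ≠ 0) :
    2 * ∑ c : F, θ (sBorelMat 1 c) = ∑ c : F, χ (uMat c) := by
  obtain ⟨θ', hθ', hne, hsum, t, ht⟩ := half_data hχ hn hθ hin
  have h3 : ∑ c : F, θ' (sBorelMat 1 c) = ∑ c : F, θ (sBorelMat 1 c) := by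
    rw [← sum_unip_twist θ t]
    exact Finset.sum_congr rfl (fun c _ => ht _)
  rw [← sum_unip_resS, hsum]
  simp only [Pi.add_apply]
  rw [Finset.sum_add_distrib, h3]
  ring

theorem sum_unip_deg_q_add_one {θ : Matrix.SpecialLinearGroup (Fin 2) F → ℂ}
    (hθ : IsIrrCharacter (Matrix.SpecialLinearGroup (Fin 2) F) θ)
    (hdeg : θ 1 = (Fintype.card F : ℂ) + 1) :
    ∑ c : F, θ (sBorelMat 1 c) = 2 * (Fintype.card F : ℂ) := by
  obtain ⟨γ, _, rfl⟩ := irr_deg_q_add_one hθ hdeg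
  have h := resS_psFun γ (1 : MulChar F ℂ)
  rw [inv_one, mul_one] at h
  rw [← h, sum_unip_resS, sum_uMat_psFun]

theorem sum_unip_deg_q {θ : Matrix.SpecialLinearGroup (Fin 2) F → ℂ}
    (hθ : IsIrrCharacter (Matrix.SpecialLinearGroup (Fin 2) F) θ)
    (hdeg : θ 1 = (Fintype.card F : ℂ)) :
    ∑ c : F, θ (sBorelMat 1 c) = (Fintype.card F : ℂ) := by
  have hst := irr_deg_q hθ hdeg
  subst hst
  simp only [stS_apply, toGL_sBorelMat_one]
  rw [Finset.sum_sub_distrib, sum_uMat_psFun, Finset.sum_const, Finset.card_univ, nsmul_eq_mul]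
  ring

theorem sum_unip_deg_q_sub_one (hq : 4 ≤ Fintype.card F)
    {θ : Matrix.SpecialLinearGroup (Fin 2) F → ℂ}
    (hθ : IsIrrCharacter (Matrix.SpecialLinearGroup (Fin 2) F) θ)
    (hdeg : θ 1 = (Fintype.card F : ℂ) - 1) :
    ∑ c : F, θ (sBorelMat 1 c) = 0 := by
  obtain ⟨χ, hχ, hc, rfl⟩ := irr_deg_q_sub_one hq hθ hdeg
  rw [sum_unip_resS]
  exact hc

/-- For `q ≥ 5` odd, an irreducible character of degree `(q - 1) / 2` is a constituent of the
restriction of a cuspidal character whose restriction has norm two. -/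
theorem irr_deg_half_sub (hodd : Odd (Fintype.card F)) (hq : 5 ≤ Fintype.card F)
    {θ : Matrix.SpecialLinearGroup (Fin 2) F → ℂ}
    (hθ : IsIrrCharacter (Matrix.SpecialLinearGroup (Fin 2) F) θ)
    (hdeg : θ 1 = (((Fintype.card F - 1) / 2 : ℕ) : ℂ)) :
    ∃ χ : Matrix.GeneralLinearGroup (Fin 2) F → ℂ,
      IsIrrCharacter (Matrix.GeneralLinearGroup (Fin 2) F) χ ∧ IsCusp χ ∧
      classInner (resS χ) (resS χ) = 2 ∧ classInner (resS χ) θ ≠ 0 := by
  obtain ⟨k, hk⟩ := hodd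
  have hhalf : (Fintype.card F - 1) / 2 = k := by omega
  rw [hhalf] at hdeg
  have hqC : (Fintype.card F : ℂ) = 2 * (k : ℂ) + 1 := by rw [hk]; push_cast; ring
  have hk2 : 2 ≤ k := by omega
  rcases irrS_cases hθ with rfl | rfl | ⟨γ, _, rfl⟩ | ⟨γ, _, _, h2, _⟩ | ⟨χ, hχ, hc, rfl⟩ |
    ⟨χ, hχ, hc, h1, _, h4⟩
  · exfalso
    have hdeg' : (1 : ℂ) = ((k : ℕ) : ℂ) := hdeg
    have h' : ((1 : ℕ) : ℂ) = ((k : ℕ) : ℂ) := by
      push_cast at hdeg' ⊢; linear_combination hdeg'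
    have := Nat.cast_injective h'
    omega
  · exfalso
    rw [stS_one, hqC] at hdeg
    have h' : ((2 * k + 1 : ℕ) : ℂ) = ((k : ℕ) : ℂ) := by
      push_cast at hdeg ⊢; linear_combination hdeg
    have := Nat.cast_injective h'
    omega
  · exfalso
    rw [rFun_one_apply, hqC] at hdeg
    have h' : ((2 * k + 2 : ℕ) : ℂ) = ((k : ℕ) : ℂ) := by
      push_cast at hdeg ⊢; linear_combination hdeg
    have := Nat.cast_injective h'
    omega
  · exfalso
    rw [hdeg, hqC] at h2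
    have h' : ((2 * k : ℕ) : ℂ) = ((2 * k + 2 : ℕ) : ℂ) := by
      push_cast at h2 ⊢; linear_combination h2
    have := Nat.cast_injective h'
    omega
  · exfalso
    rw [resS_one, (cusp_main.1 χ hχ hc).1, hqC] at hdeg
    have h' : ((2 * k : ℕ) : ℂ) = ((k : ℕ) : ℂ) := by
      push_cast at hdeg ⊢; linear_combination hdeg
    have := Nat.cast_injective h'
    omega
  · exact ⟨χ, hχ, hc, h1, h4⟩

theorem sum_unip_deg_half_add (hodd : Odd (Fintype.card F)) (hq : 5 ≤ Fintype.card F)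
    {θ : Matrix.SpecialLinearGroup (Fin 2) F → ℂ}
    (hθ : IsIrrCharacter (Matrix.SpecialLinearGroup (Fin 2) F) θ)
    (hdeg : θ 1 = (((Fintype.card F + 1) / 2 : ℕ) : ℂ)) :
    ∑ c : F, θ (sBorelMat 1 c) = (Fintype.card F : ℂ) := by
  obtain ⟨γ, hγ, hγ1, hin⟩ := irr_deg_half_add hodd hq hθ hdeg
  have hps : IsIrrCharacter (Matrix.GeneralLinearGroup (Fin 2) F) (psFun γ 1) :=
    isIrrCharacter_psFun hγ1
  have hres : resS (psFun γ 1) = rFun γ := by rw [resS_psFun, inv_one, mul_one]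
  have hn : classInner (resS (psFun γ 1)) (resS (psFun γ 1)) = 2 := by
    rw [hres]; exact norm_rFun_two hγ
  have h := sum_unip_half hps hn hθ (by rw [hres]; exact hin)
  rw [sum_uMat_psFun] at h
  exact mul_left_cancel₀ two_ne_zero h

theorem sum_unip_deg_half_sub (hodd : Odd (Fintype.card F)) (hq : 5 ≤ Fintype.card F)
    {θ : Matrix.SpecialLinearGroup (Fin 2) F → ℂ}
    (hθ : IsIrrCharacter (Matrix.SpecialLinearGroup (Fin 2) F) θ)
    (hdeg : θ 1 = (((Fintype.card F - 1) / 2 : ℕ) : ℂ)) :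
    ∑ c : F, θ (sBorelMat 1 c) = 0 := by
  obtain ⟨χ, hχ, hc, hn, hin⟩ := irr_deg_half_sub hodd hq hθ hdeg
  have h := sum_unip_half hχ hn hθ hin
  have hc' : ∑ c : F, χ (uMat c) = 0 := hc
  rw [hc'] at h
  rcases mul_eq_zero.mp h with h' | h'
  · exact absurd h' two_ne_zero
  · exact h'

end TwistChar

end Cfsg.Agent.Helper13
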