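import Mathlib
import Cfsg.Agent.Helper13.SL2Twist

/-!
# Zeros of the irreducible characters of `SL₂(q)`, `q` odd
-/

set_option autoImplicit false

namespace Cfsg.Agent.Helper13

open Cfsg
open scoped ComplexConjugate

section Central

/-- Multiplying by a central element does not change the absolute value of an irreducible
character. -/
theorem irr_central_normSq {G : Type*} [Group G] [Finite G] {χ : G → ℂ}
    (hχ : IsIrrCharacter G χ) (z : G) (hz : z ∈ Subgroup.center G) (g : G) :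
    χ (z * g) * conj (χ (z * g)) = χ g * conj (χ g) := by
  obtain ⟨ω, h1, h2⟩ := Helper24.char_central_mul hχ z hz
  obtain ⟨d, hd, hd1⟩ := Helper10.irr_one_eq hχ
  have hd0 : (d : ℂ) ≠ 0 := by exact_mod_cast hd.ne'
  have hω : ω * conj ω = 1 := by
    have e1 : χ z = ω * χ 1 := by
      have := h1 1
      rwa [one_mul] at this
    have e2 : χ 1 = ω * χ z⁻¹ := by
      have := h1 z⁻¹
      rwa [inv_mul_cancel] at this
    rw [Helper24.char_inv (Helper24.isCharacter_of_irr hχ) z, e1, map_mul, hd1,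
      Complex.conj_ofReal] at e2
    have h3 : (ω * conj ω - 1) * (d : ℂ) = 0 := by linear_combination -e2
    rcases mul_eq_zero.mp h3 with h | h
    · exact sub_eq_zero.mp h
    · exact absurd h hd0
  rw [h2 g, map_mul]
  linear_combination (χ g * conj (χ g)) * hω

end Central

section Frob

variable {F : Type*} [Field F] [Fintype F] [DecidableEq F]

/-- Frobenius reciprocity against the permutation character on the projective line. -/
theorem classInner_rFun_one_eq {f : Matrix.SpecialLinearGroup (Fin 2) F → ℂ}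
    (hf : IsClassFunction (Matrix.SpecialLinearGroup (Fin 2) F) f) :
    classInner (rFun (1 : MulChar F ℂ)) f =
      (Nat.card (sBorel F) : ℂ)⁻¹ * ∑ a : Fˣ, ∑ c : F, conj (f (sBorelMat a c)) := by
  classical
  haveI : Fintype (sBorel F) := Fintype.ofFinite _
  rw [Helper2.frobenius_reciprocity _ _ _ hf, sBorelFun_one_eq]
  unfold classInner
  congr 1
  rw [← Equiv.sum_comp (sBorelEquiv (F := F)), Fintype.sum_prod_type]
  refine Finset.sum_congr rfl (fun a _ => Finset.sum_congr rfl (fun c _ => ?_))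
  show (1 : ℂ) * conj (f (sBorelMat a c)) = conj (f (sBorelMat a c))
  rw [one_mul]

theorem rFun_one_eq_psFun (g : Matrix.SpecialLinearGroup (Fin 2) F) :
    rFun (1 : MulChar F ℂ) g = psFun 1 1 (Matrix.SpecialLinearGroup.toGL g) := by
  have h := resS_psFun (1 : MulChar F ℂ) 1
  rw [inv_one, mul_one] at h
  rw [← h, resS_apply]

theorem rFun_one_unip (a : Fˣ) (ha : a⁻¹ = a) (c : F) (hc : c ≠ 0) :
    rFun (1 : MulChar F ℂ) (sBorelMat a c) = 1 := by
  rw [rFun_one_eq_psFun, toGL_sBorelMat, ha, psFun_unip 1 1 a c hc, MulChar.one_apply_coe,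
    mul_one]

theorem rFun_one_scalar (a : Fˣ) (ha : a⁻¹ = a) :
    rFun (1 : MulChar F ℂ) (sBorelMat a 0) = (Fintype.card F : ℂ) + 1 := by
  rw [rFun_one_eq_psFun, toGL_sBorelMat, ha, psFun_scalar, MulChar.one_apply_coe, mul_one,
    mul_one]

theorem rFun_one_elliptic (g : Matrix.SpecialLinearGroup (Fin 2) F)
    (hg : ∀ (c : F) (v : Fin 2 → F), v ≠ 0 → (g : Matrix (Fin 2) (Fin 2) F).mulVec v ≠ c • v) :
    rFun (1 : MulChar F ℂ) g = 0 := by
  rw [rFun_one_eq_psFun]
  exact indFun_borel_no_eigen _ _ hg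

theorem sum_ite_zero (K L : ℂ) :
    ∑ c : F, (if c = 0 then K else L) = K + ((Fintype.card F : ℂ) - 1) * L := by
  rw [← Finset.add_sum_erase Finset.univ _ (Finset.mem_univ (0 : F)), if_pos rfl,
    Finset.sum_congr rfl (fun c hc => if_neg (Finset.ne_of_mem_erase hc)), Finset.sum_const,
    Finset.card_erase_of_mem (Finset.mem_univ _), Finset.card_univ, nsmul_eq_mul,
    Nat.cast_sub Fintype.card_pos, Nat.cast_one]

end Frob

section Triang

variable {F : Type*} [Field F]

/-- An element of `SL₂` with an eigenvector is conjugate into the Borel subgroup. -/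
theorem exists_conj_sBorelMat (g : Matrix.SpecialLinearGroup (Fin 2) F)
    (hg : ¬ ∀ (c : F) (v : Fin 2 → F), v ≠ 0 →
      (g : Matrix (Fin 2) (Fin 2) F).mulVec v ≠ c • v) :
    ∃ (s : Matrix.SpecialLinearGroup (Fin 2) F) (a : Fˣ) (c : F),
      s * g * s⁻¹ = sBorelMat a c := by
  have hex : ∃ (c : F) (v : Fin 2 → F), v ≠ 0 ∧
      (g : Matrix (Fin 2) (Fin 2) F).mulVec v = c • v := by
    by_contra hcon
    apply hg
    intro c v hv h
    exact hcon ⟨c, v, hv, h⟩
  obtain ⟨c, v, hv, hgv⟩ := hex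
  have h0 := congrFun hgv 0
  have h1 := congrFun hgv 1
  simp only [Matrix.mulVec, dotProduct, Fin.sum_univ_two, Pi.smul_apply, smul_eq_mul] at h0 h1
  obtain ⟨p, hp0, hp1⟩ : ∃ p : Matrix.SpecialLinearGroup (Fin 2) F,
      (p : Matrix (Fin 2) (Fin 2) F) 0 0 = v 0 ∧ (p : Matrix (Fin 2) (Fin 2) F) 1 0 = v 1 := by
    by_cases hv0 : v 0 = 0
    · have hv1 : v 1 ≠ 0 := by
        intro hv1
        apply hv
        funext i
        fin_cases i
        · exact hv0
        · exact hv1
      refine ⟨⟨!![0, -(v 1)⁻¹; v 1, 0], ?_⟩, hv0.symm, rfl⟩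
      rw [Matrix.det_fin_two_of]
      have : (v 1)⁻¹ * v 1 = 1 := inv_mul_cancel₀ hv1
      linear_combination this
    · refine ⟨⟨!![v 0, 0; v 1, (v 0)⁻¹], ?_⟩, rfl, rfl⟩
      rw [Matrix.det_fin_two_of, mul_inv_cancel₀ hv0]
      ring
  obtain ⟨y, hydef⟩ : ∃ y : Matrix.SpecialLinearGroup (Fin 2) F, y = p⁻¹ * g * p := ⟨_, rfl⟩
  have hy : p * y = g * p := by
    rw [hydef]
    group
  have hym : (p : Matrix (Fin 2) (Fin 2) F) * (y : Matrix (Fin 2) (Fin 2) F) =
      (g : Matrix (Fin 2) (Fin 2) F) * (p : Matrix (Fin 2) (Fin 2) F) := by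
    rw [← Matrix.SpecialLinearGroup.coe_mul, ← Matrix.SpecialLinearGroup.coe_mul, hy]
  have e00 := congrFun (congrFun hym 0) 0
  have e10 := congrFun (congrFun hym 1) 0
  simp only [Matrix.mul_apply, Fin.sum_univ_two] at e00 e10
  rw [hp0, hp1] at e00 e10
  have hdetp := p.det_coe
  rw [Matrix.det_fin_two, hp0, hp1] at hdetp
  have hy10 : (y : Matrix (Fin 2) (Fin 2) F) 1 0 = 0 := by
    linear_combination (-(v 1)) * e00 + (v 0) * e10 - (v 1) * h0 + (v 0) * h1 -
      ((y : Matrix (Fin 2) (Fin 2) F) 1 0) * hdetp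
  have hmem : y ∈ sBorel F := (mem_sBorel y).mpr hy10
  have hb := (sBorelEquiv (F := F)).apply_symm_apply ⟨y, hmem⟩
  have hb' : sBorelMat ((sBorelEquiv (F := F)).symm ⟨y, hmem⟩).1
      ((sBorelEquiv (F := F)).symm ⟨y, hmem⟩).2 = y := congrArg Subtype.val hb
  refine ⟨p⁻¹, ((sBorelEquiv (F := F)).symm ⟨y, hmem⟩).1,
    ((sBorelEquiv (F := F)).symm ⟨y, hmem⟩).2, ?_⟩
  rw [inv_inv, ← hydef]
  exact hb'.symm

end Triang

section Ell

variable {F : Type*} [Field F] [Fintype F] [DecidableEq F]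

theorem borelMat_scalar_mul (a : Fˣ) (c : F) :
    borelMat a a c = borelMat a a 0 * uMat ((a : F)⁻¹ * c) := by
  apply Matrix.GeneralLinearGroup.ext
  intro i j
  rw [Matrix.GeneralLinearGroup.coe_mul, borelMat_coe, borelMat_coe, uMat_coe]
  fin_cases i <;> fin_cases j <;> simp [Matrix.mul_apply, Fin.sum_univ_two]

theorem scalar_mem_center (a : Fˣ) :
    borelMat a a 0 ∈ Subgroup.center (Matrix.GeneralLinearGroup (Fin 2) F) := by
  rw [Subgroup.mem_center_iff]
  intro x
  exact scalar_comm a x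

/-- Absolute values of a cuspidal character at elements with a double eigenvalue. -/
theorem cusp_normSq_unip {ψ : Matrix.GeneralLinearGroup (Fin 2) F → ℂ}
    (hψ : IsIrrCharacter (Matrix.GeneralLinearGroup (Fin 2) F) ψ) (hc : IsCusp ψ) (a : Fˣ)
    (c : F) :
    ψ (borelMat a a c) * conj (ψ (borelMat a a c)) =
      if c = 0 then ((Fintype.card F : ℂ) - 1) ^ 2 else 1 := by
  obtain ⟨hψ1, hψu⟩ := cusp_main.1 ψ hψ hc
  rw [borelMat_scalar_mul, irr_central_normSq hψ _ (scalar_mem_center a)]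
  by_cases h0 : c = 0
  · rw [if_pos h0, h0, mul_zero, uMat_zero, hψ1, map_sub, Complex.conj_natCast, map_one]
    ring
  · rw [if_neg h0]
    have hc' : (a : F)⁻¹ * c ≠ 0 := mul_ne_zero (inv_ne_zero a.ne_zero) h0
    obtain ⟨x, hx⟩ := isConj_iff.mp (uMat_isConj _ hc')
    have e : ψ (uMat ((a : F)⁻¹ * c)) = ψ (uMat 1) := by
      rw [← hx]
      exact Helper2.IsIrrCharacter.isClassFunction hψ _ _
    rw [e, hψu]
    simp

/-- For `q = 3`, diagonal elements of `SL₂` are central. -/
theorem diag_central (hsq : ∀ x : F, x ≠ 0 → x ^ 2 = 1)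
    (g : Matrix.SpecialLinearGroup (Fin 2) F)
    (h01 : (g : Matrix (Fin 2) (Fin 2) F) 0 1 = 0) (h10 : (g : Matrix (Fin 2) (Fin 2) F) 1 0 = 0)
    (s : Matrix.SpecialLinearGroup (Fin 2) F) : s * g = g * s := by
  have hdet := g.det_coe
  rw [Matrix.det_fin_two, h01, zero_mul, sub_zero] at hdet
  have hg00 : (g : Matrix (Fin 2) (Fin 2) F) 0 0 ≠ 0 := left_ne_zero_of_mul_eq_one hdet
  have h11 : (g : Matrix (Fin 2) (Fin 2) F) 1 1 = (g : Matrix (Fin 2) (Fin 2) F) 0 0 := by
    have h := hsq _ hg00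
    rw [sq] at h
    exact mul_left_cancel₀ hg00 (hdet.trans h.symm)
  apply Subtype.ext
  rw [Matrix.SpecialLinearGroup.coe_mul, Matrix.SpecialLinearGroup.coe_mul]
  ext i j
  rw [Matrix.mul_apply, Matrix.mul_apply, Fin.sum_univ_two, Fin.sum_univ_two]
  fin_cases i <;> fin_cases j <;> simp [h01, h10, h11, mul_comm]

/-- For `q = 3` the restriction of a cuspidal character of `GL₂(3)` which stays irreducible on
`SL₂(3)` vanishes at the elements without eigenvector. -/
theorem cusp_res_vanish_three (h3 : Fintype.card F = 3)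
    {ψ : Matrix.GeneralLinearGroup (Fin 2) F → ℂ}
    (hψ : IsIrrCharacter (Matrix.GeneralLinearGroup (Fin 2) F) ψ) (hc : IsCusp ψ)
    (hirr : classInner (resS ψ) (resS ψ) = 1) (g₀ : Matrix.SpecialLinearGroup (Fin 2) F)
    (hg₀ : ∀ (c : F) (v : Fin 2 → F), v ≠ 0 →
      (g₀ : Matrix (Fin 2) (Fin 2) F).mulVec v ≠ c • v) :
    ψ (Matrix.SpecialLinearGroup.toGL g₀) = 0 := by
  classical
  have hq : (Fintype.card F : ℂ) = 3 := by rw [h3]; norm_num
  have hsq : ∀ x : F, x ≠ 0 → x ^ 2 = 1 := by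
    intro x hx
    have := FiniteField.pow_card_sub_one_eq_one x hx
    rw [h3] at this
    exact this
  have hinv : ∀ a : Fˣ, a⁻¹ = a := by
    intro a
    apply inv_eq_of_mul_eq_one_right
    apply Units.ext
    rw [Units.val_mul, Units.val_one, ← sq]
    exact hsq _ a.ne_zero
  have hψcf := Helper2.IsIrrCharacter.isClassFunction hψ
  have hG0 : (Nat.card (Matrix.SpecialLinearGroup (Fin 2) F) : ℂ) ≠ 0 := by
    exact_mod_cast Nat.card_pos.ne'
  have hcardG : (Nat.card (Matrix.SpecialLinearGroup (Fin 2) F) : ℂ) = 24 := by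
    rw [S2301.card_SL2, h3]
    norm_num
  obtain ⟨f, hfdef⟩ : ∃ f : Matrix.SpecialLinearGroup (Fin 2) F → ℂ,
      f = fun g => resS ψ g * conj (resS ψ g) := ⟨_, rfl⟩
  have hf_apply : ∀ g, f g = ψ (Matrix.SpecialLinearGroup.toGL g) *
      conj (ψ (Matrix.SpecialLinearGroup.toGL g)) := by
    intro g
    rw [hfdef]
    rfl
  have hfcf : IsClassFunction (Matrix.SpecialLinearGroup (Fin 2) F) f := by
    intro g h
    have e := hψcf (Matrix.SpecialLinearGroup.toGL g) (Matrix.SpecialLinearGroup.toGL h)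
    rw [hf_apply, hf_apply, map_mul, map_mul, map_inv, e]
  have hfconj : ∀ g, conj (f g) = f g := by
    intro g
    rw [hf_apply, map_mul, Complex.conj_conj, mul_comm]
  have hfB : ∀ (a : Fˣ) (c : F), f (sBorelMat a c) = if c = 0 then 4 else 1 := by
    intro a c
    rw [hf_apply, toGL_sBorelMat, hinv a, cusp_normSq_unip hψ hc a c, hq]
    norm_num
  have hN1 : classInner (rFun (1 : MulChar F ℂ)) f = 2 := by
    rw [classInner_rFun_one_eq hfcf, card_sBorel_cast, hq]
    simp only [hfconj]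
    simp only [hfB]
    rw [Finset.sum_congr rfl (fun a _ => sum_ite_zero (F := F) 4 1), Finset.sum_const,
      Finset.card_univ, Fintype.card_units, nsmul_eq_mul, h3]
    norm_num
  have hN2 : ∑ g : Matrix.SpecialLinearGroup (Fin 2) F, rFun (1 : MulChar F ℂ) g * f g =
      2 * (Nat.card (Matrix.SpecialLinearGroup (Fin 2) F) : ℂ) := by
    have h := hN1
    unfold classInner at h
    simp only [hfconj] at h
    rw [inv_mul_eq_iff_eq_mul₀ hG0] at h
    rw [h]
    ring
  have hN3 : ∑ g : Matrix.SpecialLinearGroup (Fin 2) F, f g =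
      (Nat.card (Matrix.SpecialLinearGroup (Fin 2) F) : ℂ) := by
    have h := hirr
    unfold classInner at h
    rw [inv_mul_eq_iff_eq_mul₀ hG0, mul_one] at h
    rw [← h]
    refine Finset.sum_congr rfl (fun g _ => ?_)
    rw [hfdef]
  have hV : ∀ g : Matrix.SpecialLinearGroup (Fin 2) F,
      (rFun (1 : MulChar F ℂ) g - 1) * f g +
        (if (∀ (c : F) (v : Fin 2 → F), v ≠ 0 →
          (g : Matrix (Fin 2) (Fin 2) F).mulVec v ≠ c • v) then f g else 0) =
      if ((g : Matrix (Fin 2) (Fin 2) F) 0 1 = 0 ∧ (g : Matrix (Fin 2) (Fin 2) F) 1 0 = 0)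
        then 12 else 0 := by
    intro g
    by_cases hE : ∀ (c : F) (v : Fin 2 → F), v ≠ 0 →
        (g : Matrix (Fin 2) (Fin 2) F).mulVec v ≠ c • v
    · have hnd : ¬ ((g : Matrix (Fin 2) (Fin 2) F) 0 1 = 0 ∧
          (g : Matrix (Fin 2) (Fin 2) F) 1 0 = 0) := by
        rintro ⟨h01, h10⟩
        have hv : (![1, 0] : Fin 2 → F) ≠ 0 := by
          intro h
          have := congrFun h 0
          simp at this
        apply hE ((g : Matrix (Fin 2) (Fin 2) F) 0 0) ![1, 0] hv
        funext i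
        fin_cases i
        · simp [Matrix.mulVec, dotProduct, Fin.sum_univ_two]
        · simp [Matrix.mulVec, dotProduct, Fin.sum_univ_two, h10]
      rw [if_pos hE, rFun_one_elliptic g hE, if_neg hnd]
      ring
    · rw [if_neg hE]
      obtain ⟨s, a, c, hs⟩ := exists_conj_sBorelMat g hE
      have hN : rFun (1 : MulChar F ℂ) g = rFun (1 : MulChar F ℂ) (sBorelMat a c) := by
        rw [← hs]
        exact (Helper2.isClassFunction_indFun _ _ g s).symm
      have hf' : f g = f (sBorelMat a c) := by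
        rw [← hs]
        exact (hfcf g s).symm
      rw [hN, hf', hfB]
      by_cases hc0 : c = 0
      · have hz := diag_central hsq (sBorelMat a 0) rfl rfl s⁻¹
        have hg : g = sBorelMat a 0 := by
          rw [hc0] at hs
          have h1 : g = s⁻¹ * sBorelMat a 0 * s := by
            rw [← hs]
            group
          rw [h1, hz, mul_assoc, inv_mul_cancel, mul_one]
        have hd : ((g : Matrix (Fin 2) (Fin 2) F) 0 1 = 0 ∧
            (g : Matrix (Fin 2) (Fin 2) F) 1 0 = 0) := by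
          rw [hg]
          exact ⟨rfl, rfl⟩
        rw [if_pos hc0, hc0, rFun_one_scalar a (hinv a), hq, if_pos hd]
        norm_num
      · have hnd : ¬ ((g : Matrix (Fin 2) (Fin 2) F) 0 1 = 0 ∧
            (g : Matrix (Fin 2) (Fin 2) F) 1 0 = 0) := by
          rintro ⟨h01, h10⟩
          apply hc0
          have hz := diag_central hsq g h01 h10 s
          have h1 : sBorelMat a c = g := by
            rw [← hs, hz, mul_assoc, mul_inv_cancel, mul_one]
          have h2 : (sBorelMat a c : Matrix (Fin 2) (Fin 2) F) 0 1 = 0 := by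
            rw [h1]
            exact h01
          exact h2
        rw [if_neg hc0, rFun_one_unip a (hinv a) c hc0, if_neg hnd]
        ring
  have hsumV : ∑ g : Matrix.SpecialLinearGroup (Fin 2) F,
      (if ((g : Matrix (Fin 2) (Fin 2) F) 0 1 = 0 ∧ (g : Matrix (Fin 2) (Fin 2) F) 1 0 = 0)
        then (12 : ℂ) else 0) = 24 := by
    rw [← Finset.sum_filter]
    have hbij : ∑ a : Fˣ, (12 : ℂ) =
        ∑ g ∈ Finset.univ.filter (fun g : Matrix.SpecialLinearGroup (Fin 2) F =>
          (g : Matrix (Fin 2) (Fin 2) F) 0 1 = 0 ∧ (g : Matrix (Fin 2) (Fin 2) F) 1 0 = 0),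
          (12 : ℂ) := by
      refine Finset.sum_bij (fun a _ => sBorelMat a 0) ?_ ?_ ?_ ?_
      · intro a _
        rw [Finset.mem_filter]
        exact ⟨Finset.mem_univ _, rfl, rfl⟩
      · intro a _ a' _ h
        have h' := congrArg (fun g : Matrix.SpecialLinearGroup (Fin 2) F =>
          (g : Matrix (Fin 2) (Fin 2) F) 0 0) h
        exact Units.ext h'
      · intro g hg
        rw [Finset.mem_filter] at hg
        obtain ⟨_, h01, h10⟩ := hg
        have hdet := g.det_coe
        rw [Matrix.det_fin_two, h01, zero_mul, sub_zero] at hdet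
        refine ⟨Units.mkOfMulEqOne _ _ hdet, Finset.mem_univ _, ?_⟩
        apply Subtype.ext
        rw [sBorelMat_coe]
        ext i j
        fin_cases i <;> fin_cases j
        · rfl
        · exact h01.symm
        · exact h10.symm
        · rfl
      · intro a _
        rfl
    rw [← hbij, Finset.sum_const, Finset.card_univ, Fintype.card_units, nsmul_eq_mul, h3]
    norm_num
  have hE : ∑ g : Matrix.SpecialLinearGroup (Fin 2) F,
      (if (∀ (c : F) (v : Fin 2 → F), v ≠ 0 →
          (g : Matrix (Fin 2) (Fin 2) F).mulVec v ≠ c • v) then f g else 0) = 0 := by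
    have h1 : ∑ g : Matrix.SpecialLinearGroup (Fin 2) F,
        ((rFun (1 : MulChar F ℂ) g - 1) * f g +
        (if (∀ (c : F) (v : Fin 2 → F), v ≠ 0 →
          (g : Matrix (Fin 2) (Fin 2) F).mulVec v ≠ c • v) then f g else 0)) = 24 := by
      rw [Finset.sum_congr rfl (fun g _ => hV g)]
      exact hsumV
    rw [Finset.sum_add_distrib] at h1
    have h2 : ∑ g : Matrix.SpecialLinearGroup (Fin 2) F, (rFun (1 : MulChar F ℂ) g - 1) * f g =
        (Nat.card (Matrix.SpecialLinearGroup (Fin 2) F) : ℂ) := by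
      simp only [sub_mul, one_mul]
      rw [Finset.sum_sub_distrib, hN2, hN3]
      ring
    rw [h2, hcardG] at h1
    linear_combination h1
  have hr : ∑ g : Matrix.SpecialLinearGroup (Fin 2) F,
      (if (∀ (c : F) (v : Fin 2 → F), v ≠ 0 →
          (g : Matrix (Fin 2) (Fin 2) F).mulVec v ≠ c • v) then
        Complex.normSq (ψ (Matrix.SpecialLinearGroup.toGL g)) else (0 : ℝ)) = 0 := by
    have hcast : ((∑ g : Matrix.SpecialLinearGroup (Fin 2) F,
        (if (∀ (c : F) (v : Fin 2 → F), v ≠ 0 →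
          (g : Matrix (Fin 2) (Fin 2) F).mulVec v ≠ c • v) then
        Complex.normSq (ψ (Matrix.SpecialLinearGroup.toGL g)) else (0 : ℝ)) : ℝ) : ℂ) = 0 := by
      rw [Complex.ofReal_sum, ← hE]
      refine Finset.sum_congr rfl (fun g _ => ?_)
      by_cases h : ∀ (c : F) (v : Fin 2 → F), v ≠ 0 →
          (g : Matrix (Fin 2) (Fin 2) F).mulVec v ≠ c • v
      · rw [if_pos h, if_pos h, hf_apply, Complex.mul_conj]
      · rw [if_neg h, if_neg h, Complex.ofReal_zero]
    exact_mod_cast hcast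
  have hall := (Finset.sum_eq_zero_iff_of_nonneg (fun g _ => by
      by_cases h : ∀ (c : F) (v : Fin 2 → F), v ≠ 0 →
          (g : Matrix (Fin 2) (Fin 2) F).mulVec v ≠ c • v
      · rw [if_pos h]
        exact Complex.normSq_nonneg _
      · rw [if_neg h])).mp hr g₀ (Finset.mem_univ _)
  rw [if_pos hg₀] at hall
  exact Complex.normSq_eq_zero.mp hall

/-- For `q` odd, an irreducible character of degree `(q + 1) / 2` is a constituent of the
principal series of the character of order two, unless `q = 3` and it is the restriction of a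
cuspidal character. -/
theorem irr_deg_half_add' (hodd : Odd (Fintype.card F))
    {θ : Matrix.SpecialLinearGroup (Fin 2) F → ℂ}
    (hθ : IsIrrCharacter (Matrix.SpecialLinearGroup (Fin 2) F) θ)
    (hdeg : θ 1 = (((Fintype.card F + 1) / 2 : ℕ) : ℂ)) :
    (∃ γ : MulChar F ℂ, γ ^ 2 = 1 ∧ γ ≠ 1 ∧ classInner (rFun γ) θ ≠ 0) ∨
    (Fintype.card F = 3 ∧ ∃ ψ : Matrix.GeneralLinearGroup (Fin 2) F → ℂ,
      IsIrrCharacter (Matrix.GeneralLinearGroup (Fin 2) F) ψ ∧ IsCusp ψ ∧ θ = resS ψ) := by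
  obtain ⟨k, hk⟩ := hodd
  have hhalf : (Fintype.card F + 1) / 2 = k + 1 := by omega
  rw [hhalf] at hdeg
  have hqC : (Fintype.card F : ℂ) = 2 * (k : ℂ) + 1 := by rw [hk]; push_cast; ring
  have hk1 : 1 ≤ k := by
    have := Fintype.one_lt_card (α := F)
    omega
  rcases irrS_cases hθ with rfl | rfl | ⟨γ, _, rfl⟩ | ⟨γ, h1, h2, _, h4⟩ | ⟨χ, hχ, hc, rfl⟩ |
    ⟨χ, hχ, hc, _, h2, _⟩
  · exfalso
    have hdeg' : (1 : ℂ) = ((k + 1 : ℕ) : ℂ) := hdeg
    have h' : ((1 : ℕ) : ℂ) = ((k + 1 : ℕ) : ℂ) := by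
      push_cast at hdeg' ⊢; linear_combination hdeg'
    have := Nat.cast_injective h'
    omega
  · exfalso
    rw [stS_one, hqC] at hdeg
    have h' : ((2 * k + 1 : ℕ) : ℂ) = ((k + 1 : ℕ) : ℂ) := by
      push_cast at hdeg ⊢; linear_combination hdeg
    have := Nat.cast_injective h'
    omega
  · exfalso
    rw [rFun_one_apply, hqC] at hdeg
    have h' : ((2 * k + 2 : ℕ) : ℂ) = ((k + 1 : ℕ) : ℂ) := by
      push_cast at hdeg ⊢; linear_combination hdeg
    have := Nat.cast_injective h'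
    omega
  · exact Or.inl ⟨γ, h1, h2, h4⟩
  · right
    have hdeg0 := hdeg
    rw [resS_one, (cusp_main.1 χ hχ hc).1, hqC] at hdeg0
    have h' : ((2 * k : ℕ) : ℂ) = ((k + 1 : ℕ) : ℂ) := by
      push_cast at hdeg0 ⊢; linear_combination hdeg0
    have := Nat.cast_injective h'
    exact ⟨by omega, χ, hχ, hc, rfl⟩
  · exfalso
    rw [hdeg, hqC] at h2
    have h' : ((2 * (k + 1) : ℕ) : ℂ) = ((2 * k : ℕ) : ℂ) := by
      push_cast at h2 ⊢; linear_combination h2
    have := Nat.cast_injective h'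
    omega

/-- Irreducible characters of degree `q - 1` or `(q - 1) / 2` vanish at split regular
elements. -/
theorem vanish_split (hodd : Odd (Fintype.card F))
    {θ : Matrix.SpecialLinearGroup (Fin 2) F → ℂ}
    (hθ : IsIrrCharacter (Matrix.SpecialLinearGroup (Fin 2) F) θ)
    (g : Matrix.SpecialLinearGroup (Fin 2) F)
    (hdeg : θ 1 = (Fintype.card F : ℂ) - 1 ∨ θ 1 = (((Fintype.card F - 1) / 2 : ℕ) : ℂ))
    (h01 : (g : Matrix (Fin 2) (Fin 2) F) 0 1 = 0) (h10 : (g : Matrix (Fin 2) (Fin 2) F) 1 0 = 0)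
    (hsq : (g : Matrix (Fin 2) (Fin 2) F) 0 0 ^ 2 ≠ 1) : θ g = 0 := by
  have hdet := g.det_coe
  rw [Matrix.det_fin_two, h01, zero_mul, sub_zero] at hdet
  have hg00 : (g : Matrix (Fin 2) (Fin 2) F) 0 0 ≠ 0 := left_ne_zero_of_mul_eq_one hdet
  have hq : 5 ≤ Fintype.card F := by
    by_contra hlt
    obtain ⟨k, hk⟩ := hodd
    have h1 : 1 < Fintype.card F := Fintype.one_lt_card
    have h3 : Fintype.card F = 3 := by omega
    apply hsq
    have := FiniteField.pow_card_sub_one_eq_one _ hg00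
    rw [h3] at this
    exact this
  have hcoe : ((Matrix.SpecialLinearGroup.toGL g : Matrix.GeneralLinearGroup (Fin 2) F) :
      Matrix (Fin 2) (Fin 2) F) = (g : Matrix (Fin 2) (Fin 2) F) := rfl
  obtain ⟨a, d, ha, hd, hgB⟩ := exists_eq_borelMat (Matrix.SpecialLinearGroup.toGL g)
    (by rw [hcoe]; exact h10)
  rw [hcoe] at ha hd hgB
  rw [h01] at hgB
  have had : (a : F) ≠ (d : F) := by
    intro had
    apply hsq
    rw [← hd, ← had, ha] at hdet
    rw [sq]
    exact hdet
  rcases hdeg with hdeg | hdeg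
  · obtain ⟨ψ, hψ, hc, rfl⟩ := irr_deg_q_sub_one (by omega) hθ hdeg
    rw [resS_apply, hgB]
    exact cusp_vanish_split hψ hc a d had
  · obtain ⟨ψ, hψ, hc, hn, hin⟩ := irr_deg_half_sub hodd hq hθ hdeg
    have h := two_mul_of_centralizer hψ hn hθ hin g (centralizer_diag g h01 h10)
    rw [hgB, cusp_vanish_split hψ hc a d had] at h
    rcases mul_eq_zero.mp h with h' | h'
    · exact absurd h' two_ne_zero
    · exact h'

/-- Irreducible characters of degree `q + 1` or `(q + 1) / 2` vanish at the elements without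
eigenvector. -/
theorem vanish_elliptic (hodd : Odd (Fintype.card F))
    {θ : Matrix.SpecialLinearGroup (Fin 2) F → ℂ}
    (hθ : IsIrrCharacter (Matrix.SpecialLinearGroup (Fin 2) F) θ)
    (g : Matrix.SpecialLinearGroup (Fin 2) F)
    (hdeg : θ 1 = (Fintype.card F : ℂ) + 1 ∨ θ 1 = (((Fintype.card F + 1) / 2 : ℕ) : ℂ))
    (hg : ∀ (c : F) (v : Fin 2 → F), v ≠ 0 → (g : Matrix (Fin 2) (Fin 2) F).mulVec v ≠ c • v) :
    θ g = 0 := by
  have hcent : ∀ t : Fˣ, ∃ c : Matrix.GeneralLinearGroup (Fin 2) F,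
      c * Matrix.SpecialLinearGroup.toGL g = Matrix.SpecialLinearGroup.toGL g * c ∧
      Matrix.GeneralLinearGroup.det c = t := by
    intro t
    obtain ⟨x, y, hxy⟩ := norm_elliptic hodd g hg t
    exact centralizer_of_norm g t x y hxy
  rcases hdeg with hdeg | hdeg
  · obtain ⟨γ, _, rfl⟩ := irr_deg_q_add_one hθ hdeg
    have h := resS_psFun γ (1 : MulChar F ℂ)
    rw [inv_one, mul_one] at h
    rw [← h, resS_apply]
    exact indFun_borel_no_eigen _ _ hg
  · rcases irr_deg_half_add' hodd hθ hdeg with ⟨γ, hγ, hγ1, hin⟩ | ⟨h3, ψ, hψ, hc, rfl⟩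
    · have hps : IsIrrCharacter (Matrix.GeneralLinearGroup (Fin 2) F) (psFun γ 1) :=
        isIrrCharacter_psFun hγ1
      have hres : resS (psFun γ 1) = rFun γ := by rw [resS_psFun, inv_one, mul_one]
      have hn : classInner (resS (psFun γ 1)) (resS (psFun γ 1)) = 2 := by
        rw [hres]; exact norm_rFun_two hγ
      have h := two_mul_of_centralizer hps hn hθ (by rw [hres]; exact hin) g hcent
      have h0 : psFun γ 1 (Matrix.SpecialLinearGroup.toGL g) = 0 :=
        indFun_borel_no_eigen _ _ hg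
      rw [h0] at h
      rcases mul_eq_zero.mp h with h' | h'
      · exact absurd h' two_ne_zero
      · exact h'
    · rw [resS_apply]
      have hirr : classInner (resS ψ) (resS ψ) = 1 := by
        rw [Helper2.classInner_irr hθ hθ, if_pos rfl]
      exact cusp_res_vanish_three h3 hψ hc hirr g hg

end Ell

end Cfsg.Agent.Helper13
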