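import Mathlib
import Cfsg.Agent.Helper13.SL2Ell
import Cfsg.Agent.Helper6.FinSq

/-!
# Values of the characters of degree `(q ± 1) / 2` of `SL₂(q)` at unipotent elements
-/

set_option autoImplicit false

namespace Cfsg.Agent.Helper13

open Cfsg
open scoped ComplexConjugate

section CentralUnit

/-- The central character of an irreducible character has absolute value one. -/
theorem central_char_unit {G : Type*} [Group G] [Finite G] {χ : G → ℂ}
    (hχ : IsIrrCharacter G χ) (z : G) (hz : z ∈ Subgroup.center G) :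
    ∃ ω : ℂ, ω * conj ω = 1 ∧ ∀ g, χ (z * g) = ω * χ g := by
  obtain ⟨ω, h1, h2⟩ := Helper24.char_central_mul hχ z hz
  obtain ⟨d, hd, hd1⟩ := Helper10.irr_one_eq hχ
  have hd0 : (d : ℂ) ≠ 0 := by exact_mod_cast hd.ne'
  refine ⟨ω, ?_, h2⟩
  have e1 : χ z = ω * χ 1 := by
    have := h1 1
    rwa [one_mul] at this
  have e2 : χ 1 = ω * χ z⁻¹ := by
    have := h1 z⁻¹
    rwa [inv_mul_cancel] at this
  rw [Helper24.char_inv (Helper24.isCharacter_of_irr hχ) z, e1, map_mul, hd1,
    Complex.conj_ofReal] at e2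
  have h3 : (ω * conj ω - 1) * (d : ℂ) = 0 := by linear_combination -e2
  rcases mul_eq_zero.mp h3 with h | h
  · exact sub_eq_zero.mp h
  · exact absurd h hd0

end CentralUnit

section Unip

variable {F : Type*} [Field F] [Fintype F] [DecidableEq F]

/-- Twisting by `diag(s², 1)` does not change a class function. -/
theorem cf_cxS_sq {θ : Matrix.SpecialLinearGroup (Fin 2) F → ℂ}
    (hθ : IsClassFunction (Matrix.SpecialLinearGroup (Fin 2) F) θ) (s : Fˣ)
    (g : Matrix.SpecialLinearGroup (Fin 2) F) :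
    θ (cxS (borelMat (s * s) 1 0) g) = θ g :=
  cf_cxS_of_comm hθ _ (borelMat s s 0) g (scalar_comm s _).symm
    (by rw [det_borelMat, det_borelMat, mul_one])

theorem cf_sBorelMat_sq {θ : Matrix.SpecialLinearGroup (Fin 2) F → ℂ}
    (hθ : IsClassFunction (Matrix.SpecialLinearGroup (Fin 2) F) θ) (a : Fˣ) (s c : F)
    (hs : s ≠ 0) : θ (sBorelMat a (s * s * c)) = θ (sBorelMat a c) := by
  have h := cf_cxS_sq hθ (Units.mk0 s hs) (sBorelMat a c)
  rw [cxS_diag_sBorelMat, Units.val_mul, Units.val_mk0] at h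
  exact h

theorem sBorelMat_scalar_central (a : Fˣ) (ha : a⁻¹ = a) :
    sBorelMat a 0 ∈ Subgroup.center (Matrix.SpecialLinearGroup (Fin 2) F) := by
  rw [Subgroup.mem_center_iff]
  intro s
  apply Subtype.ext
  rw [Matrix.SpecialLinearGroup.coe_mul, Matrix.SpecialLinearGroup.coe_mul, sBorelMat_coe, ha]
  ext i j
  rw [Matrix.mul_apply, Matrix.mul_apply, Fin.sum_univ_two, Fin.sum_univ_two]
  fin_cases i <;> fin_cases j <;> simp [mul_comm]

theorem sBorelMat_split_scalar (a : Fˣ) (ha : a⁻¹ = a) (c : F) :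
    sBorelMat a c = sBorelMat a 0 * sBorelMat 1 ((a : F) * c) := by
  have ha2 : (a : F) * (a : F) = 1 := by
    have h := congrArg Units.val (mul_inv_cancel a)
    rw [ha, Units.val_mul, Units.val_one] at h
    exact h
  apply Subtype.ext
  rw [Matrix.SpecialLinearGroup.coe_mul, sBorelMat_coe, sBorelMat_coe, sBorelMat_coe]
  ext i j
  fin_cases i <;> fin_cases j <;> simp [Matrix.mul_apply, Fin.sum_univ_two, ← mul_assoc, ha2]

theorem sBorelMat_one_inv (c : F) : (sBorelMat 1 c)⁻¹ = sBorelMat (1 : Fˣ) (-c) := by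
  apply inv_eq_of_mul_eq_one_right
  apply Subtype.ext
  rw [Matrix.SpecialLinearGroup.coe_mul, sBorelMat_coe, sBorelMat_coe]
  ext i j
  fin_cases i <;> fin_cases j <;> simp [Matrix.mul_apply, Fin.sum_univ_two]

theorem sum_sq_eq_one (h2F : (2 : F) ≠ 0) (K : ℂ) :
    ∑ a : Fˣ, (if (a : F) ^ 2 = 1 then K else 0) = 2 * K := by
  have hne1 : (1 : Fˣ) ≠ -1 := by
    intro h
    have h' := congrArg Units.val h
    rw [Units.val_one, Units.val_neg, Units.val_one] at h'
    apply h2F
    linear_combination h'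
  rw [Finset.sum_eq_add (1 : Fˣ) (-1) hne1]
  · rw [if_pos (by simp), if_pos (by simp)]
    ring
  · rintro a _ ⟨h1, h2⟩
    rw [if_neg]
    intro hsq
    have h0 : ((a : F) - 1) * ((a : F) + 1) = 0 := by linear_combination hsq
    rcases mul_eq_zero.mp h0 with h | h
    · exact h1 (Units.ext (by rw [Units.val_one]; exact sub_eq_zero.mp h))
    · exact h2 (Units.ext (by
        rw [Units.val_neg, Units.val_one]
        exact eq_neg_of_add_eq_zero_left h))
  · intro h
    exact absurd (Finset.mem_univ _) h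
  · intro h
    exact absurd (Finset.mem_univ _) h

/-- The difference of the values at the transvection of the two constituents of a restriction
of norm two squares to `± q`. -/
theorem unip_diff_sq (hodd : Odd (Fintype.card F))
    {χ : Matrix.GeneralLinearGroup (Fin 2) F → ℂ}
    (hχ : IsIrrCharacter (Matrix.GeneralLinearGroup (Fin 2) F) χ)
    (hn : classInner (resS χ) (resS χ) = 2)
    {θ : Matrix.SpecialLinearGroup (Fin 2) F → ℂ}
    (hθ : IsIrrCharacter (Matrix.SpecialLinearGroup (Fin 2) F) θ)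
    (hin : classInner (resS χ) θ ≠ 0) :
    (2 * θ (sBorelMat 1 1) - χ (uMat 1)) ^ 2 =
      (-1 : ℂ) ^ ((Fintype.card F - 1) / 2) * (Fintype.card F : ℂ) := by
  classical
  obtain ⟨θ', hθ', hne, hsum, t, ht⟩ := half_data hχ hn hθ hin
  have hθcf := Helper2.IsIrrCharacter.isClassFunction hθ
  have hθ'cf := Helper2.IsIrrCharacter.isClassFunction hθ'
  have h2F : (2 : F) ≠ 0 := two_ne_zero_of_odd_card hodd
  have ht0 : (t : F) ≠ 0 := t.ne_zero
  have hsqc : ∀ (s c : F), s ≠ 0 → θ (sBorelMat 1 (s * s * c)) = θ (sBorelMat 1 c) :=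
    fun s c hs => cf_sBorelMat_sq hθcf 1 s c hs
  have htns : ¬ IsSquare (t : F) := by
    rintro ⟨r, hr⟩
    have hr0 : r ≠ 0 := by
      rintro rfl
      rw [mul_zero] at hr
      exact ht0 hr
    apply hne
    funext g
    rw [ht g]
    have ht' : t = Units.mk0 r hr0 * Units.mk0 r hr0 :=
      Units.ext (by rw [Units.val_mul, Units.val_mk0]; exact hr)
    rw [ht']
    exact cf_cxS_sq hθcf _ g
  obtain ⟨A, hA⟩ : ∃ A, A = θ (sBorelMat 1 1) := ⟨_, rfl⟩
  obtain ⟨A', hA'⟩ : ∃ A', A' = θ (sBorelMat 1 (t : F)) := ⟨_, rfl⟩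
  have hθu : ∀ c : F, c ≠ 0 →
      (θ (sBorelMat 1 c) = A ∧ θ (sBorelMat 1 ((t : F) * c)) = A') ∨
      (θ (sBorelMat 1 c) = A' ∧ θ (sBorelMat 1 ((t : F) * c)) = A) := by
    intro c hc
    obtain ⟨d, hd0, hd | hd⟩ := Helper6.exists_sq_or_nonsq_mul_sq htns c hc
    · left
      have h1 := hsqc d 1 hd0
      rw [mul_one] at h1
      have h2 := hsqc d (t : F) hd0
      constructor
      · rw [hd, hA]
        exact h1
      · rw [hd, hA', mul_comm (t : F) (d * d)]
        exact h2
    · right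
      have h2 := hsqc d (t : F) hd0
      have h3 := hsqc ((t : F) * d) 1 (mul_ne_zero ht0 hd0)
      have e : (t : F) * ((t : F) * (d * d)) = (t : F) * d * ((t : F) * d) * 1 := by ring
      constructor
      · rw [hd, hA', mul_comm (t : F) (d * d)]
        exact h2
      · rw [hd, hA, e]
        exact h3
  obtain ⟨f, hfdef⟩ : ∃ f : Matrix.SpecialLinearGroup (Fin 2) F → ℂ,
      f = fun g => (θ g - θ' g) * conj (θ g - θ' g) := ⟨_, rfl⟩
  have hf_apply : ∀ g, f g = (θ g - θ' g) * conj (θ g - θ' g) := by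
    intro g
    rw [hfdef]
  have hfcf : IsClassFunction (Matrix.SpecialLinearGroup (Fin 2) F) f := by
    intro g h
    rw [hf_apply, hf_apply, hθcf g h, hθ'cf g h]
  have hfconj : ∀ g, conj (f g) = f g := by
    intro g
    rw [hf_apply, map_mul, Complex.conj_conj, mul_comm]
  have hf0 : ∀ g : Matrix.SpecialLinearGroup (Fin 2) F,
      (∃ c : Matrix.GeneralLinearGroup (Fin 2) F,
        c * Matrix.SpecialLinearGroup.toGL g = Matrix.SpecialLinearGroup.toGL g * c ∧
        Matrix.GeneralLinearGroup.det c = t) → f g = 0 := by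
    rintro g ⟨c, hc, hdet⟩
    have h3 : θ' g = θ g := by
      rw [ht]
      exact cf_cxS_of_comm hθcf _ c g hc (by rw [hdet, det_borelMat, mul_one])
    rw [hf_apply, h3, sub_self, zero_mul]
  have hG0 : (Nat.card (Matrix.SpecialLinearGroup (Fin 2) F) : ℂ) ≠ 0 := by
    exact_mod_cast Nat.card_pos.ne'
  have hnorm : ∑ g : Matrix.SpecialLinearGroup (Fin 2) F, f g =
      2 * (Nat.card (Matrix.SpecialLinearGroup (Fin 2) F) : ℂ) := by
    have h : classInner (θ - θ') (θ - θ') = 2 := by
      rw [Helper2.classInner_sub_left, Helper2.classInner_sub_right,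
        Helper2.classInner_sub_right, Helper2.classInner_irr hθ hθ,
        Helper2.classInner_irr hθ hθ', Helper2.classInner_irr hθ' hθ,
        Helper2.classInner_irr hθ' hθ', if_pos rfl, if_pos rfl, if_neg hne,
        if_neg (Ne.symm hne)]
      norm_num
    unfold classInner at h
    rw [inv_mul_eq_iff_eq_mul₀ hG0] at h
    rw [mul_comm, ← h]
    exact Finset.sum_congr rfl (fun g _ => hf_apply g)
  have hNf : ∀ g : Matrix.SpecialLinearGroup (Fin 2) F,
      rFun (1 : MulChar F ℂ) g * f g = f g := by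
    intro g
    by_cases hE : ∀ (c : F) (v : Fin 2 → F), v ≠ 0 →
        (g : Matrix (Fin 2) (Fin 2) F).mulVec v ≠ c • v
    · have hz : f g = 0 := by
        apply hf0
        obtain ⟨x, y, hxy⟩ := norm_elliptic hodd g hE t
        exact centralizer_of_norm g t x y hxy
      rw [hz, mul_zero]
    · obtain ⟨s, a, c, hs⟩ := exists_conj_sBorelMat g hE
      have hN : rFun (1 : MulChar F ℂ) g = rFun (1 : MulChar F ℂ) (sBorelMat a c) := by
        rw [← hs]
        exact (Helper2.isClassFunction_indFun _ _ g s).symm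
      have hf' : f g = f (sBorelMat a c) := by
        rw [← hs]
        exact (hfcf g s).symm
      rw [hN, hf']
      by_cases ha : (a : F) ^ 2 = 1
      · have hainv : a⁻¹ = a := by
          apply inv_eq_of_mul_eq_one_right
          apply Units.ext
          rw [Units.val_mul, Units.val_one, ← sq]
          exact ha
        by_cases hc0 : c = 0
        · have hz : f (sBorelMat a c) = 0 := by
            apply hf0
            rw [hc0]
            exact centralizer_diag (sBorelMat a 0) rfl rfl t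
          rw [hz, mul_zero]
        · rw [rFun_one_unip a hainv c hc0, one_mul]
      · have hz : f (sBorelMat a c) = 0 := by
          apply hf0
          obtain ⟨x, y, hxy⟩ := norm_split a ha t
          apply centralizer_of_norm (sBorelMat a c) t x y
          rw [← Units.val_inv_eq_inv_val] at hxy
          exact hxy
        rw [hz, mul_zero]
  have hFrob : (Nat.card (sBorel F) : ℂ)⁻¹ * ∑ a : Fˣ, ∑ c : F, f (sBorelMat a c) = 2 := by
    have h1 := classInner_rFun_one_eq (F := F) hfcf
    simp only [hfconj] at h1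
    rw [← h1]
    unfold classInner
    simp only [hfconj, hNf]
    rw [hnorm]
    field_simp
  obtain ⟨n, hn⟩ : ∃ n : ℂ, n = (A - A') * conj (A - A') := ⟨_, rfl⟩
  have hfu : ∀ c : F, f (sBorelMat 1 c) = if c = 0 then 0 else n := by
    intro c
    by_cases hc0 : c = 0
    · rw [if_pos hc0, hc0]
      apply hf0
      exact centralizer_diag (sBorelMat 1 0) rfl rfl t
    · rw [if_neg hc0, hf_apply, ht (sBorelMat 1 c), cxS_diag_sBorelMat]
      rcases hθu c hc0 with ⟨h1, h2⟩ | ⟨h1, h2⟩
      · rw [h1, h2, hn]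
      · rw [h1, h2, hn, map_sub, map_sub]
        ring
  have hfz : ∀ (a : Fˣ), a⁻¹ = a → ∀ g : Matrix.SpecialLinearGroup (Fin 2) F,
      f (sBorelMat a 0 * g) = f g := by
    intro a ha g
    obtain ⟨ω, hω, hωθ⟩ := central_char_unit hθ (sBorelMat a 0) (sBorelMat_scalar_central a ha)
    have h1 : θ' (sBorelMat a 0 * g) = ω * θ' g := by
      rw [ht, ht, map_mul, cxS_diag_sBorelMat, mul_zero, hωθ]
    rw [hf_apply, hf_apply, hωθ, h1, ← mul_sub, map_mul]
    linear_combination ((θ g - θ' g) * conj (θ g - θ' g)) * hω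
  have hsum_a : ∀ a : Fˣ, ∑ c : F, f (sBorelMat a c) =
      if (a : F) ^ 2 = 1 then ((Fintype.card F : ℂ) - 1) * n else 0 := by
    intro a
    by_cases ha : (a : F) ^ 2 = 1
    · have hainv : a⁻¹ = a := by
        apply inv_eq_of_mul_eq_one_right
        apply Units.ext
        rw [Units.val_mul, Units.val_one, ← sq]
        exact ha
      rw [if_pos ha]
      have h1 : ∀ c : F, f (sBorelMat a c) = f (sBorelMat 1 ((a : F) * c)) := by
        intro c
        rw [sBorelMat_split_scalar a hainv c, hfz a hainv]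
      have h2 : ∑ c : F, f (sBorelMat 1 ((a : F) * c)) = ∑ c : F, f (sBorelMat 1 c) :=
        Equiv.sum_comp (Equiv.mulLeft₀ (a : F) a.ne_zero) (fun c => f (sBorelMat 1 c))
      rw [Finset.sum_congr rfl (fun c _ => h1 c), h2,
        Finset.sum_congr rfl (fun c _ => hfu c), sum_ite_zero, zero_add]
    · rw [if_neg ha]
      refine Finset.sum_eq_zero (fun c _ => ?_)
      apply hf0
      obtain ⟨x, y, hxy⟩ := norm_split a ha t
      apply centralizer_of_norm (sBorelMat a c) t x y
      rw [← Units.val_inv_eq_inv_val] at hxy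
      exact hxy
  have hq0 := card_ne_zero_aux (F := F)
  have hn_eq : n = (Fintype.card F : ℂ) := by
    rw [Finset.sum_congr rfl (fun a _ => hsum_a a), sum_sq_eq_one h2F, card_sBorel_cast,
      inv_mul_eq_iff_eq_mul₀ (mul_ne_zero hq0.2 hq0.1)] at hFrob
    have h5 : ((Fintype.card F : ℂ) - 1) * (n - (Fintype.card F : ℂ)) = 0 := by
      linear_combination hFrob / 2
    rcases mul_eq_zero.mp h5 with h | h
    · exact absurd h hq0.2
    · exact sub_eq_zero.mp h
  have hconjθ : ∀ c : F, conj (θ (sBorelMat 1 c)) = θ (sBorelMat 1 (-c)) := by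
    intro c
    rw [← Helper24.char_inv (Helper24.isCharacter_of_irr hθ), sBorelMat_one_inv]
  have hAA' : χ (uMat 1) = A + A' := by
    have h := congrFun hsum (sBorelMat 1 1)
    rw [resS_apply, toGL_sBorelMat_one, Pi.add_apply, ht, cxS_diag_sBorelMat, mul_one, ← hA,
      ← hA'] at h
    exact h
  have hgoal : (2 * A - χ (uMat 1)) ^ 2 = (A - A') ^ 2 := by
    rw [hAA']
    ring
  rw [← hA, hgoal]
  by_cases hm1 : IsSquare (-1 : F)
  · obtain ⟨r, hr⟩ := hm1
    have hr0 : r ≠ 0 := by
      rintro rfl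
      simp at hr
    have hcA : conj A = A := by
      rw [hA, hconjθ, hr]
      have h := hsqc r 1 hr0
      rw [mul_one] at h
      exact h
    have hcA' : conj A' = A' := by
      rw [hA', hconjθ]
      have e : -(t : F) = r * r * (t : F) := by
        rw [← hr]
        ring
      rw [e]
      exact hsqc r (t : F) hr0
    have hpow : (-1 : ℂ) ^ ((Fintype.card F - 1) / 2) = 1 := by
      have h4 := FiniteField.isSquare_neg_one_iff.mp ⟨r, hr⟩
      obtain ⟨k, hk⟩ := hodd
      have hev : Even ((Fintype.card F - 1) / 2) := by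
        rw [Nat.even_iff]
        omega
      exact Even.neg_one_pow hev
    rw [hpow, one_mul, ← hn_eq, hn, map_sub, hcA, hcA']
    ring
  · have hd : IsSquare ((-1 : F) / (t : F)) := Helper6.isSquare_div_of_not_isSquare hm1 htns
    obtain ⟨r, hr⟩ := hd
    have hr' : (-1 : F) = r * r * (t : F) := by
      rw [← hr, div_mul_cancel₀ _ ht0]
    have hr0 : r ≠ 0 := by
      rintro rfl
      simp at hr'
    have hcA : conj A = A' := by
      rw [hA, hconjθ, hA', hr']
      exact hsqc r (t : F) hr0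
    have hcA' : conj A' = A := by
      rw [hA', hconjθ, hA]
      have e : -(t : F) = (r * (t : F)) * (r * (t : F)) * 1 := by
        rw [mul_one]
        linear_combination (t : F) * hr'
      rw [e]
      exact hsqc (r * (t : F)) 1 (mul_ne_zero hr0 ht0)
    have hpow : (-1 : ℂ) ^ ((Fintype.card F - 1) / 2) = -1 := by
      have h4 : Fintype.card F % 4 = 3 := by
        by_contra h
        exact hm1 (FiniteField.isSquare_neg_one_iff.mpr h)
      have hod : Odd ((Fintype.card F - 1) / 2) := by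
        rw [Nat.odd_iff]
        omega
      exact Odd.neg_one_pow hod
    rw [hpow, ← hn_eq, hn, map_sub, hcA, hcA']
    ring

/-- Two distinct constituents of the same restriction of norm two: their values at the
transvection add up to the value of the character of `GL₂`. -/
theorem unip_sum_partner {χ : Matrix.GeneralLinearGroup (Fin 2) F → ℂ}
    (hχ : IsIrrCharacter (Matrix.GeneralLinearGroup (Fin 2) F) χ)
    (hn : classInner (resS χ) (resS χ) = 2)
    {θ₁ θ₂ : Matrix.SpecialLinearGroup (Fin 2) F → ℂ}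
    (h1 : IsIrrCharacter (Matrix.SpecialLinearGroup (Fin 2) F) θ₁)
    (h2 : IsIrrCharacter (Matrix.SpecialLinearGroup (Fin 2) F) θ₂) (hne : θ₁ ≠ θ₂)
    (hin1 : classInner (resS χ) θ₁ ≠ 0) (hin2 : classInner (resS χ) θ₂ ≠ 0) :
    θ₁ (sBorelMat 1 1) + θ₂ (sBorelMat 1 1) = χ (uMat 1) := by
  obtain ⟨θ', hθ', hne', hsum, t, ht⟩ := half_data hχ hn h1 hin1
  rcases constituent_cases h1 hθ' h2 hsum hin2 with e | e
  · exact absurd e hne
  · have h := congrFun hsum (sBorelMat 1 1)
    rw [resS_apply, toGL_sBorelMat_one, Pi.add_apply, e] at h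
    exact h.symm

/-- The two irreducible characters of degree `(q + 1) / 2`. -/
theorem unip_sum_half_add (hodd : Odd (Fintype.card F)) (hq : 5 ≤ Fintype.card F)
    {θ₁ θ₂ : Matrix.SpecialLinearGroup (Fin 2) F → ℂ}
    (h1 : IsIrrCharacter (Matrix.SpecialLinearGroup (Fin 2) F) θ₁)
    (h2 : IsIrrCharacter (Matrix.SpecialLinearGroup (Fin 2) F) θ₂) (hne : θ₁ ≠ θ₂)
    (hd1 : θ₁ 1 = (((Fintype.card F + 1) / 2 : ℕ) : ℂ))
    (hd2 : θ₂ 1 = (((Fintype.card F + 1) / 2 : ℕ) : ℂ)) :
    θ₁ (sBorelMat 1 1) + θ₂ (sBorelMat 1 1) = 1 := by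
  obtain ⟨γ, hγ, hγ1, hin1⟩ := irr_deg_half_add hodd hq h1 hd1
  obtain ⟨γ', hγ', hγ1', hin2⟩ := irr_deg_half_add hodd hq h2 hd2
  have hγγ : γ' = γ := mulChar_order_two_unique hγ' hγ1' hγ hγ1
  rw [hγγ] at hin2
  have hps : IsIrrCharacter (Matrix.GeneralLinearGroup (Fin 2) F) (psFun γ 1) :=
    isIrrCharacter_psFun hγ1
  have hres : resS (psFun γ 1) = rFun γ := by rw [resS_psFun, inv_one, mul_one]
  have hn : classInner (resS (psFun γ 1)) (resS (psFun γ 1)) = 2 := by
    rw [hres]; exact norm_rFun_two hγ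
  have h := unip_sum_partner hps hn h1 h2 hne (by rw [hres]; exact hin1)
    (by rw [hres]; exact hin2)
  rw [psFun_uMat] at h
  exact h

/-- The two irreducible characters of degree `(q - 1) / 2`. -/
theorem unip_sum_half_sub (hodd : Odd (Fintype.card F)) (hq : 5 ≤ Fintype.card F)
    (hcl : Nat.card (ConjClasses (Matrix.SpecialLinearGroup (Fin 2) F)) = Fintype.card F + 4)
    {θ₁ θ₂ : Matrix.SpecialLinearGroup (Fin 2) F → ℂ}
    (h1 : IsIrrCharacter (Matrix.SpecialLinearGroup (Fin 2) F) θ₁)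
    (h2 : IsIrrCharacter (Matrix.SpecialLinearGroup (Fin 2) F) θ₂) (hne : θ₁ ≠ θ₂)
    (hd1 : θ₁ 1 = (((Fintype.card F - 1) / 2 : ℕ) : ℂ))
    (hd2 : θ₂ 1 = (((Fintype.card F - 1) / 2 : ℕ) : ℂ)) :
    θ₁ (sBorelMat 1 1) + θ₂ (sBorelMat 1 1) = -1 := by
  obtain ⟨ψ, hψ, hc, hn, hin1⟩ := irr_deg_half_sub hodd hq h1 hd1
  obtain ⟨θ', hθ', hne', hsum, t, ht⟩ := half_data hψ hn h1 hin1
  have hin' : classInner (resS ψ) θ' ≠ 0 := by
    rw [hsum, Helper2.classInner_add_left, Helper2.classInner_irr h1 hθ',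
      Helper2.classInner_irr hθ' hθ', if_pos rfl, if_neg (Ne.symm hne')]
    norm_num
  have hdeg' : θ' 1 = (((Fintype.card F - 1) / 2 : ℕ) : ℂ) := by
    have h := res_two hψ hn hθ' hin'
    rw [(cusp_main.1 ψ hψ hc).1] at h
    obtain ⟨k, hk⟩ := hodd
    have hhalf : (Fintype.card F - 1) / 2 = k := by omega
    have hqC : (Fintype.card F : ℂ) = 2 * (k : ℂ) + 1 := by rw [hk]; push_cast; ring
    rw [hhalf]
    rw [hqC] at h
    linear_combination h / 2
  have hcount := (counts_odd hodd hq hcl).2.2.2.2.2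
  unfold cntS at hcount
  obtain ⟨x, y, hxy, huniv⟩ := Nat.card_eq_two_iff.mp hcount
  have hmem : ∀ z : {χ : IrrCharacter (Matrix.SpecialLinearGroup (Fin 2) F) //
      (χ : Matrix.SpecialLinearGroup (Fin 2) F → ℂ) 1 =
        (((Fintype.card F - 1) / 2 : ℕ) : ℂ)}, z = x ∨ z = y := by
    intro z
    have hz : z ∈ ({x, y} : Set _) := by
      rw [huniv]
      exact Set.mem_univ z
    exact hz
  have e : θ' = θ₂ := by
    have key : ∀ a b c : {χ : IrrCharacter (Matrix.SpecialLinearGroup (Fin 2) F) //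
        (χ : Matrix.SpecialLinearGroup (Fin 2) F → ℂ) 1 =
          (((Fintype.card F - 1) / 2 : ℕ) : ℂ)}, a ≠ b → a ≠ c → b = c := by
      intro a b c hab hac
      rcases hmem a with ha | ha <;> rcases hmem b with hb | hb <;> rcases hmem c with hc | hc
      · exact absurd (ha.trans hb.symm) hab
      · exact absurd (ha.trans hb.symm) hab
      · exact absurd (ha.trans hc.symm) hac
      · exact hb.trans hc.symm
      · exact hb.trans hc.symm
      · exact absurd (ha.trans hc.symm) hac
      · exact absurd (ha.trans hb.symm) hab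
      · exact absurd (ha.trans hb.symm) hab
    have h3 := key ⟨⟨θ₁, h1⟩, hd1⟩ ⟨⟨θ', hθ'⟩, hdeg'⟩ ⟨⟨θ₂, h2⟩, hd2⟩
      (fun h => hne' (congrArg (fun z => z.1.1) h).symm)
      (fun h => hne (congrArg (fun z => z.1.1) h))
    exact congrArg (fun z => z.1.1) h3
  have h := congrFun hsum (sBorelMat 1 1)
  rw [resS_apply, toGL_sBorelMat_one, Pi.add_apply, e, (cusp_main.1 ψ hψ hc).2] at h
  exact h.symm

end Unip

end Cfsg.Agent.Helper13
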