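import Cfsg.Prelude.Def_DegreeGraph
import Cfsg.Agent.Helper13.SL2Unip
import Cfsg.Agent.Helper13.SL2Count
import Cfsg.Agent.Helper6.Inflate
import Cfsg.Agent.Helper6.Kernel
import Cfsg.Agent.S2325
import Cfsg.Agent.S2331

/-!
# Character degrees of `SL₂(q)` and `PSL₂(q)` and their degree graphs
-/

set_option autoImplicit false

namespace Cfsg.Agent.Helper13

open Cfsg
open scoped ComplexConjugate

section GenDeg

theorem charDegree_of_eq {G : Type*} [Group G] {χ : G → ℂ} {d : ℕ} (h : χ 1 = (d : ℂ)) :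
    charDegree χ = d := by
  unfold charDegree
  rw [h, Complex.natCast_re, Nat.floor_natCast]

theorem charDegrees_mulEquiv {K H : Type*} [Group K] [Group H] [Finite K] [Finite H]
    (e : K ≃* H) : charDegrees K = charDegrees H := by
  classical
  haveI := Fintype.ofFinite K
  haveI := Fintype.ofFinite H
  ext d
  constructor
  · intro hd
    obtain ⟨χ, rfl⟩ := hd
    refine ⟨⟨χ.1 ∘ e.symm, Helper6.isIrrCharacter_comp_mulEquiv e.symm χ.2⟩, ?_⟩
    show charDegree (χ.1 ∘ e.symm) = charDegree χ.1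
    unfold charDegree
    rw [Function.comp_apply, map_one]
  · intro hd
    obtain ⟨χ, rfl⟩ := hd
    refine ⟨⟨χ.1 ∘ e, Helper6.isIrrCharacter_comp_mulEquiv e χ.2⟩, ?_⟩
    show charDegree (χ.1 ∘ e) = charDegree χ.1
    unfold charDegree
    rw [Function.comp_apply, map_one]

theorem charDegrees_quotient_subset {G : Type*} [Group G] [Finite G] (N : Subgroup G)
    [N.Normal] : charDegrees (G ⧸ N) ⊆ charDegrees G := by
  classical
  haveI := Fintype.ofFinite G
  haveI : Fintype (G ⧸ N) := Fintype.ofFinite _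
  intro d hd
  obtain ⟨χ, rfl⟩ := hd
  refine ⟨⟨χ.1 ∘ (QuotientGroup.mk' N), Helper6.isIrrCharacter_comp_surjective _
    (QuotientGroup.mk'_surjective N) χ.2⟩, ?_⟩
  show charDegree (χ.1 ∘ (QuotientGroup.mk' N)) = charDegree χ.1
  unfold charDegree
  rw [Function.comp_apply, map_one]

/-- An irreducible character taking its degree on a normal subgroup deflates to the quotient. -/
theorem exists_deflation_of_ker {G : Type*} [Group G] [Finite G] (N : Subgroup G) [N.Normal]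
    {ψ : G → ℂ} (hψ : IsIrrCharacter G ψ) (hN : ∀ z ∈ N, ψ z = ψ 1) :
    ∃ β : G ⧸ N → ℂ, IsIrrCharacter (G ⧸ N) β ∧ ∀ g : G, β (g : G ⧸ N) = ψ g := by
  classical
  haveI := Fintype.ofFinite G
  haveI : Fintype (G ⧸ N) := Fintype.ofFinite _
  refine Helper6.exists_deflation N hψ (fun m hm γ => ?_)
  have h1 := Helper6.char_mul_of_eq_degree (Helper24.isCharacter_of_irr hψ) (hN m hm) γ
  have h2 := Helper2.IsIrrCharacter.isClassFunction hψ (γ * m) m
  rw [← h1, ← h2]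
  congr 1
  group

theorem mem_charDegrees_quotient {G : Type*} [Group G] [Finite G] (N : Subgroup G) [N.Normal]
    {ψ : G → ℂ} (hψ : IsIrrCharacter G ψ) (hN : ∀ z ∈ N, ψ z = ψ 1) :
    charDegree ψ ∈ charDegrees (G ⧸ N) := by
  obtain ⟨β, hβ, hval⟩ := exists_deflation_of_ker N hψ hN
  refine ⟨⟨β, hβ⟩, ?_⟩
  show charDegree β = charDegree ψ
  unfold charDegree
  rw [← hval 1, QuotientGroup.mk_one]

theorem card_quot_deg_le {G : Type*} [Group G] [Finite G] (N : Subgroup G) [N.Normal] (d : ℂ) :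
    Nat.card {χ : IrrCharacter (G ⧸ N) // (χ : G ⧸ N → ℂ) 1 = d} ≤
      Nat.card {ψ : IrrCharacter G // (ψ : G → ℂ) 1 = d} := by
  classical
  haveI := Fintype.ofFinite G
  haveI : Fintype (G ⧸ N) := Fintype.ofFinite _
  haveI := Helper24.finite_irrCharacter (G := G)
  apply Nat.card_le_card_of_injective
    (fun χ : {χ : IrrCharacter (G ⧸ N) // (χ : G ⧸ N → ℂ) 1 = d} =>
      (⟨⟨χ.1.1 ∘ (QuotientGroup.mk' N), Helper6.isIrrCharacter_comp_surjective _
        (QuotientGroup.mk'_surjective N) χ.1.2⟩, by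
          show χ.1.1 ((QuotientGroup.mk' N) 1) = d
          rw [map_one]
          exact χ.2⟩ : {ψ : IrrCharacter G // (ψ : G → ℂ) 1 = d}))
  intro a b h
  have h1 : a.1.1 ∘ (QuotientGroup.mk' N) = b.1.1 ∘ (QuotientGroup.mk' N) :=
    congrArg (fun x => x.1.1) h
  apply Subtype.ext
  apply Subtype.ext
  exact (QuotientGroup.mk'_surjective N).injective_comp_right h1

theorem sq_sub_one_eq (q : ℕ) (h : 1 ≤ q) : q ^ 2 - 1 = (q - 1) * (q + 1) := by
  obtain ⟨m, rfl⟩ := Nat.exists_eq_add_of_le' h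
  have : (m + 1) ^ 2 = m * (m + 1 + 1) + 1 := by ring
  rw [this, Nat.add_sub_cancel, Nat.add_sub_cancel]

/-- The degree graph of a group with character degrees `1, q - 1, q, q + 1`, `q` a power of 2. -/
theorem degGraph_even {S : Type*} [Group S] (q n : ℕ) (hqn : q = 2 ^ n) (h4 : 4 ≤ q)
    (hD : charDegrees S = {1, q - 1, q, q + 1}) :
    degreePrimes S = {r : ℕ | r.Prime ∧ r ∣ q * (q ^ 2 - 1)} ∧
    ∀ r s : ℕ, (degreeGraph S).Adj r s ↔ (r ≠ s ∧ r.Prime ∧ s.Prime ∧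
      ((r ∣ q + 1 ∧ s ∣ q + 1) ∨ (r ∣ q - 1 ∧ s ∣ q - 1))) := by
  have hsq := sq_sub_one_eq q (by omega)
  constructor
  · ext r
    show (r.Prime ∧ ∃ d ∈ charDegrees S, r ∣ d) ↔ (r.Prime ∧ r ∣ q * (q ^ 2 - 1))
    rw [hD, hsq]
    simp only [Set.mem_insert_iff, Set.mem_singleton_iff]
    constructor
    · rintro ⟨hr, d, hd, hrd⟩
      refine ⟨hr, ?_⟩
      rcases hd with rfl | rfl | rfl | rfl
      · exact absurd (Nat.dvd_one.mp hrd) hr.one_lt.ne'
      · exact Dvd.dvd.mul_left (Dvd.dvd.mul_right hrd _) _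
      · exact Dvd.dvd.mul_right hrd _
      · exact Dvd.dvd.mul_left (Dvd.dvd.mul_left hrd _) _
    · rintro ⟨hr, hrd⟩
      refine ⟨hr, ?_⟩
      rcases (Nat.Prime.dvd_mul hr).mp hrd with h | h
      · exact ⟨q, Or.inr (Or.inr (Or.inl rfl)), h⟩
      · rcases (Nat.Prime.dvd_mul hr).mp h with h | h
        · exact ⟨q - 1, Or.inr (Or.inl rfl), h⟩
        · exact ⟨q + 1, Or.inr (Or.inr (Or.inr rfl)), h⟩
  · intro r s
    show (r ≠ s ∧ r.Prime ∧ s.Prime ∧ ∃ d ∈ charDegrees S, r * s ∣ d) ↔ _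
    rw [hD]
    simp only [Set.mem_insert_iff, Set.mem_singleton_iff]
    constructor
    · rintro ⟨hne, hr, hs, d, hd, hrd⟩
      have hr' : r ∣ d := (dvd_mul_right r s).trans hrd
      have hs' : s ∣ d := (dvd_mul_left s r).trans hrd
      refine ⟨hne, hr, hs, ?_⟩
      rcases hd with rfl | rfl | rfl | rfl
      · exact absurd (Nat.dvd_one.mp hr') hr.one_lt.ne'
      · exact Or.inr ⟨hr', hs'⟩
      · exfalso
        rw [hqn] at hr' hs'
        have hr2 : r = 2 :=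
          (Nat.prime_dvd_prime_iff_eq hr Nat.prime_two).mp (hr.dvd_of_dvd_pow hr')
        have hs2 : s = 2 :=
          (Nat.prime_dvd_prime_iff_eq hs Nat.prime_two).mp (hs.dvd_of_dvd_pow hs')
        exact hne (hr2.trans hs2.symm)
      · exact Or.inl ⟨hr', hs'⟩
    · rintro ⟨hne, hr, hs, h⟩
      refine ⟨hne, hr, hs, ?_⟩
      have hcop : Nat.Coprime r s := (Nat.coprime_primes hr hs).mpr hne
      rcases h with ⟨h1, h2⟩ | ⟨h1, h2⟩
      · exact ⟨q + 1, Or.inr (Or.inr (Or.inr rfl)), hcop.mul_dvd_of_dvd_of_dvd h1 h2⟩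
      · exact ⟨q - 1, Or.inr (Or.inl rfl), hcop.mul_dvd_of_dvd_of_dvd h1 h2⟩

/-- The degree graph of a group whose character degrees lie in
`1, q, q + 1, q - 1, (q + 1) / 2, (q - 1) / 2` and include `q, q + 1, q - 1`, `q` an odd prime
power. -/
theorem degGraph_odd {S : Type*} [Group S] (q t n : ℕ) (ht : t.Prime) (hqn : q = t ^ n)
    (hodd : Odd q)
    (hsub : ∀ d ∈ charDegrees S, d = 1 ∨ d = q ∨ d = q + 1 ∨ d = q - 1 ∨ d = (q + 1) / 2 ∨
      d = (q - 1) / 2)
    (hq : q ∈ charDegrees S) (hp : q + 1 ∈ charDegrees S) (hm : q - 1 ∈ charDegrees S) :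
    degreePrimes S = {r : ℕ | r.Prime ∧ r ∣ q * (q ^ 2 - 1)} ∧
    ∀ r s : ℕ, (degreeGraph S).Adj r s ↔ (r ≠ s ∧ r.Prime ∧ s.Prime ∧ r ∣ q ^ 2 - 1 ∧
      s ∣ q ^ 2 - 1 ∧ (r = 2 ∨ s = 2 ∨ (r ∣ q + 1 ∧ s ∣ q + 1) ∨ (r ∣ q - 1 ∧ s ∣ q - 1))) := by
  obtain ⟨k, hk⟩ := hodd
  have hsq := sq_sub_one_eq q (by omega)
  have hhp : (q + 1) / 2 ∣ q + 1 := ⟨2, by omega⟩
  have hhm : (q - 1) / 2 ∣ q - 1 := ⟨2, by omega⟩
  have h2p : 2 ∣ q + 1 := ⟨k + 1, by omega⟩
  have h2m : 2 ∣ q - 1 := ⟨k, by omega⟩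
  have key : ∀ d ∈ charDegrees S, d = 1 ∨ d = q ∨ d ∣ q + 1 ∨ d ∣ q - 1 := by
    intro d hd
    rcases hsub d hd with h | h | h | h | h | h
    · exact Or.inl h
    · exact Or.inr (Or.inl h)
    · exact Or.inr (Or.inr (Or.inl (by rw [h])))
    · exact Or.inr (Or.inr (Or.inr (by rw [h])))
    · exact Or.inr (Or.inr (Or.inl (by rw [h]; exact hhp)))
    · exact Or.inr (Or.inr (Or.inr (by rw [h]; exact hhm)))
  constructor
  · ext r
    show (r.Prime ∧ ∃ d ∈ charDegrees S, r ∣ d) ↔ (r.Prime ∧ r ∣ q * (q ^ 2 - 1))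
    rw [hsq]
    constructor
    · rintro ⟨hr, d, hd, hrd⟩
      refine ⟨hr, ?_⟩
      rcases key d hd with h | h | h | h
      · rw [h] at hrd
        exact absurd (Nat.dvd_one.mp hrd) hr.one_lt.ne'
      · rw [h] at hrd
        exact Dvd.dvd.mul_right hrd _
      · exact Dvd.dvd.mul_left (Dvd.dvd.mul_left (hrd.trans h) _) _
      · exact Dvd.dvd.mul_left (Dvd.dvd.mul_right (hrd.trans h) _) _
    · rintro ⟨hr, hrd⟩
      refine ⟨hr, ?_⟩
      rcases (Nat.Prime.dvd_mul hr).mp hrd with h | h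
      · exact ⟨q, hq, h⟩
      · rcases (Nat.Prime.dvd_mul hr).mp h with h | h
        · exact ⟨q - 1, hm, h⟩
        · exact ⟨q + 1, hp, h⟩
  · intro r s
    show (r ≠ s ∧ r.Prime ∧ s.Prime ∧ ∃ d ∈ charDegrees S, r * s ∣ d) ↔ _
    rw [hsq]
    constructor
    · rintro ⟨hne, hr, hs, d, hd, hrd⟩
      have hr' : r ∣ d := (dvd_mul_right r s).trans hrd
      have hs' : s ∣ d := (dvd_mul_left s r).trans hrd
      rcases key d hd with h | h | h | h
      · exfalso
        rw [h] at hr'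
        exact hr.one_lt.ne' (Nat.dvd_one.mp hr')
      · exfalso
        rw [h, hqn] at hr' hs'
        have hr2 : r = t := (Nat.prime_dvd_prime_iff_eq hr ht).mp (hr.dvd_of_dvd_pow hr')
        have hs2 : s = t := (Nat.prime_dvd_prime_iff_eq hs ht).mp (hs.dvd_of_dvd_pow hs')
        exact hne (hr2.trans hs2.symm)
      · have hr1 := hr'.trans h
        have hs1 := hs'.trans h
        exact ⟨hne, hr, hs, Dvd.dvd.mul_left hr1 _, Dvd.dvd.mul_left hs1 _,
          Or.inr (Or.inr (Or.inl ⟨hr1, hs1⟩))⟩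
      · have hr1 := hr'.trans h
        have hs1 := hs'.trans h
        exact ⟨hne, hr, hs, Dvd.dvd.mul_right hr1 _, Dvd.dvd.mul_right hs1 _,
          Or.inr (Or.inr (Or.inr ⟨hr1, hs1⟩))⟩
    · rintro ⟨hne, hr, hs, hr1, hs1, h⟩
      refine ⟨hne, hr, hs, ?_⟩
      have hcop : Nat.Coprime r s := (Nat.coprime_primes hr hs).mpr hne
      rcases h with h | h | ⟨h1, h2⟩ | ⟨h1, h2⟩
      · rw [h] at hcop ⊢
        rcases (Nat.Prime.dvd_mul hs).mp hs1 with h' | h'
        · exact ⟨q - 1, hm, hcop.mul_dvd_of_dvd_of_dvd h2m h'⟩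
        · exact ⟨q + 1, hp, hcop.mul_dvd_of_dvd_of_dvd h2p h'⟩
      · rw [h] at hcop ⊢
        rcases (Nat.Prime.dvd_mul hr).mp hr1 with h' | h'
        · exact ⟨q - 1, hm, hcop.mul_dvd_of_dvd_of_dvd h' h2m⟩
        · exact ⟨q + 1, hp, hcop.mul_dvd_of_dvd_of_dvd h' h2p⟩
      · exact ⟨q + 1, hp, hcop.mul_dvd_of_dvd_of_dvd h1 h2⟩
      · exact ⟨q - 1, hm, hcop.mul_dvd_of_dvd_of_dvd h1 h2⟩

end GenDeg

section Center

variable {F : Type*} [Field F] [Fintype F] [DecidableEq F]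

theorem unit_inv_eq_self {a : Fˣ} (ha : a⁻¹ = a) : a = 1 ∨ a = -1 := by
  have h0 : a * a = 1 := by
    have := mul_inv_cancel a
    rwa [ha] at this
  have h1 : (a : F) * (a : F) = 1 := by rw [← Units.val_mul, h0, Units.val_one]
  rcases mul_self_eq_one_iff.mp h1 with h | h
  · exact Or.inl (Units.ext h)
  · exact Or.inr (Units.ext (by rw [h, Units.val_neg, Units.val_one]))

theorem sBorelMat_one_zero_psl : sBorelMat (1 : Fˣ) (0 : F) = 1 := by
  apply Subtype.ext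
  rw [sBorelMat_coe]
  ext i j
  fin_cases i <;> fin_cases j <;> simp

theorem center_SL2_cases {z : Matrix.SpecialLinearGroup (Fin 2) F}
    (hz : z ∈ Subgroup.center (Matrix.SpecialLinearGroup (Fin 2) F)) :
    ∃ a : Fˣ, a⁻¹ = a ∧ z = sBorelMat a 0 := by
  obtain ⟨r, hr, hrz⟩ := Matrix.SpecialLinearGroup.mem_center_iff.mp hz
  rw [Fintype.card_fin] at hr
  have hr0 : r ≠ 0 := by
    rintro rfl
    simp at hr
  have hmul : Units.mk0 r hr0 * Units.mk0 r hr0 = 1 := by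
    apply Units.ext
    rw [Units.val_mul, Units.val_mk0, Units.val_one, ← sq]
    exact hr
  have hinv : (Units.mk0 r hr0)⁻¹ = Units.mk0 r hr0 := inv_eq_of_mul_eq_one_right hmul
  refine ⟨Units.mk0 r hr0, hinv, ?_⟩
  apply Subtype.ext
  rw [sBorelMat_coe, hinv, ← hrz]
  ext i j
  fin_cases i <;> fin_cases j <;> simp

theorem center_SL2_char_two [CharP F 2] {z : Matrix.SpecialLinearGroup (Fin 2) F}
    (hz : z ∈ Subgroup.center (Matrix.SpecialLinearGroup (Fin 2) F)) : z = 1 := by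
  obtain ⟨a, ha, rfl⟩ := center_SL2_cases hz
  rcases unit_inv_eq_self ha with h | h
  · rw [h]
    exact sBorelMat_one_zero_psl
  · have h1 : (-1 : Fˣ) = 1 :=
      Units.ext (by rw [Units.val_neg, Units.val_one]; exact CharTwo.neg_eq 1)
    rw [h, h1]
    exact sBorelMat_one_zero_psl

theorem card_center_SL2_le :
    Nat.card (Subgroup.center (Matrix.SpecialLinearGroup (Fin 2) F)) ≤ 2 := by
  classical
  have h1 : ((-1 : Fˣ))⁻¹ = -1 := inv_neg_one
  have hf : Function.Surjective (fun b : Bool =>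
      (match b with
      | true => ⟨sBorelMat 1 0, sBorelMat_scalar_central 1 inv_one⟩
      | false => ⟨sBorelMat (-1) 0, sBorelMat_scalar_central (-1) h1⟩ :
        Subgroup.center (Matrix.SpecialLinearGroup (Fin 2) F))) := by
    intro z
    obtain ⟨a, ha, hz⟩ := center_SL2_cases z.2
    rcases unit_inv_eq_self ha with h | h
    · exact ⟨true, Subtype.ext (by rw [hz, h])⟩
    · exact ⟨false, Subtype.ext (by rw [hz, h])⟩
  have h2 := Nat.card_le_card_of_surjective _ hf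
  rw [Nat.card_eq_fintype_card (α := Bool), Fintype.card_bool] at h2
  exact h2

theorem stS_center {z : Matrix.SpecialLinearGroup (Fin 2) F}
    (hz : z ∈ Subgroup.center (Matrix.SpecialLinearGroup (Fin 2) F)) : stS F z = stS F 1 := by
  obtain ⟨a, ha, rfl⟩ := center_SL2_cases hz
  rw [stS_one]
  unfold stS
  rw [Pi.sub_apply, rFun_one_scalar a ha]
  ring

theorem rFun_scalar (γ : MulChar F ℂ) (a : Fˣ) (ha : a⁻¹ = a) :
    rFun γ (sBorelMat a 0) = ((Fintype.card F : ℂ) + 1) * γ (a : F) := by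
  have h := resS_psFun γ (1 : MulChar F ℂ)
  rw [inv_one, mul_one] at h
  rw [← h, resS_apply, toGL_sBorelMat, ha, psFun_scalar, MulChar.one_apply_coe, mul_one]

theorem rFun_center {γ : MulChar F ℂ} (hγ : γ (-1 : F) = 1)
    {z : Matrix.SpecialLinearGroup (Fin 2) F}
    (hz : z ∈ Subgroup.center (Matrix.SpecialLinearGroup (Fin 2) F)) : rFun γ z = rFun γ 1 := by
  obtain ⟨a, ha, rfl⟩ := center_SL2_cases hz
  rw [rFun_scalar γ a ha, rFun_one_apply]
  rcases unit_inv_eq_self ha with h | h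
  · rw [h, Units.val_one, map_one, mul_one]
  · rw [h, Units.val_neg, Units.val_one, hγ, mul_one]

theorem even_of_rFun {γ : MulChar F ℂ}
    (h : rFun γ (sBorelMat (-1) 0) = rFun γ 1) : γ (-1 : F) = 1 := by
  have h1 : ((-1 : Fˣ))⁻¹ = -1 := inv_neg_one
  rw [rFun_scalar γ (-1) h1, rFun_one_apply, Units.val_neg, Units.val_one] at h
  have hq : ((Fintype.card F : ℂ) + 1) ≠ 0 := Nat.cast_add_one_ne_zero (Fintype.card F)
  exact mul_left_cancel₀ hq (by rw [h, mul_one])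

theorem exists_even_mulChar (hq : 5 < Fintype.card F) :
    ∃ γ : MulChar F ℂ, γ ^ 2 ≠ 1 ∧ γ (-1 : F) = 1 := by
  haveI := isCyclic_mulChar (F := F)
  obtain ⟨g, hg⟩ := IsCyclic.exists_generator (α := MulChar F ℂ)
  have hord : orderOf g = Fintype.card F - 1 := by
    rw [orderOf_eq_card_of_forall_mem_zpowers hg, card_mulChar]
  refine ⟨g ^ 2, ?_, ?_⟩
  · intro h
    rw [← pow_mul] at h
    have h1 := orderOf_dvd_of_pow_eq_one h
    rw [hord] at h1
    have h2 := Nat.le_of_dvd (by norm_num) h1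
    omega
  · rw [MulChar.pow_apply' g (by norm_num) (-1 : F), ← map_pow, neg_one_sq, map_one]

end Center

end Cfsg.Agent.Helper13
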