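import Cfsg.Agent.Helper2.CharOrtho
import Cfsg.Agent.Helper6.ConjChar
import Cfsg.Agent.Helper24.CharInv

set_option autoImplicit false

namespace Cfsg.Agent.Helper13

open Cfsg
open scoped ComplexConjugate

/-- Burnside's lemma for an action given as a function, with the orbit relation given
up to equivalence. -/
theorem burnside_fun {G X : Type*} [Group G] [Fintype G] [Fintype X] [DecidableEq X]
    (a : G → X → X) (h1 : ∀ x, a 1 x = x) (hm : ∀ g h x, a (g * h) x = a g (a h x))
    (r : X → X → Prop) (hr : ∀ x y, r x y ↔ ∃ g : G, y = a g x) :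
    Nat.card (Quot r) * Fintype.card G = ∑ g : G, Fintype.card {x : X // a g x = x} := by
  classical
  letI : MulAction G X := { smul := a, one_smul := h1, mul_smul := hm }
  have h := MulAction.sum_card_fixedBy_eq_card_orbits_mul_card_group G X
  have e : Quot r ≃ Quotient (MulAction.orbitRel G X) := by
    refine Quot.congrRight ?_
    intro x y
    rw [hr, MulAction.orbitRel_apply, MulAction.mem_orbit_iff]
    constructor
    · rintro ⟨g, rfl⟩
      refine ⟨g⁻¹, ?_⟩
      show a g⁻¹ (a g x) = x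
      rw [← hm, inv_mul_cancel, h1]
    · rintro ⟨g, hg⟩
      refine ⟨g⁻¹, ?_⟩
      have hg' : a g y = x := hg
      rw [← hg', ← hm, inv_mul_cancel, h1]
  rw [Nat.card_congr e, Nat.card_eq_fintype_card, ← h]
  apply Finset.sum_congr rfl
  intro g _
  exact Fintype.card_congr (Equiv.refl _)

/-- An element inverting `k` has all its odd powers inverting `k`. -/
theorem inverts_pow_odd {G : Type*} [Group G] {h k : G} (hk : h * k * h⁻¹ = k⁻¹) {m : ℕ}
    (hm : Odd m) : h ^ m * k * (h ^ m)⁻¹ = k⁻¹ := by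
  obtain ⟨j, rfl⟩ := hm
  have e1 : h * k = k⁻¹ * h := by rw [← hk]; group
  have e2 : h * k⁻¹ = k * h := by
    have e3 : h * k⁻¹ * h⁻¹ = k := by
      have e4 : h * k⁻¹ * h⁻¹ = (h * k * h⁻¹)⁻¹ := by group
      rw [e4, hk, inv_inv]
    have e5 : h * k⁻¹ = (h * k⁻¹ * h⁻¹) * h := by group
    rw [e5, e3]
  have h2 : Commute (h ^ 2) k := by
    show h ^ 2 * k = k * h ^ 2
    rw [pow_two, mul_assoc, e1, ← mul_assoc, e2, mul_assoc]
  have h3 : Commute ((h ^ 2) ^ j) k := h2.pow_left j
  have h4 : h ^ (2 * j + 1) = (h ^ 2) ^ j * h := by rw [pow_succ, pow_mul]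
  rw [h4]
  obtain ⟨w, hw⟩ : ∃ w, w = (h ^ 2) ^ j := ⟨_, rfl⟩
  rw [← hw] at h3 ⊢
  have h6 : w * h * k * (w * h)⁻¹ = w * (h * k * h⁻¹) * w⁻¹ := by group
  rw [h6, hk]
  have h5 : Commute w k⁻¹ := h3.inv_right
  rw [h5.eq, mul_assoc, mul_inv_cancel, mul_one]

section

variable {G : Type*} [Group G]

/-- Conjugation by `g⁻¹` on a normal subgroup. -/
def cj (K : Subgroup G) [hK : K.Normal] (g : G) (k : K) : K :=
  ⟨g⁻¹ * k * g, by simpa using hK.conj_mem (k : G) k.2 g⁻¹⟩

theorem cj_coe (K : Subgroup G) [hK : K.Normal] (g : G) (k : K) :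
    ((cj K g k : K) : G) = g⁻¹ * k * g := rfl

theorem cj_mul (K : Subgroup G) [hK : K.Normal] (g h : G) (k : K) :
    cj K (g * h) k = cj K h (cj K g k) := by
  apply Subtype.ext
  simp only [cj_coe]
  group

theorem cj_one (K : Subgroup G) [hK : K.Normal] (k : K) : cj K 1 k = k := by
  apply Subtype.ext
  simp [cj_coe]

theorem cj_inv (K : Subgroup G) [hK : K.Normal] (g : G) (k : K) :
    cj K g k⁻¹ = (cj K g k)⁻¹ := by
  apply Subtype.ext
  simp only [cj_coe, InvMemClass.coe_inv]
  group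

theorem cj_mem (K : Subgroup G) [hK : K.Normal] (n k : K) :
    cj K (n : G) k = n⁻¹ * k * n := by
  apply Subtype.ext
  simp [cj_coe]

/-- For a normal subgroup of odd index: an irreducible character is real and `g`-stable iff
it is fixed by `k ↦ (g⁻¹ k g)⁻¹`. -/
theorem real_fixed_iff (K : Subgroup G) [hK : K.Normal] [Finite G] (hodd : Odd K.index) (g : G)
    {θ : K → ℂ} (hθ : IsIrrCharacter K θ) :
    ((∀ k, (θ k).im = 0) ∧ (∀ k, θ (cj K g k) = θ k)) ↔ ∀ k, θ (cj K g k)⁻¹ = θ k := by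
  have hch : IsCharacter K θ := Helper24.isCharacter_of_irr hθ
  have hcl : IsClassFunction K θ := Helper2.IsCharacter.isClassFunction hch
  constructor
  · rintro ⟨hr, hf⟩ k
    rw [Helper24.char_inv hch, hf, Complex.conj_eq_iff_im]
    exact hr k
  · intro h
    have s1 : ∀ k, θ (cj K g k) = θ k⁻¹ := by
      intro k
      have := h k⁻¹
      rw [cj_inv, inv_inv] at this
      exact this
    have s2 : ∀ k, θ (cj K (g ^ 2) k) = θ k := by
      intro k
      rw [pow_two, cj_mul, s1, h]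
    have s3 : ∀ (j : ℕ) k, θ (cj K ((g ^ 2) ^ j) k) = θ k := by
      intro j
      induction j with
      | zero => intro k; rw [pow_zero, cj_one]
      | succ j ih => intro k; rw [pow_succ, cj_mul, s2, ih]
    obtain ⟨j, hj⟩ := hodd
    have s4 : ∀ k, θ (cj K (g ^ K.index) k) = θ k⁻¹ := by
      intro k
      rw [hj, pow_succ, pow_mul, cj_mul, s1, ← cj_inv, s3]
    have s5 : ∀ k, θ k⁻¹ = θ k := by
      intro k
      rw [← s4]
      have hmem : g ^ K.index ∈ K := Subgroup.pow_index_mem K g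
      have e : cj K (g ^ K.index) k = (⟨g ^ K.index, hmem⟩ : K)⁻¹ * k * (⟨g ^ K.index, hmem⟩ : K)⁻¹⁻¹ := by
        rw [inv_inv]
        exact cj_mem K ⟨g ^ K.index, hmem⟩ k
      rw [e]
      exact hcl k _
    refine ⟨fun k => ?_, fun k => ?_⟩
    · rw [← Complex.conj_eq_iff_im, ← Helper24.char_inv hch, s5]
    · rw [s1, s5]

theorem irr_cj (K : Subgroup G) [hK : K.Normal] [Finite G] (g : G) {θ : K → ℂ}
    (hθ : IsIrrCharacter K θ) : IsIrrCharacter K (θ ∘ cj K g) := by
  haveI : Fintype K := Fintype.ofFinite K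
  have e : θ ∘ cj K g = Helper6.conjFun K g⁻¹ θ := by
    funext k
    rw [Helper6.conjFun_apply, Function.comp_apply]
    congr 1
    apply Subtype.ext
    simp [cj_coe]
  rw [e]
  exact Helper6.isIrrCharacter_conjFun K g⁻¹ hθ

theorem irr_cj_inv (K : Subgroup G) [hK : K.Normal] [Finite G] (g : G) {θ : K → ℂ}
    (hθ : IsIrrCharacter K θ) : IsIrrCharacter K (θ ∘ fun k => (cj K g k)⁻¹) := by
  haveI : Fintype K := Fintype.ofFinite K
  have e : (θ ∘ fun k => (cj K g k)⁻¹) = (fun k => conj (θ k)) ∘ cj K g := by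
    funext k
    show θ (cj K g k)⁻¹ = conj (θ (cj K g k))
    exact Helper24.char_inv (Helper24.isCharacter_of_irr hθ) _
  rw [e]
  exact irr_cj K g (Helper2.isIrrCharacter_conj hθ)

/-- The fibre of `g ↦ (g⁻¹ k g)⁻¹` over a conjugate of `k` (for real `k`) is a translate of
the centralizer. -/
def fiberEquiv (k y c n₀ : G) (h0 : n₀ * k * n₀⁻¹ = k⁻¹) (hc : c * y * c⁻¹ = k) :
    {g : G // (g⁻¹ * k * g)⁻¹ = y} ≃ {z : G // z * k * z⁻¹ = k} where
  toFun g := ⟨c * g.1⁻¹ * n₀, by
    have e : c * g.1⁻¹ * n₀ * k * (c * g.1⁻¹ * n₀)⁻¹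
        = c * (g.1⁻¹ * (n₀ * k * n₀⁻¹) * g.1) * c⁻¹ := by group
    have e2 : g.1⁻¹ * k⁻¹ * g.1 = (g.1⁻¹ * k * g.1)⁻¹ := by group
    rw [e, h0, e2, g.2, hc]⟩
  invFun z := ⟨n₀ * z.1⁻¹ * c, by
    have e : ((n₀ * z.1⁻¹ * c)⁻¹ * k * (n₀ * z.1⁻¹ * c))⁻¹
        = c⁻¹ * (z.1 * (n₀⁻¹ * k⁻¹ * n₀) * z.1⁻¹) * c := by group
    have e3 : n₀⁻¹ * k⁻¹ * n₀ = k := by rw [← h0]; group
    rw [e, e3, z.2, ← hc]
    group⟩
  left_inv g := Subtype.ext (by
    show n₀ * (c * g.1⁻¹ * n₀)⁻¹ * c = g.1
    group)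
  right_inv z := Subtype.ext (by
    show c * (n₀ * z.1⁻¹ * c)⁻¹ * n₀ = z.1
    group)

theorem card_twisted (K : Subgroup G) [hK : K.Normal] [Finite G] (hodd : Odd K.index) (k : K)
    [Decidable (IsConj k k⁻¹)] :
    Nat.card {g : G // IsConj (cj K g k)⁻¹ k}
      = if IsConj k k⁻¹ then
          Nat.card {y : K // IsConj y k} * Nat.card {c : G // c * (k : G) * c⁻¹ = k}
        else 0 := by
  classical
  by_cases hr : IsConj k k⁻¹
  · rw [if_pos hr]
    obtain ⟨n₀, hn₀⟩ := isConj_iff.1 hr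
    have hn₀' : (n₀ : G) * k * (n₀ : G)⁻¹ = (k : G)⁻¹ := by
      have := congrArg Subtype.val hn₀
      simpa using this
    haveI : Fintype {y : K // IsConj y k} := Fintype.ofFinite _
    let f : {g : G // IsConj (cj K g k)⁻¹ k} → {y : K // IsConj y k} :=
      fun g => ⟨(cj K g.1 k)⁻¹, g.2⟩
    rw [← Nat.card_congr (Equiv.sigmaFiberEquiv f), Nat.card_sigma]
    have hfib : ∀ y : {y : K // IsConj y k},
        Nat.card {x // f x = y} = Nat.card {c : G // c * (k : G) * c⁻¹ = k} := by
      intro y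
      obtain ⟨c, hc⟩ := isConj_iff.1 y.2
      have hc' : (c : G) * (y.1 : G) * (c : G)⁻¹ = k := by
        have := congrArg Subtype.val hc
        simpa using this
      refine Nat.card_congr (Equiv.trans ?_
        (fiberEquiv (k : G) (y.1 : G) (c : G) (n₀ : G) hn₀' hc'))
      exact {
        toFun := fun x => ⟨x.1.1, by
          have := congrArg (fun t : {y : K // IsConj y k} => ((t.1 : K) : G)) x.2
          simpa [f, cj_coe] using this⟩
        invFun := fun g => ⟨⟨g.1, by
            have : (cj K g.1 k)⁻¹ = y.1 := Subtype.ext (by simpa [cj_coe] using g.2)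
            rw [this]
            exact y.2⟩, Subtype.ext (Subtype.ext (by simpa [f, cj_coe] using g.2))⟩
        left_inv := fun x => rfl
        right_inv := fun g => rfl }
    rw [Finset.sum_congr rfl (fun y _ => hfib y), Finset.sum_const, Finset.card_univ,
      smul_eq_mul, ← Nat.card_eq_fintype_card]
  · rw [if_neg hr]
    haveI : IsEmpty {g : G // IsConj (cj K g k)⁻¹ k} := by
      refine ⟨fun ⟨g, hg⟩ => hr ?_⟩
      obtain ⟨n, hn⟩ := isConj_iff.1 hg
      have hn' : (n : G) * (g⁻¹ * k * g)⁻¹ * (n : G)⁻¹ = k := by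
        have := congrArg Subtype.val hn
        simpa [cj_coe] using this
      have hinv : ((n : G) * g⁻¹) * k * ((n : G) * g⁻¹)⁻¹ = (k : G)⁻¹ := by
        have e : ((n : G) * g⁻¹) * k * ((n : G) * g⁻¹)⁻¹
            = ((n : G) * (g⁻¹ * k * g)⁻¹ * (n : G)⁻¹)⁻¹ := by group
        rw [e, hn']
      have hp := inverts_pow_odd hinv hodd
      have hmem : ((n : G) * g⁻¹) ^ K.index ∈ K := Subgroup.pow_index_mem K _
      exact isConj_iff.2 ⟨⟨_, hmem⟩, Subtype.ext (by simpa using hp)⟩
    exact Nat.card_of_isEmpty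

/-- For a normal subgroup `K` of odd index in `G`, the numbers of `G`-orbits on real-valued
irreducible characters of `K` and on real elements of `K` coincide. -/
theorem real_orbits_eq (K : Subgroup G) [hK : K.Normal] [Finite G] (hodd : Odd K.index) :
    Nat.card (Quot (fun θ η : {θ : Cfsg.IrrCharacter ↥K //
        (∀ k : ↥K, ((θ : ↥K → ℂ) k).im = 0)} =>
      ∃ g : G, ∀ k k' : ↥K, (k' : G) = g * (k : G) * g⁻¹ →
        (η.1 : ↥K → ℂ) k' = (θ.1 : ↥K → ℂ) k))
    = Nat.card (Quot (fun x y : {x : ↥K // IsConj x x⁻¹} =>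
        ∃ g : G, (y.1 : G) = g * x.1 * g⁻¹)) := by
  classical
  haveI : Fintype G := Fintype.ofFinite G
  haveI : Finite (IrrCharacter K) := Helper24.finite_irrCharacter
  haveI : Fintype (IrrCharacter K) := Fintype.ofFinite _
  let a : G → {θ : IrrCharacter K // ∀ k : K, ((θ : K → ℂ) k).im = 0} →
      {θ : IrrCharacter K // ∀ k : K, ((θ : K → ℂ) k).im = 0} :=
    fun g θ => ⟨⟨(θ.1 : K → ℂ) ∘ cj K g, irr_cj K g θ.1.2⟩, fun k => θ.2 _⟩
  have a1 : ∀ x, a 1 x = x := fun x => Subtype.ext (Subtype.ext (funext fun k => by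
    show (x.1 : K → ℂ) (cj K 1 k) = _
    rw [cj_one]))
  have am : ∀ g h x, a (g * h) x = a g (a h x) := fun g h x =>
    Subtype.ext (Subtype.ext (funext fun k => by
      show (x.1 : K → ℂ) (cj K (g * h) k) = (x.1 : K → ℂ) (cj K h (cj K g k))
      rw [cj_mul]))
  let b : G → {x : K // IsConj x x⁻¹} → {x : K // IsConj x x⁻¹} :=
    fun g x => ⟨MulAut.conjNormal g x.1, by
      have h := (MulAut.conjNormal g : K ≃* K).toMonoidHom.map_isConj x.2
      simpa using h⟩
  have b1 : ∀ x, b 1 x = x := fun x => Subtype.ext (by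
    show MulAut.conjNormal (1 : G) x.1 = x.1
    rw [map_one]
    rfl)
  have bm : ∀ g h x, b (g * h) x = b g (b h x) := fun g h x => Subtype.ext (by
    show MulAut.conjNormal (g * h) x.1 = MulAut.conjNormal g (MulAut.conjNormal h x.1)
    rw [map_mul]
    rfl)
  have B1 := burnside_fun a a1 am
    (fun θ η : {θ : Cfsg.IrrCharacter ↥K // (∀ k : ↥K, ((θ : ↥K → ℂ) k).im = 0)} =>
      ∃ g : G, ∀ k k' : ↥K, (k' : G) = g * (k : G) * g⁻¹ →
        (η.1 : ↥K → ℂ) k' = (θ.1 : ↥K → ℂ) k) (by
    intro x y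
    constructor
    · rintro ⟨g, h⟩
      refine ⟨g, Subtype.ext (Subtype.ext (funext fun k' => ?_))⟩
      exact h (cj K g k') k' (by rw [cj_coe]; group)
    · rintro ⟨g, hg⟩
      refine ⟨g, fun k k' hkk' => ?_⟩
      rw [hg]
      show (x.1 : K → ℂ) (cj K g k') = _
      have e : cj K g k' = k := Subtype.ext (by rw [cj_coe, hkk']; group)
      rw [e])
  have B2 := burnside_fun b b1 bm
    (fun x y : {x : ↥K // IsConj x x⁻¹} => ∃ g : G, (y.1 : G) = g * x.1 * g⁻¹) (by
    intro x y
    constructor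
    · rintro ⟨g, hg⟩
      exact ⟨g, Subtype.ext (Subtype.ext (by rw [hg]; rfl))⟩
    · rintro ⟨g, hg⟩
      exact ⟨g, by rw [hg]; rfl⟩)
  have key : (∑ g : G, Fintype.card {x // a g x = x})
      = ∑ g : G, Fintype.card {x // b g x = x} := by
    have hA : ((∑ g : G, Fintype.card {x // a g x = x} : ℕ) : ℂ)
        = ∑ k : K, if IsConj k k⁻¹ then
            (Nat.card {c : G // c * (k : G) * c⁻¹ = k} : ℂ) else 0 := by
      rw [Nat.cast_sum]
      have h1 : ∀ g : G, (Fintype.card {x // a g x = x} : ℂ)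
          = ∑ k : K, if IsConj (cj K g k)⁻¹ k then
              ((Nat.card {x : K // IsConj x k} : ℂ))⁻¹ else 0 := by
        intro g
        rw [← Helper2.brauer_perm (fun k => (cj K g k)⁻¹) (fun χ hχ => irr_cj_inv K g hχ),
          Nat.card_eq_fintype_card]
        congr 1
        apply Fintype.card_congr
        exact {
          toFun := fun x => ⟨x.1.1, funext fun k =>
            ((real_fixed_iff K hodd g x.1.1.2).1 ⟨x.1.2, fun k =>
              congrFun (congrArg (fun t => (t.1.1 : K → ℂ)) x.2) k⟩) k⟩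
          invFun := fun χ => ⟨⟨χ.1,
            ((real_fixed_iff K hodd g χ.1.2).2 (fun k => congrFun χ.2 k)).1⟩,
            Subtype.ext (Subtype.ext (funext fun k =>
              ((real_fixed_iff K hodd g χ.1.2).2 (fun k => congrFun χ.2 k)).2 k))⟩
          left_inv := fun x => rfl
          right_inv := fun χ => rfl }
      rw [Finset.sum_congr rfl (fun g _ => h1 g), Finset.sum_comm]
      apply Finset.sum_congr rfl
      intro k _
      have h2 : (∑ g : G, if IsConj (cj K g k)⁻¹ k then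
            ((Nat.card {x : K // IsConj x k} : ℂ))⁻¹ else 0)
          = (Nat.card {g : G // IsConj (cj K g k)⁻¹ k} : ℂ)
            * ((Nat.card {x : K // IsConj x k} : ℂ))⁻¹ := by
        rw [Finset.sum_ite, Finset.sum_const, Finset.sum_const_zero, add_zero, nsmul_eq_mul]
        congr 2
        rw [Nat.card_eq_fintype_card, Fintype.card_subtype]
      rw [h2, card_twisted K hodd k]
      by_cases hr : IsConj k k⁻¹
      · rw [if_pos hr, if_pos hr]
        have hpos : 0 < Nat.card {x : K // IsConj x k} := by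
          haveI : Nonempty {x : K // IsConj x k} := ⟨⟨k, IsConj.refl k⟩⟩
          exact Nat.card_pos
        have hne : (Nat.card {x : K // IsConj x k} : ℂ) ≠ 0 := by
          exact_mod_cast hpos.ne'
        push_cast
        field_simp
      · rw [if_neg hr, if_neg hr]
        simp
    have hB : ((∑ g : G, Fintype.card {x // b g x = x} : ℕ) : ℂ)
        = ∑ k : K, if IsConj k k⁻¹ then
            (Nat.card {c : G // c * (k : G) * c⁻¹ = k} : ℂ) else 0 := by
      rw [Nat.cast_sum]
      have h1 : ∀ g : G, (Fintype.card {x // b g x = x} : ℂ)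
          = ∑ k : K, if (IsConj k k⁻¹ ∧ g * (k : G) * g⁻¹ = k) then (1 : ℂ) else 0 := by
        intro g
        rw [Finset.sum_boole, ← Fintype.card_subtype]
        congr 1
        apply Fintype.card_congr
        exact {
          toFun := fun x => ⟨x.1.1, x.1.2, congrArg (fun t => ((t.1 : K) : G)) x.2⟩
          invFun := fun k => ⟨⟨k.1, k.2.1⟩, Subtype.ext (Subtype.ext k.2.2)⟩
          left_inv := fun x => rfl
          right_inv := fun k => rfl }
      rw [Finset.sum_congr rfl (fun g _ => h1 g), Finset.sum_comm]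
      apply Finset.sum_congr rfl
      intro k _
      by_cases hr : IsConj k k⁻¹
      · rw [if_pos hr]
        simp only [hr, true_and]
        rw [Finset.sum_boole, Nat.card_eq_fintype_card, Fintype.card_subtype]
      · rw [if_neg hr]
        apply Finset.sum_eq_zero
        intro g _
        rw [if_neg (fun h => hr h.1)]
    exact_mod_cast hA.trans hB.symm
  have hG : 0 < Fintype.card G := Fintype.card_pos
  exact Nat.eq_of_mul_eq_mul_right hG (B1.trans (key.trans B2.symm))

end

end Cfsg.Agent.Helper13
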