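import Mathlib
import Cfsg.Agent.S4116
import Cfsg.Agent.Helper6.HallCompl

/-!
# TI subgroups that are Hall subgroups of their normalizers

Helper lemmas for the statement that such a subgroup `H` has a normal complement in its
normalizer iff it has one in the whole group, and that it is then isomorphic to a Frobenius
complement when it is not normal.
-/

set_option autoImplicit false
universe u

namespace Cfsg.Agent.Helper13.TIHall

open Cfsg
open scoped Pointwise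

variable {G : Type u} [Group G] [Finite G]

/-- TI: an element conjugating a nontrivial element of `H` into `H` normalizes `H`. -/
theorem mem_normalizer_of_conj (H : Subgroup G) (hTI : Cfsg.IsTISubset (H : Set G))
    (c h : G) (hh : h ∈ H) (h1 : h ≠ 1) (hc : c * h * c⁻¹ ∈ H) :
    c ∈ Subgroup.normalizer (H : Set G) := by
  by_contra hcn
  exact h1 (hTI c hcn h hh hc)

/-- An element of the normalizer of order prime to the index of `H` there lies in `H`. -/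
theorem mem_of_coprime (H : Subgroup G) (k : G) (hk : k ∈ Subgroup.normalizer (H : Set G))
    (hcop : (orderOf k).Coprime (H.subgroupOf (Subgroup.normalizer (H : Set G))).index) :
    k ∈ H := by
  obtain ⟨n, hn⟩ : ∃ n : ℕ, n = (H.subgroupOf (Subgroup.normalizer (H : Set G))).index :=
    ⟨_, rfl⟩
  rw [← hn] at hcop
  have h1 : k ^ n ∈ H := by
    have h2 := Subgroup.pow_index_mem (H.subgroupOf (Subgroup.normalizer (H : Set G))) ⟨k, hk⟩
    rw [Subgroup.mem_subgroupOf, Subgroup.coe_pow, ← hn] at h2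
    exact h2
  have hb := Nat.gcd_eq_gcd_ab (orderOf k) n
  rw [Nat.Coprime.gcd_eq_one hcop] at hb
  have e : k = k ^ ((orderOf k : ℤ) * Nat.gcdA (orderOf k) n
      + (n : ℤ) * Nat.gcdB (orderOf k) n) := by
    rw [← hb]; simp
  rw [e, zpow_add, zpow_mul, zpow_mul, zpow_natCast, zpow_natCast, pow_orderOf_eq_one,
    one_zpow, one_mul]
  exact H.zpow_mem h1 _

/-- An element of `r`-power order commuting with a nontrivial element of `H` lies in `H`. -/
theorem mem_of_commute (H : Subgroup G) (hTI : Cfsg.IsTISubset (H : Set G))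
    (hHall : (Nat.card H).Coprime (H.subgroupOf (Subgroup.normalizer (H : Set G))).index)
    (r j : ℕ) (hr : r ∣ Nat.card H) (s h : G) (hs : orderOf s = r ^ j) (hh : h ∈ H)
    (h1 : h ≠ 1) (hc : Commute s h) : s ∈ H := by
  have hsN : s ∈ Subgroup.normalizer (H : Set G) := by
    apply mem_normalizer_of_conj H hTI s h hh h1
    rw [hc.eq, mul_inv_cancel_right]
    exact hh
  apply mem_of_coprime H s hsN
  rw [hs]
  exact Nat.Coprime.pow_left j (Nat.Coprime.coprime_dvd_left hr hHall)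

/-- For a prime `r` dividing `|H|`, some Sylow `r`-subgroup of `G` lies in `H`. -/
theorem sylow_le (H : Subgroup G) (hTI : Cfsg.IsTISubset (H : Set G))
    (hHall : (Nat.card H).Coprime (H.subgroupOf (Subgroup.normalizer (H : Set G))).index)
    (r : ℕ) [hr : Fact r.Prime] (hrd : r ∣ Nat.card H) :
    ∃ S : Sylow r G, (S : Subgroup G) ≤ H := by
  obtain ⟨y, hy⟩ := exists_prime_orderOf_dvd_card' (G := H) r hrd
  have hy1 : (y : G) ≠ 1 := by
    intro h
    have h2 : y = 1 := Subtype.ext h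
    rw [h2, orderOf_one] at hy
    exact hr.out.one_lt.ne hy
  have hyo : orderOf (y : G) = r := by rw [Subgroup.orderOf_coe]; exact hy
  have hP : IsPGroup r (Subgroup.zpowers (y : G)) := by
    apply IsPGroup.of_card (n := 1)
    rw [Nat.card_zpowers, hyo, pow_one]
  obtain ⟨S, hS⟩ := hP.exists_le_sylow
  refine ⟨S, ?_⟩
  have hyS : (y : G) ∈ (S : Subgroup G) := hS (Subgroup.mem_zpowers _)
  haveI : Nontrivial S := ⟨⟨⟨(y : G), hyS⟩, 1, fun h => hy1 (congrArg Subtype.val h)⟩⟩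
  have hcen : Nontrivial (Subgroup.center S) := IsPGroup.center_nontrivial S.isPGroup'
  obtain ⟨z, hz⟩ := exists_ne (1 : Subgroup.center S)
  have hzG1 : ((z : S) : G) ≠ 1 := by
    intro h
    apply hz
    apply Subtype.ext
    apply Subtype.ext
    exact h
  have hpow : ∀ s : S, ∃ j, orderOf (s : G) = r ^ j := by
    intro s
    obtain ⟨j, hj⟩ := (IsPGroup.iff_orderOf.mp S.isPGroup') s
    exact ⟨j, by rw [← hj, Subgroup.orderOf_coe]⟩
  have hzy : Commute ((z : S) : G) (y : G) := by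
    have hcomm : (⟨(y : G), hyS⟩ : S) * (z : S) = (z : S) * ⟨(y : G), hyS⟩ :=
      (Subgroup.mem_center_iff.mp z.2 ⟨(y : G), hyS⟩)
    exact (congrArg Subtype.val hcomm).symm
  obtain ⟨j, hj⟩ := hpow (z : S)
  have hzH : ((z : S) : G) ∈ H := mem_of_commute H hTI hHall r j hrd _ _ hj y.2 hy1 hzy
  intro s hs
  obtain ⟨j', hj'⟩ := hpow ⟨s, hs⟩
  have hsz : Commute s ((z : S) : G) := by
    have hcomm : (⟨s, hs⟩ : S) * (z : S) = (z : S) * ⟨s, hs⟩ :=
      (Subgroup.mem_center_iff.mp z.2 ⟨s, hs⟩)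
    exact congrArg Subtype.val hcomm
  exact mem_of_commute H hTI hHall r j' hrd s _ hj' hzH hzG1 hsz

/-- A TI subgroup that is a Hall subgroup of its normalizer is a Hall subgroup of `G`. -/
theorem hall (H : Subgroup G) (hTI : Cfsg.IsTISubset (H : Set G))
    (hHall : (Nat.card H).Coprime (H.subgroupOf (Subgroup.normalizer (H : Set G))).index) :
    (Nat.card H).Coprime H.index := by
  by_contra hne
  have hne' : Nat.gcd (Nat.card H) H.index ≠ 1 := hne
  obtain ⟨r, hr, hrd⟩ := Nat.exists_prime_and_dvd hne'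
  have hr1 : r ∣ Nat.card H := hrd.trans (Nat.gcd_dvd_left _ _)
  have hr2 : r ∣ H.index := hrd.trans (Nat.gcd_dvd_right _ _)
  haveI : Fact r.Prime := ⟨hr⟩
  obtain ⟨S, hS⟩ := sylow_le H hTI hHall r hr1
  have h1 : Nat.card S ∣ Nat.card H := Subgroup.card_dvd_of_le hS
  rw [S.card_eq_multiplicity] at h1
  obtain ⟨k, hk⟩ : ∃ k : ℕ, k = (Nat.card G).factorization r := ⟨_, rfl⟩
  rw [← hk] at h1
  have h2 : r ^ (k + 1) ∣ Nat.card H * H.index := by
    rw [pow_succ]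
    exact Nat.mul_dvd_mul h1 hr2
  rw [H.card_mul_index, hk] at h2
  exact Nat.pow_succ_factorization_not_dvd Nat.card_pos.ne' hr h2

/-- A normal complement in the normalizer gives a normal complement in the group. -/
theorem forward (H : Subgroup G) (hTI : Cfsg.IsTISubset (H : Set G))
    (hHall : (Nat.card H).Coprime (H.subgroupOf (Subgroup.normalizer (H : Set G))).index)
    (K : Subgroup (Subgroup.normalizer (H : Set G))) (hKn : K.Normal)
    (hK : K.IsComplement' (H.subgroupOf (Subgroup.normalizer (H : Set G)))) :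
    ∃ M : Subgroup G, M.Normal ∧ M.IsComplement' H := by
  have hall' := hall H hTI hHall
  have hdisj : ∀ k : Subgroup.normalizer (H : Set G), k ∈ K → (k : G) ∈ H → k = 1 := by
    intro k hk hkH
    have h1 : k ∈ K ⊓ H.subgroupOf (Subgroup.normalizer (H : Set G)) :=
      Subgroup.mem_inf.mpr ⟨hk, Subgroup.mem_subgroupOf.mpr hkH⟩
    rw [hK.disjoint.eq_bot] at h1
    exact Subgroup.mem_bot.mp h1
  have hcent : ∀ k : Subgroup.normalizer (H : Set G), k ∈ K → ∀ h : G, h ∈ H →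
      (k : G) * h = h * (k : G) := by
    intro k hk h hh
    have hhN : h ∈ Subgroup.normalizer (H : Set G) := Subgroup.le_normalizer hh
    have h1 : k * ((⟨h, hhN⟩ : Subgroup.normalizer (H : Set G)) * k⁻¹ * ⟨h, hhN⟩⁻¹) ∈ K :=
      K.mul_mem hk (hKn.conj_mem _ (K.inv_mem hk) _)
    have h3 : (k : G) * h * (k : G)⁻¹ ∈ H := (Subgroup.mem_normalizer_iff.mp k.2 h).mp hh
    have h2 : ((k * ((⟨h, hhN⟩ : Subgroup.normalizer (H : Set G)) * k⁻¹ * ⟨h, hhN⟩⁻¹) :
        Subgroup.normalizer (H : Set G)) : G) ∈ H := by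
      have e : ((k * ((⟨h, hhN⟩ : Subgroup.normalizer (H : Set G)) * k⁻¹ * ⟨h, hhN⟩⁻¹) :
          Subgroup.normalizer (H : Set G)) : G) = ((k : G) * h * (k : G)⁻¹) * h⁻¹ := by
        simp only [Subgroup.coe_mul, Subgroup.coe_inv]
        group
      rw [e]; exact H.mul_mem h3 (H.inv_mem hh)
    have h4 := hdisj _ h1 h2
    have h5 : (k : G) * (h * (k : G)⁻¹ * h⁻¹) = 1 := by
      have h6 := congrArg Subtype.val h4
      simpa using h6
    calc (k : G) * h = ((k : G) * (h * (k : G)⁻¹ * h⁻¹)) * (h * (k : G)) := by group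
      _ = h * (k : G) := by rw [h5, one_mul]
  have hsurj : ∀ n : G, n ∈ Subgroup.normalizer (H : Set G) →
      ∃ k : Subgroup.normalizer (H : Set G), k ∈ K ∧ ∃ h ∈ H, n = (k : G) * h := by
    intro n hn
    obtain ⟨⟨k, h⟩, hkh⟩ := hK.2 ⟨n, hn⟩
    refine ⟨k.1, k.2, (h.1 : G), Subgroup.mem_subgroupOf.mp h.2, ?_⟩
    have h6 := congrArg Subtype.val hkh
    simpa using h6.symm
  have hfus : ∀ x ∈ H, ∀ y ∈ H, IsConj x y → ∃ h ∈ H, h * x * h⁻¹ = y := by
    intro x hx y hy hxy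
    obtain ⟨c, hc⟩ := isConj_iff.mp hxy
    by_cases hx1 : x = 1
    · refine ⟨1, H.one_mem, ?_⟩
      rw [← hc, hx1]; simp
    have hcN : c ∈ Subgroup.normalizer (H : Set G) :=
      mem_normalizer_of_conj H hTI c x hx hx1 (by rw [hc]; exact hy)
    obtain ⟨k, hk, h, hh, hkh⟩ := hsurj c hcN
    refine ⟨h, hh, ?_⟩
    have h1 : h * x * h⁻¹ ∈ H := H.mul_mem (H.mul_mem hh hx) (H.inv_mem hh)
    have h2 := hcent k hk _ h1
    rw [← hc, hkh]
    calc h * x * h⁻¹ = ((h * x * h⁻¹) * (k : G)) * (k : G)⁻¹ := by group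
      _ = ((k : G) * (h * x * h⁻¹)) * (k : G)⁻¹ := by rw [h2]
      _ = (k : G) * h * x * ((k : G) * h)⁻¹ := by group
  have helem : ∀ (E : Subgroup G) (p : ℕ), p.Prime → IsElementary p E →
      Nat.card E ∣ Nat.card H → ∃ g : G, E.map (MulAut.conj g).toMonoidHom ≤ H := by
    intro E p _ _ hdiv
    obtain ⟨g, hg⟩ := S4116.result H hall' hTI E (fun q _ hqd => hqd.trans hdiv)
    refine ⟨g⁻¹, ?_⟩
    rintro x ⟨e, he, rfl⟩
    obtain ⟨h, hh, hhe⟩ := hg he
    rw [← hhe]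
    show g⁻¹ * (g * h * g⁻¹) * g⁻¹⁻¹ ∈ H
    have e2 : g⁻¹ * (g * h * g⁻¹) * g⁻¹⁻¹ = h := by group
    rw [e2]; exact hh
  obtain ⟨M, hMn, hsup, hinf⟩ := Cfsg.Agent.Helper6.HallCompl.hall_complement H hall' hfus helem
  refine ⟨M, hMn, ?_⟩
  apply Subgroup.isComplement'_of_disjoint_and_mul_eq_univ (disjoint_iff.mpr hinf)
  haveI := hMn
  rw [← Subgroup.normal_mul, hsup]
  rfl

/-- A normal complement in the group gives a normal complement in the normalizer. -/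
theorem backward (H : Subgroup G) (M : Subgroup G) (hMn : M.Normal) (hM : M.IsComplement' H) :
    ∃ K : Subgroup (Subgroup.normalizer (H : Set G)), K.Normal ∧
      K.IsComplement' (H.subgroupOf (Subgroup.normalizer (H : Set G))) := by
  refine ⟨M.subgroupOf _, hMn.subgroupOf _, ?_⟩
  apply Subgroup.isComplement'_of_disjoint_and_mul_eq_univ
  · rw [disjoint_iff, eq_bot_iff]
    intro x hx
    obtain ⟨hx1, hx2⟩ := Subgroup.mem_inf.mp hx
    rw [Subgroup.mem_subgroupOf] at hx1 hx2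
    have h1 : (x : G) ∈ M ⊓ H := Subgroup.mem_inf.mpr ⟨hx1, hx2⟩
    rw [hM.disjoint.eq_bot, Subgroup.mem_bot] at h1
    rw [Subgroup.mem_bot]
    exact Subtype.ext h1
  · apply Set.eq_univ_of_forall
    intro n
    obtain ⟨⟨m, h⟩, hmh⟩ := hM.2 n.1
    have hmh' : (m : G) * (h : G) = n := hmh
    have hhN : (h : G) ∈ Subgroup.normalizer (H : Set G) := Subgroup.le_normalizer h.2
    have hmN : (m : G) ∈ Subgroup.normalizer (H : Set G) := by
      have e : (m : G) = n * (h : G)⁻¹ := by rw [← hmh']; group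
      rw [e]; exact Subgroup.mul_mem _ n.2 (Subgroup.inv_mem _ hhN)
    refine Set.mem_mul.mpr ⟨⟨m, hmN⟩, ?_, ⟨h, hhN⟩, ?_, ?_⟩
    · exact Subgroup.mem_subgroupOf.mpr m.2
    · exact Subgroup.mem_subgroupOf.mpr h.2
    · exact Subtype.ext hmh'

/-- A proper subgroup of an `r`-group lies in a proper subgroup normalized by the whole group. -/
theorem exists_max_normal (r : ℕ) [Fact r.Prime] (R D : Subgroup G) (hR : IsPGroup r R)
    (hD : D ≤ R) (hne : D ≠ R) :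
    ∃ L : Subgroup G, D ≤ L ∧ L ≤ R ∧ L ≠ R ∧ ∀ x ∈ R, ∀ l ∈ L, x * l * x⁻¹ ∈ L := by
  have hD' : D.subgroupOf R ≠ ⊤ := by
    intro h
    rw [Subgroup.subgroupOf_eq_top] at h
    exact hne (le_antisymm hD h)
  obtain h | ⟨L', hL', hDL'⟩ := eq_top_or_exists_le_coatom (D.subgroupOf R)
  · exact absurd h hD'
  haveI : Group.IsNilpotent R := hR.isNilpotent
  have hL'n : L'.Normal :=
    Subgroup.NormalizerCondition.normal_of_coatom _ Group.normalizerCondition_of_isNilpotent hL'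
  refine ⟨L'.map R.subtype, ?_, ?_, ?_, ?_⟩
  · intro d hd
    exact ⟨⟨d, hD hd⟩, hDL' (Subgroup.mem_subgroupOf.mpr hd), rfl⟩
  · exact Subgroup.map_subtype_le _
  · intro h
    apply hL'.1
    rw [eq_top_iff]
    intro x _
    have hx : (x : G) ∈ L'.map R.subtype := by rw [h]; exact x.2
    obtain ⟨l, hl, hlx⟩ := hx
    have h2 : l = x := Subtype.ext hlx
    rw [← h2]; exact hl
  · rintro x hx l ⟨l', hl', rfl⟩
    exact ⟨⟨x, hx⟩ * l' * ⟨x, hx⟩⁻¹, hL'n.conj_mem l' hl' ⟨x, hx⟩, rfl⟩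

/-- Coprime action: an element `h₁` of order prime to `r` stabilizing the coset `x L₀` of an
`h₁`-invariant subgroup of `r`-power order has a nontrivial power fixing a point of it. -/
theorem exists_fixed (L₀ : Subgroup G) (r m : ℕ) (hr : r.Prime) (hcard : Nat.card L₀ = r ^ m)
    (x h₁ : G) (h1 : h₁ ≠ 1) (hnr : ¬ r ∣ orderOf h₁)
    (hinv : ∀ l ∈ L₀, h₁ * l * h₁⁻¹ ∈ L₀)
    (hP : x⁻¹ * (h₁ * x * h₁⁻¹) ∈ L₀) :
    ∃ l ∈ L₀, ∃ k : ℕ, h₁ ^ k ≠ 1 ∧ Commute (h₁ ^ k) (x * l) := by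
  classical
  have hinvk : ∀ k : ℕ, ∀ l ∈ L₀, h₁ ^ k * l * (h₁ ^ k)⁻¹ ∈ L₀ := by
    intro k
    induction k with
    | zero => intro l hl; simpa using hl
    | succ k ih =>
      intro l hl
      have e : h₁ ^ (k + 1) * l * (h₁ ^ (k + 1))⁻¹ = h₁ * (h₁ ^ k * l * (h₁ ^ k)⁻¹) * h₁⁻¹ := by
        rw [pow_succ']; group
      rw [e]; exact hinv _ (ih l hl)
  have hPk : ∀ k : ℕ, x⁻¹ * (h₁ ^ k * x * (h₁ ^ k)⁻¹) ∈ L₀ := by
    intro k
    induction k with
    | zero => simp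
    | succ k ih =>
      have e : x⁻¹ * (h₁ ^ (k + 1) * x * (h₁ ^ (k + 1))⁻¹)
          = (x⁻¹ * (h₁ * x * h₁⁻¹)) * (h₁ * (x⁻¹ * (h₁ ^ k * x * (h₁ ^ k)⁻¹)) * h₁⁻¹) := by
        rw [pow_succ']; group
      rw [e]; exact L₀.mul_mem hP (hinv _ ih)
  have ho1 : orderOf h₁ ≠ 1 := by rwa [Ne, orderOf_eq_one_iff]
  obtain ⟨q, hq, hqd⟩ := Nat.exists_prime_and_dvd ho1
  haveI : Fact q.Prime := ⟨hq⟩
  obtain ⟨k₀, hk₀⟩ : ∃ k₀ : ℕ, k₀ = orderOf h₁ / q := ⟨_, rfl⟩
  obtain ⟨h, hh⟩ : ∃ h, h = h₁ ^ k₀ := ⟨_, rfl⟩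
  have hoh : orderOf h = q := by
    rw [hh, hk₀]; exact orderOf_pow_orderOf_div (orderOf_pos h₁).ne' hqd
  have hhne : h ≠ 1 := by
    intro h0
    rw [h0, orderOf_one] at hoh
    exact hq.one_lt.ne hoh
  have hinvh : ∀ l ∈ L₀, h * l * h⁻¹ ∈ L₀ := by rw [hh]; exact hinvk _
  have hPh : x⁻¹ * (h * x * h⁻¹) ∈ L₀ := by rw [hh]; exact hPk _
  have hσmem : ∀ l : L₀, x⁻¹ * (h * (x * (l : G)) * h⁻¹) ∈ L₀ := by
    intro l
    have e : x⁻¹ * (h * (x * (l : G)) * h⁻¹) = (x⁻¹ * (h * x * h⁻¹)) * (h * (l : G) * h⁻¹) := by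
      group
    rw [e]; exact L₀.mul_mem hPh (hinvh _ l.2)
  obtain ⟨σ, hσ⟩ : ∃ σ : Function.End L₀, ∀ l : L₀,
      ((σ l : L₀) : G) = x⁻¹ * (h * (x * (l : G)) * h⁻¹) :=
    ⟨fun l => ⟨_, hσmem l⟩, fun l => rfl⟩
  have hσk : ∀ (k : ℕ) (l : L₀),
      (((σ ^ k) l : L₀) : G) = x⁻¹ * (h ^ k * (x * (l : G)) * (h ^ k)⁻¹) := by
    intro k
    induction k with
    | zero =>
      intro l
      rw [pow_zero]
      show ((l : L₀) : G) = _
      simp
    | succ k ih =>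
      intro l
      rw [pow_succ]
      show (((σ ^ k) (σ l) : L₀) : G) = _
      rw [ih, hσ, pow_succ]; group
  have hσq : σ ^ q ^ 1 = 1 := by
    rw [pow_one]
    funext l
    show (σ ^ q) l = l
    apply Subtype.ext
    rw [hσk, ← hoh, pow_orderOf_eq_one]
    simp
  haveI : Fintype L₀ := Fintype.ofFinite _
  have hmod := Equiv.Perm.card_fixedPoints_modEq (f := σ) (p := q) (n := 1) hσq
  obtain ⟨l, hl⟩ : ∃ l : L₀, σ l = l := by
    by_contra hno
    haveI hem : IsEmpty (Function.fixedPoints (σ : L₀ → L₀)) := ⟨fun l => hno ⟨l.1, l.2⟩⟩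
    simp only [Fintype.card_eq_zero] at hmod
    rw [← Nat.card_eq_fintype_card, hcard] at hmod
    have h2 : q ∣ r ^ m := (Nat.modEq_zero_iff_dvd).mp hmod
    have h3 : q ∣ r := hq.dvd_of_dvd_pow h2
    have h4 : q = r := (Nat.prime_dvd_prime_iff_eq hq hr).mp h3
    rw [← h4] at hnr
    exact hnr hqd
  refine ⟨l, l.2, k₀, ?_, ?_⟩
  · rw [← hh]; exact hhne
  · rw [← hh]
    have h5 := hσ l
    rw [hl] at h5
    show h * (x * (l : G)) = x * (l : G) * h
    calc h * (x * (l : G)) = x * (x⁻¹ * (h * (x * (l : G)) * h⁻¹)) * h := by group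
      _ = x * (l : G) * h := by rw [← h5]

/-- The Frobenius group `R H / L₀` built inside `G`. -/
theorem frob_quot (R L₀ H : Subgroup G)
    (hHR : ∀ h ∈ H, ∀ x ∈ R, h * x * h⁻¹ ∈ R)
    (hLR : L₀ ≤ R)
    (hHL : ∀ h ∈ H, ∀ l ∈ L₀, h * l * h⁻¹ ∈ L₀)
    (hRL : ∀ x ∈ R, ∀ l ∈ L₀, x * l * x⁻¹ ∈ L₀)
    (hRH : ∀ x ∈ R, x ∈ H → x = 1)
    (hne : ∃ x ∈ R, x ∉ L₀)
    (hH1 : H ≠ ⊥)
    (hfix : ∀ x ∈ R, ∀ h ∈ H, h ≠ 1 → x⁻¹ * (h * x * h⁻¹) ∈ L₀ → x ∈ L₀) :
    ∃ (F : Type u) (_ : Group F) (_ : Finite F) (C : Subgroup F),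
      Cfsg.IsFrobeniusComplement C ∧ Nonempty (H ≃* C) := by
  obtain ⟨T, hT⟩ : ∃ T : Subgroup G, ∀ t, t ∈ T ↔ ∃ x ∈ R, ∃ h ∈ H, t = x * h := by
    refine ⟨{ carrier := {t | ∃ x ∈ R, ∃ h ∈ H, t = x * h}
              mul_mem' := ?_
              one_mem' := ?_
              inv_mem' := ?_ }, fun t => Iff.rfl⟩
    · rintro a b ⟨x, hx, h, hh, rfl⟩ ⟨x', hx', h', hh', rfl⟩
      exact ⟨x * (h * x' * h⁻¹), R.mul_mem hx (hHR h hh x' hx'), h * h', H.mul_mem hh hh',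
        by group⟩
    · exact ⟨1, R.one_mem, 1, H.one_mem, by simp⟩
    · rintro a ⟨x, hx, h, hh, rfl⟩
      exact ⟨h⁻¹ * x⁻¹ * h⁻¹⁻¹, hHR _ (H.inv_mem hh) _ (R.inv_mem hx), h⁻¹, H.inv_mem hh,
        by group⟩
  have hHT : H ≤ T := fun h hh => (hT h).mpr ⟨1, R.one_mem, h, hh, by simp⟩
  have hRT : R ≤ T := fun x hx => (hT x).mpr ⟨x, hx, 1, H.one_mem, by simp⟩
  haveI hQn : (L₀.subgroupOf T).Normal := by
    refine ⟨fun n hn t => ?_⟩
    rw [Subgroup.mem_subgroupOf] at hn ⊢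
    obtain ⟨x, hx, h, hh, ht⟩ := (hT t).mp t.2
    have e : ((t * n * t⁻¹ : T) : G) = x * (h * (n : G) * h⁻¹) * x⁻¹ := by
      simp only [Subgroup.coe_mul, Subgroup.coe_inv]
      rw [ht]; group
    rw [e]; exact hRL x hx _ (hHL h hh _ hn)
  obtain ⟨ψ, hψ⟩ : ∃ ψ : H →* T ⧸ L₀.subgroupOf T,
      ∀ a : H, ψ a = QuotientGroup.mk (⟨(a : G), hHT a.2⟩ : T) :=
    ⟨(QuotientGroup.mk' (L₀.subgroupOf T)).comp (Subgroup.inclusion hHT), fun a => rfl⟩
  have hmk1 : ∀ t : T, (QuotientGroup.mk t : T ⧸ L₀.subgroupOf T) = 1 ↔ (t : G) ∈ L₀ := by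
    intro t
    rw [QuotientGroup.eq_one_iff, Subgroup.mem_subgroupOf]
  have hinj : Function.Injective ψ := by
    rw [injective_iff_map_eq_one]
    intro a ha
    rw [hψ, hmk1] at ha
    exact Subtype.ext (hRH _ (hLR ha) a.2)
  refine ⟨T ⧸ L₀.subgroupOf T, inferInstance, inferInstance, ψ.range, ⟨?_, ?_, ?_⟩,
    ⟨MonoidHom.ofInjective hinj⟩⟩
  · intro hC
    apply hH1
    rw [eq_bot_iff]
    intro a ha
    have h1 : ψ ⟨a, ha⟩ ∈ ψ.range := ⟨_, rfl⟩
    rw [hC, Subgroup.mem_bot] at h1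
    have h2 := hinj (h1.trans (map_one ψ).symm)
    rw [Subgroup.mem_bot]
    exact congrArg Subtype.val h2
  · intro hC
    obtain ⟨x₀, hx₀, hx₀L⟩ := hne
    have h1 : (QuotientGroup.mk (⟨x₀, hRT hx₀⟩ : T) : T ⧸ L₀.subgroupOf T) ∈ ψ.range := by
      rw [hC]; trivial
    obtain ⟨a, ha⟩ := h1
    rw [hψ, QuotientGroup.eq, Subgroup.mem_subgroupOf] at ha
    have ha' : (a : G)⁻¹ * x₀ ∈ L₀ := ha
    have h2 : (a : G)⁻¹ ∈ R := by
      have e : (a : G)⁻¹ = ((a : G)⁻¹ * x₀) * x₀⁻¹ := by group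
      rw [e]; exact R.mul_mem (hLR ha') (R.inv_mem hx₀)
    have h3 := hRH _ h2 (H.inv_mem a.2)
    rw [h3, one_mul] at ha'
    exact hx₀L ha'
  · intro f hf
    rw [eq_bot_iff]
    intro c hc
    obtain ⟨hc1, hc2⟩ := Subgroup.mem_inf.mp hc
    rw [S4116.mem_conj_smul'] at hc2
    obtain ⟨t, rfl⟩ := QuotientGroup.mk_surjective f
    obtain ⟨x, hx, h₀, hh₀, ht⟩ := (hT t).mp t.2
    have hxL : x ∉ L₀ := by
      intro hxL
      apply hf
      refine ⟨⟨h₀, hh₀⟩, ?_⟩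
      rw [hψ, QuotientGroup.eq, Subgroup.mem_subgroupOf]
      show h₀⁻¹ * (t : G) ∈ L₀
      rw [ht]
      have e : h₀⁻¹ * (x * h₀) = h₀⁻¹ * x * h₀⁻¹⁻¹ := by group
      rw [e]; exact hHL _ (H.inv_mem hh₀) _ hxL
    obtain ⟨a₁, rfl⟩ := hc1
    obtain ⟨a₂, ha₂⟩ := hc2
    rw [hψ, hψ] at ha₂
    have h1 : (QuotientGroup.mk (⟨(a₂ : G), hHT a₂.2⟩ : T) : T ⧸ L₀.subgroupOf T)
        = QuotientGroup.mk (t⁻¹ * ⟨(a₁ : G), hHT a₁.2⟩ * t) := ha₂
    rw [QuotientGroup.eq, Subgroup.mem_subgroupOf] at h1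
    have h2 : (a₂ : G)⁻¹ * ((t : G)⁻¹ * (a₁ : G) * (t : G)) ∈ L₀ := h1
    rw [ht] at h2
    have h3 := hHL h₀ hh₀ _ h2
    obtain ⟨a₃, ha₃⟩ : ∃ a₃ : G, a₃ = h₀ * (a₂ : G)⁻¹ * h₀⁻¹ := ⟨_, rfl⟩
    have ha₃H : a₃ ∈ H := by
      rw [ha₃]; exact H.mul_mem (H.mul_mem hh₀ (H.inv_mem a₂.2)) (H.inv_mem hh₀)
    have h4 : a₃ * (x⁻¹ * (a₁ : G) * x) ∈ L₀ := by
      have e : a₃ * (x⁻¹ * (a₁ : G) * x)
          = h₀ * ((a₂ : G)⁻¹ * ((x * h₀)⁻¹ * (a₁ : G) * (x * h₀))) * h₀⁻¹ := by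
        rw [ha₃]; group
      rw [e]; exact h3
    have h5 : a₃ * (a₁ : G) ∈ R := by
      have e : a₃ * (a₁ : G) = (a₃ * (x⁻¹ * (a₁ : G) * x))
          * (x⁻¹ * ((a₁ : G)⁻¹ * x * (a₁ : G)⁻¹⁻¹)) := by group
      rw [e]
      exact R.mul_mem (hLR h4) (R.mul_mem (R.inv_mem hx) (hHR _ (H.inv_mem a₁.2) _ hx))
    have h6 := hRH _ h5 (H.mul_mem ha₃H a₁.2)
    have h7 : a₃ = (a₁ : G)⁻¹ := eq_inv_of_mul_eq_one_left h6
    rw [h7] at h4
    have h8 : x⁻¹ * ((a₁ : G) * x * (a₁ : G)⁻¹) ∈ L₀ := by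
      have e : x⁻¹ * ((a₁ : G) * x * (a₁ : G)⁻¹)
          = (a₁ : G) * ((a₁ : G)⁻¹ * (x⁻¹ * (a₁ : G) * x)) * (a₁ : G)⁻¹ := by group
      rw [e]; exact hHL _ a₁.2 _ h4
    have h9 : (a₁ : G) = 1 := by
      by_contra hne1
      exact hxL (hfix x hx _ a₁.2 hne1 h8)
    have h10 : a₁ = 1 := Subtype.ext h9
    rw [h10, map_one]
    exact Subgroup.one_mem _

/-- An `H`-invariant Sylow `r`-subgroup of the normal complement. -/
theorem sylow_invariant (H : Subgroup G) (hTI : Cfsg.IsTISubset (H : Set G))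
    (hall' : (Nat.card H).Coprime H.index) (M : Subgroup G) (hMn : M.Normal)
    (hM : M.IsComplement' H) (r : ℕ) [Fact r.Prime] :
    ∃ R : Subgroup G, R ≤ M ∧ Nat.card R = r ^ (Nat.card M).factorization r ∧
      ∀ h ∈ H, ∀ x ∈ R, h * x * h⁻¹ ∈ R := by
  haveI := hMn
  obtain ⟨R₀⟩ : Nonempty (Sylow r M) := inferInstance
  have hR₀card : Nat.card R₀ = r ^ (Nat.card M).factorization r := R₀.card_eq_multiplicity
  obtain ⟨R₁, hR₁⟩ : ∃ R₁ : Subgroup G, R₁ = (R₀ : Subgroup M).map M.subtype := ⟨_, rfl⟩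
  have hR₁card : Nat.card R₁ = r ^ (Nat.card M).factorization r := by
    rw [hR₁, Subgroup.card_map_of_injective M.subtype_injective]
    exact hR₀card
  have hR₁M : R₁ ≤ M := by rw [hR₁]; exact Subgroup.map_subtype_le _
  have hfr : Subgroup.normalizer (R₁ : Set G) ⊔ M = ⊤ := by
    rw [hR₁]; exact Sylow.normalizer_sup_eq_top R₀
  obtain ⟨Y, hY⟩ : ∃ Y : Subgroup G, Y = Subgroup.normalizer (R₁ : Set G) := ⟨_, rfl⟩
  rw [← hY] at hfr
  have hMidx : M.index = Nat.card H := hM.symm.index_eq_card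
  have hQidx : (M.subgroupOf Y).index = Nat.card H := by
    have h1 : M.relIndex (Y ⊔ M) = M.relIndex Y := Subgroup.relIndex_sup_right _ _
    rw [hfr, Subgroup.relIndex_top_right] at h1
    rw [← hMidx, h1]
    rfl
  have hQcard : Nat.card (M.subgroupOf Y) ∣ Nat.card M := by
    have h1 : Nat.card ((M.subgroupOf Y).map Y.subtype) = Nat.card (M.subgroupOf Y) :=
      Subgroup.card_map_of_injective Y.subtype_injective
    rw [← h1, Subgroup.subgroupOf_map_subtype]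
    exact Subgroup.card_dvd_of_le inf_le_left
  have hMcard : H.index = Nat.card M := hM.index_eq_card
  have hcopQ : (Nat.card (M.subgroupOf Y)).Coprime (M.subgroupOf Y).index := by
    rw [hQidx]
    apply Nat.Coprime.coprime_dvd_left hQcard
    rw [← hMcard]
    exact hall'.symm
  obtain ⟨X', hX'⟩ := Subgroup.exists_right_complement'_of_coprime hcopQ
  have hX'card : Nat.card X' = Nat.card H := by
    rw [← hQidx]; exact (hX'.symm.index_eq_card).symm
  obtain ⟨X, hX⟩ : ∃ X : Subgroup G, X = X'.map Y.subtype := ⟨_, rfl⟩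
  have hXcard : Nat.card X = Nat.card H := by
    rw [hX, Subgroup.card_map_of_injective Y.subtype_injective]; exact hX'card
  have hXY : X ≤ Y := by rw [hX]; exact Subgroup.map_subtype_le _
  obtain ⟨g, hg⟩ := S4116.result H hall' hTI X
    (fun q _ hqd => by rw [hXcard] at hqd; exact hqd)
  have hXeq : X = H.map (MulAut.conj g).toMonoidHom := by
    apply Subgroup.eq_of_le_of_card_ge hg
    rw [Subgroup.card_map_of_injective (MulAut.conj g).injective, hXcard]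
  refine ⟨R₁.map (MulAut.conj g⁻¹).toMonoidHom, ?_, ?_, ?_⟩
  · rintro x ⟨y, hy, rfl⟩
    exact hMn.conj_mem y (hR₁M hy) g⁻¹
  · rw [Subgroup.card_map_of_injective (MulAut.conj g⁻¹).injective]; exact hR₁card
  · rintro h hh x ⟨y, hy, rfl⟩
    have h1 : g * h * g⁻¹ ∈ Y := by
      apply hXY
      rw [hXeq]
      exact ⟨h, hh, rfl⟩
    rw [hY] at h1
    have h2 := (Subgroup.mem_normalizer_iff.mp h1 y).mp hy
    refine ⟨_, h2, ?_⟩
    show g⁻¹ * ((g * h * g⁻¹) * y * (g * h * g⁻¹)⁻¹) * g⁻¹⁻¹ = h * (g⁻¹ * y * g⁻¹⁻¹) * h⁻¹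
    group

/-- A non-normal TI Hall subgroup with a normal complement is isomorphic to a Frobenius
complement. -/
theorem frob_of_complement (H : Subgroup G) (hTI : Cfsg.IsTISubset (H : Set G))
    (hall' : (Nat.card H).Coprime H.index) (hnn : ¬ H.Normal)
    (M : Subgroup G) (hMn : M.Normal) (hM : M.IsComplement' H) :
    ∃ (F : Type u) (_ : Group F) (_ : Finite F) (C : Subgroup F),
      Cfsg.IsFrobeniusComplement C ∧ Nonempty (H ≃* C) := by
  classical
  have hMcard : H.index = Nat.card M := hM.index_eq_card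
  have hcop : (Nat.card H).Coprime (Nat.card M) := by rw [← hMcard]; exact hall'
  have hMH : ∀ x ∈ M, x ∈ H → x = 1 := by
    intro x hx hxH
    have h1 : x ∈ M ⊓ H := Subgroup.mem_inf.mpr ⟨hx, hxH⟩
    rw [hM.disjoint.eq_bot] at h1
    exact Subgroup.mem_bot.mp h1
  have hMN : ¬ M ≤ Subgroup.normalizer (H : Set G) := by
    intro hle
    apply hnn
    have htop : Subgroup.normalizer (H : Set G) = ⊤ := by
      rw [eq_top_iff]
      intro n _
      obtain ⟨⟨m, h⟩, hmh⟩ := hM.2 n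
      have hmh' : (m : G) * (h : G) = n := hmh
      rw [← hmh']
      exact Subgroup.mul_mem _ (hle m.2) (Subgroup.le_normalizer h.2)
    exact Subgroup.normalizer_eq_top_iff.mp htop
  obtain ⟨r, hr, hval⟩ : ∃ r : ℕ, r.Prime ∧
      (Nat.card (M ⊓ Subgroup.normalizer (H : Set G) : Subgroup G)).factorization r
        < (Nat.card M).factorization r := by
    by_contra hall2
    apply hMN
    have hle : (Nat.card M).factorization
        ≤ (Nat.card (M ⊓ Subgroup.normalizer (H : Set G) : Subgroup G)).factorization := by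
      intro p
      by_cases hp : p.Prime
      · by_contra hlt
        exact hall2 ⟨p, hp, Nat.lt_of_not_ge hlt⟩
      · rw [Nat.factorization_eq_zero_of_not_prime _ hp]; exact Nat.zero_le _
    have hdvd := (Nat.factorization_le_iff_dvd Nat.card_pos.ne' Nat.card_pos.ne').mp hle
    have heq : M ⊓ Subgroup.normalizer (H : Set G) = M :=
      Subgroup.eq_of_le_of_card_ge inf_le_left (Nat.le_of_dvd Nat.card_pos hdvd)
    rw [← heq]; exact inf_le_right
  haveI : Fact r.Prime := ⟨hr⟩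
  obtain ⟨R, hRM, hRcard, hHR⟩ := sylow_invariant H hTI hall' M hMn hM r
  have hRN : ¬ R ≤ Subgroup.normalizer (H : Set G) := by
    intro hle
    have h1 : R ≤ M ⊓ Subgroup.normalizer (H : Set G) := le_inf hRM hle
    have h2 := Subgroup.card_dvd_of_le h1
    rw [hRcard] at h2
    have h3 := (hr.pow_dvd_iff_le_factorization Nat.card_pos.ne').mp h2
    omega
  have hRp : IsPGroup r R := IsPGroup.of_card hRcard
  have hDne : R ⊓ Subgroup.normalizer (H : Set G) ≠ R := by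
    intro h
    apply hRN
    rw [← h]; exact inf_le_right
  obtain ⟨L, hDL, hLR, hLne, hLn⟩ :=
    exists_max_normal r R (R ⊓ Subgroup.normalizer (H : Set G)) hRp inf_le_left hDne
  obtain ⟨L₀, hL₀⟩ : ∃ L₀ : Subgroup G, ∀ l, l ∈ L₀ ↔ ∀ h ∈ H, h * l * h⁻¹ ∈ L := by
    refine ⟨{ carrier := {l | ∀ h ∈ H, h * l * h⁻¹ ∈ L}
              mul_mem' := ?_
              one_mem' := ?_
              inv_mem' := ?_ }, fun l => Iff.rfl⟩
    · intro a b ha hb h hh
      have e : h * (a * b) * h⁻¹ = (h * a * h⁻¹) * (h * b * h⁻¹) := by group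
      rw [e]; exact L.mul_mem (ha h hh) (hb h hh)
    · intro h hh
      have e : h * 1 * h⁻¹ = 1 := by group
      rw [e]; exact L.one_mem
    · intro a ha h hh
      have e : h * a⁻¹ * h⁻¹ = (h * a * h⁻¹)⁻¹ := by group
      rw [e]; exact L.inv_mem (ha h hh)
  have hL₀L : L₀ ≤ L := by
    intro l hl
    have h1 := (hL₀ l).mp hl 1 H.one_mem
    simpa using h1
  have hHL : ∀ h ∈ H, ∀ l ∈ L₀, h * l * h⁻¹ ∈ L₀ := by
    intro t ht l hl
    rw [hL₀]
    intro h hh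
    have e : h * (t * l * t⁻¹) * h⁻¹ = (h * t) * l * (h * t)⁻¹ := by group
    rw [e]; exact (hL₀ l).mp hl _ (H.mul_mem hh ht)
  have hRL : ∀ x ∈ R, ∀ l ∈ L₀, x * l * x⁻¹ ∈ L₀ := by
    intro x hx l hl
    rw [hL₀]
    intro h hh
    have e : h * (x * l * x⁻¹) * h⁻¹ = (h * x * h⁻¹) * (h * l * h⁻¹) * (h * x * h⁻¹)⁻¹ := by
      group
    rw [e]; exact hLn _ (hHR h hh x hx) _ ((hL₀ l).mp hl h hh)
  have hDL₀ : ∀ d ∈ R, d ∈ Subgroup.normalizer (H : Set G) → d ∈ L₀ := by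
    intro d hd hdN
    rw [hL₀]
    intro h hh
    apply hDL
    exact Subgroup.mem_inf.mpr ⟨hHR h hh d hd, Subgroup.mul_mem _
      (Subgroup.mul_mem _ (Subgroup.le_normalizer hh) hdN)
      (Subgroup.inv_mem _ (Subgroup.le_normalizer hh))⟩
  have hRH : ∀ x ∈ R, x ∈ H → x = 1 := fun x hx hxH => hMH x (hRM hx) hxH
  have hne : ∃ x ∈ R, x ∉ L₀ := by
    by_contra hno
    apply hLne
    apply le_antisymm hLR
    intro x hx
    by_contra hxL
    exact hno ⟨x, hx, fun h => hxL (hL₀L h)⟩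
  have hH1 : H ≠ ⊥ := by
    intro h
    apply hnn
    rw [h]
    infer_instance
  have hL₀card : Nat.card L₀ ∣ r ^ (Nat.card M).factorization r := by
    rw [← hRcard]; exact Subgroup.card_dvd_of_le (hL₀L.trans hLR)
  obtain ⟨m, -, hm⟩ := (Nat.dvd_prime_pow hr).mp hL₀card
  have hrM : r ∣ Nat.card M := by
    apply Nat.dvd_of_factorization_pos
    omega
  have hfix : ∀ x ∈ R, ∀ h ∈ H, h ≠ 1 → x⁻¹ * (h * x * h⁻¹) ∈ L₀ → x ∈ L₀ := by
    intro x hx h hh h1 hP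
    have hnr : ¬ r ∣ orderOf h := by
      intro hrd
      have h2 : r ∣ Nat.card H := by
        have e3 : orderOf (⟨h, hh⟩ : H) = orderOf h := Subgroup.orderOf_mk h hh
        rw [← e3] at hrd
        exact hrd.trans (orderOf_dvd_natCard _)
      have h3 := Nat.dvd_gcd h2 hrM
      rw [Nat.Coprime.gcd_eq_one hcop] at h3
      exact hr.one_lt.ne' (Nat.dvd_one.mp h3)
    obtain ⟨l, hl, k, hk1, hcomm⟩ := exists_fixed L₀ r m hr hm x h h1 hnr (hHL h hh) hP
    have hxlN : x * l ∈ Subgroup.normalizer (H : Set G) := by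
      apply mem_normalizer_of_conj H hTI (x * l) (h ^ k) (H.pow_mem hh k) hk1
      rw [← hcomm.eq, mul_inv_cancel_right]
      exact H.pow_mem hh k
    have hxl : x * l ∈ L₀ := hDL₀ _ (R.mul_mem hx (hLR (hL₀L hl))) hxlN
    have e : x = (x * l) * l⁻¹ := by group
    rw [e]; exact L₀.mul_mem hxl (L₀.inv_mem hl)
  exact frob_quot R L₀ H hHR (hL₀L.trans hLR) hHL hRL hRH hne hH1 hfix

end Cfsg.Agent.Helper13.TIHall
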